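import Cfsg.Agent.H994.KE.Base_m3
import Cfsg.Agent.BpExc.Fr
import Cfsg.Agent.H496.Gen.PairSet
import Cfsg.Agent.BpExc.AsmN_m3
import Cfsg.Agent.H238.ExcCore
import Cfsg.Agent.Nodes.SimplyLaced
import Cfsg.Agent.Nodes.KindChev
import Cfsg.Agent.Nodes.ClsNorm
import Cfsg.Agent.H720.TwFr
import Cfsg.Agent.H496.Mono.Base
import Cfsg.Agent.Lib.Refl
import Cfsg.Agent.ChevalleyStructure.SignedSymm
import Cfsg.Prelude.Def_ChevD4
import Cfsg.Prelude.Def_ChevE8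
import Cfsg.Agent.Nodes.NormalForm
import Cfsg.Agent.Nodes.LeviStd
import Cfsg.Agent.BpExc.TowChev
import Cfsg.Agent.H129.TorusChar
import Cfsg.Agent.BpExc.RowsN
import Cfsg.Agent.S1054
import Cfsg.Agent.S1055
import Cfsg.Agent.H225.Mono.End_m3
import Cfsg.Agent.H696.GmnThree
import Cfsg.Agent.ChevFast.E8
import Cfsg.Agent.FastGrp
import Cfsg.Agent.Prune
set_option linter.all false

section
prune_inst 0x7ffcf9fbafb8bddfffff7e7ffed9dffc19d0dfffe6dffd4b7fe8e1ef2b9f23000dc56bad8de002fe1ec2e23410b87853fb7eefffea6bdc7ffffd5ff41ffbee5ff5f7b10011d084240f320fff83f07f8a7f3fffffffffffffffffffffffffffbeffffffffffff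

-- part: H496/Gen/T2Main
section
prune_inst 0x1020010004220000001800002000000020000000000000001061000000021022090020010900080150100000000000000000001000200000000004000000000000801400f3890008c60006001000000000000000000000000000000000041000000000000
set_option linter.all false
open scoped Cfsg.Agent.FastGrp

-- part: H496/Gen/T2Comb
section
/-!
# Long roots and products of reflections (helper496, hub S2187, piece T2)

* `LongR cs h θ` : `θ` is a root and `|⟨b, θ^∨⟩| ≤ 1` for all roots `b ≠ ± θ`; invariant under the automorphisms of the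
  root system;
* `exists_move` : two long roots `x`, `θ` of a closed symmetric set `S`, not orthogonal, are conjugate under the group
  generated by the reflections of the roots of `S`;
* `exists_move_half` : the same if `x`, `θ` are orthogonal and `2 c = θ - x`.
-/

set_option autoImplicit false
set_option linter.unusedSectionVars false

namespace Cfsg.Agent.H496.Gen.T2

open CoxeterSystem Cfsg.Agent.ChevalleyStructure.CoxeterGeom Cfsg.Agent.Tits.Roots Cfsg.Agent.Tits.Core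
  Cfsg.Agent.Tits.RootComb Cfsg.Agent.Tits.Exchange Cfsg.Agent.Nodes.Reps Cfsg.Agent.Nodes.BNOf
  Cfsg.Agent.Nodes.StabComb Cfsg.Agent.Nodes.SubComb Cfsg.Agent.Nodes.Coroot Cfsg.Agent.H123.ExcComb
  Cfsg.Agent.BpExc.Fr

variable {I W : Type*} [Fintype I] [DecidableEq I] [Group W] [Finite W] {M : CoxeterMatrix I}
  {cs : CoxeterSystem M W} {A : I → I → ℤ} {h : IsCartan M A}

/-- `θ` is a long root. -/
def LongR (cs : CoxeterSystem M W) (h : IsCartan M A) (θ : I → ℤ) : Prop :=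
  IsRoot cs h θ ∧ ∀ b, IsRoot cs h b → b ≠ θ → b ≠ -θ → -1 ≤ cpr cs h b θ ∧ cpr cs h b θ ≤ 1

theorem LongR.g {g : (I → ℤ) ≃+ (I → ℤ)} (hg : ∀ a, IsRoot cs h (g a) ↔ IsRoot cs h a) {θ : I → ℤ}
    (H : LongR cs h θ) : LongR cs h (g θ) := by
  refine ⟨(hg _).2 H.1, fun b hb h1 h2 => ?_⟩
  obtain ⟨a, rfl⟩ := g.surjective b
  rw [cpr_g hg ((hg _).1 hb) H.1]
  refine H.2 a ((hg _).1 hb) (fun e => h1 (by rw [e])) fun e => h2 (by rw [e, map_neg])

theorem LongR.neg {θ : I → ℤ} (H : LongR cs h θ) : LongR cs h (-θ) := by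
  refine ⟨H.1.neg, fun b hb h1 h2 => ?_⟩
  rw [neg_neg] at h2
  obtain ⟨h3, h4⟩ := H.2 b hb h2 h1
  rw [cpr_neg_right cs h b H.1]
  omega

/-- a root orthogonal to a long root has no root combinations with it -/
theorem LongR.not_root {θ : I → ℤ} (H : LongR cs h θ) {a : I → ℤ} (ha : IsRoot cs h a) (h0 : cpr cs h a θ = 0)
    {m n : ℕ} (hm : 0 < m) (hn : 0 < n) : ¬ IsRoot cs h (m • a + n • θ) := by
  intro hr
  have h1 : cpr cs h (m • a + n • θ) θ = 2 * n := by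
    rw [← natCast_zsmul, ← natCast_zsmul, cpr_add cs h _ _ H.1, cpr_smul cs h _ _ H.1, cpr_smul cs h _ _ H.1, h0,
      cpr_self cs h H.1]
    ring
  have h2 : m • a + n • θ = θ := by
    by_contra hne
    have hne' : m • a + n • θ ≠ -θ := by
      intro e
      rw [e, cpr_self_neg H.1] at h1
      omega
    have := (H.2 _ hr hne hne').2
    rw [h1] at this
    omega
  rw [h2, cpr_self cs h H.1] at h1
  have h3 : n = 1 := by omega
  rw [h3, one_smul] at h2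
  have h4 : m • a = 0 := by
    have := congrArg (fun z => z - θ) h2
    simpa only [_root_.nsmul_eq_mul, _root_.add_sub_cancel_right, _root_.sub_self] using this
  exact ha.ne_zero ((smul_eq_zero.1 h4).resolve_left hm.ne')

/-- the group generated by the reflections: properties used -/
def ReflIn (cs : CoxeterSystem M W) (h : IsCartan M A) (S : Set (I → ℤ)) (V : Subgroup W) : Prop :=
  ∀ a ∈ S, ∃ v ∈ V, ∀ x, rep cs h v x = x - cpr cs h x a • a

/-- `c = θ - x` with `⟨x, θ^∨⟩ > 0`: the reflection maps `x` to `θ` -/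
theorem cpr_diff {x θ : I → ℤ} (Hx : LongR cs h x) (Hθ : LongR cs h θ) (hne : x ≠ θ) (h0 : 0 < cpr cs h x θ) :
    IsRoot cs h (θ - x) ∧ cpr cs h x (θ - x) = -1 := by
  have hne' : x ≠ -θ := by
    rintro rfl
    rw [cpr_self_neg Hθ.1] at h0
    omega
  have h1 : cpr cs h x θ = 1 := by
    have := (Hθ.2 x Hx.1 hne hne').2
    omega
  have h0' := (cpr_pos_comm Hx.1 Hθ.1).1 h0
  have h2 : cpr cs h θ x = 1 := by
    have := (Hx.2 θ Hθ.1 hne.symm fun e => hne' (by rw [e, neg_neg])).2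
    omega
  have h3 : IsRoot cs h (θ - x) := sub_root Hθ.1 Hx.1 hne.symm h0'
  refine ⟨h3, ?_⟩
  have h4 : cpr cs h (θ - x) θ = 1 := by rw [cpr_sub Hθ.1, cpr_self cs h Hθ.1, h1]; norm_num
  have h5 : cpr cs h (θ - x) x = -1 := by rw [cpr_sub Hx.1, cpr_self cs h Hx.1, h2]; norm_num
  have h6 : 0 < cpr cs h θ (θ - x) := (cpr_pos_comm h3 Hθ.1).1 (by rw [h4]; norm_num)
  have h7 : cpr cs h x (θ - x) < 0 := by
    have h8 : 0 < cpr cs h (-x) (θ - x) := (cpr_pos_comm h3 Hx.1.neg).1 (by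
      rw [cpr_neg_right cs h _ Hx.1, h5]; norm_num)
    rw [cpr_neg cs h _ h3] at h8
    omega
  have h8 : cpr cs h θ (θ - x) - cpr cs h x (θ - x) = 2 := by rw [← cpr_sub h3, cpr_self cs h h3]
  omega

/-- **Non-orthogonal long roots.** -/
theorem exists_move {S : Set (I → ℤ)} {V : Subgroup W} (hV : ReflIn cs h S V) (hneg : ∀ a ∈ S, -a ∈ S)
    (hsub : ∀ a ∈ S, ∀ b ∈ S, IsRoot cs h (a - b) → a - b ∈ S) {x θ : I → ℤ} (Hx : LongR cs h x)
    (Hθ : LongR cs h θ) (hxS : x ∈ S) (hθS : θ ∈ S) (h0 : cpr cs h x θ ≠ 0) : ∃ v ∈ V, rep cs h v x = θ := by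
  -- positive case
  have pos : ∀ {x : I → ℤ}, LongR cs h x → x ∈ S → 0 < cpr cs h x θ → ∃ v ∈ V, rep cs h v x = θ := by
    intro x Hx hxS h0
    by_cases hne : x = θ
    · exact ⟨1, one_mem _, by rw [map_one, Module.End.one_apply, hne]⟩
    obtain ⟨h1, h2⟩ := cpr_diff Hx Hθ hne h0
    obtain ⟨v, hv, hvx⟩ := hV _ (hsub _ hθS _ hxS h1)
    refine ⟨v, hv, ?_⟩
    rw [hvx, h2]
    module
  rcases lt_or_gt_of_ne h0 with h1 | h1
  · -- negative case
    obtain ⟨v, hv, hvx⟩ := pos Hx.neg (hneg _ hxS) (by rw [cpr_neg cs h _ Hθ.1]; omega)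
    obtain ⟨v', hv', hvx'⟩ := hV _ hθS
    refine ⟨v' * v, mul_mem hv' hv, ?_⟩
    rw [map_neg] at hvx
    have h2 : rep cs h v x = -θ := by rw [← hvx, neg_neg]
    rw [rep_mul_apply, h2, hvx', cpr_self_neg Hθ.1]
    module
  · exact pos Hx hxS h1

/-- **Orthogonal roots with a half difference.** -/
theorem exists_move_half {S : Set (I → ℤ)} {V : Subgroup W} (hV : ReflIn cs h S V) {x θ c : I → ℤ}
    (hc : c ∈ S) (h2c : c + c = θ - x) (h0 : cpr cs h x c = -2) : ∃ v ∈ V, rep cs h v x = θ := by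
  obtain ⟨v, hv, hvx⟩ := hV _ hc
  refine ⟨v, hv, ?_⟩
  rw [hvx, h0]
  have h1 : x - (-2 : ℤ) • c = x + (c + c) := by module
  rw [h1, h2c]
  abel

end Cfsg.Agent.H496.Gen.T2
end

-- part: H496/Gen/T2Frame
section
/-!
# Frames of toral families (helper496, hub S2187, piece T2)

`Y = D.group k`, `σ` a frame automorphism of Frobenius type, `x : ι → Y` a family conjugate into the torus.

* `Frm hp cs σ x z c γ` : `z⁻¹ x i z ∈ TT`, `z⁻¹ σ(z) = c`, `Fr … (conj c * σ) γ`;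
* `Frm.conj` : change of the frame by an element of `N`; `Frm.lang` : by an element of `Sup XX S` (Lang's theorem);
* `Frm.fin` : `g θ = θ`, `γ θ = θ`, `θ` long and dominant, `χ_θ = 1` on the family: then a conjugate of the family by an
  element of `Y^σ` centralises `XX θ` and `XX (-θ)`.
-/

set_option autoImplicit false
set_option linter.unusedSectionVars false

namespace Cfsg.Agent.H496.Gen.T2

open CoxeterSystem Cfsg Cfsg.Lie Cfsg.Lie.ChevalleyDatum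
open Cfsg.Agent.ChevalleyStructure Cfsg.Agent.ChevalleyStructure.Elts Cfsg.Agent.ChevalleyStructure.CoxeterGeom
  Cfsg.Agent.ChevalleyStructure.CoxeterGeomTypes Cfsg.Agent.ChevalleyStructure.NPerm
open Cfsg.Agent.Tits.Roots Cfsg.Agent.Tits.Core Cfsg.Agent.Nodes Cfsg.Agent.Nodes.Reps Cfsg.Agent.Nodes.BNOf
  Cfsg.Agent.Nodes.RGDChev Cfsg.Agent.Nodes.Bruhat Cfsg.Agent.Nodes.StabComb Cfsg.Agent.Nodes.Coroot
  Cfsg.Agent.Nodes.SubComb
open Cfsg.Agent.KFacts.RgdField Cfsg.Agent.KFacts.RgdChevCoord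
open Cfsg.Agent.BpExc Cfsg.Agent.BpExc.TorCent Cfsg.Agent.BpExc.TorChev Cfsg.Agent.BpExc.Tow
open Cfsg.Agent.BpExc.TowChev Cfsg.Agent.BpExc.Fr Cfsg.Agent.BpExc.LangFr Cfsg.Agent.BpExc.HX
open Cfsg.Agent.BpExc.NChev Cfsg.Agent.BpExc.NInst
open Cfsg.Agent.H123.ExcComb Cfsg.Agent.H696.GmnToral Cfsg.Agent.H496.Gen.PairSet

universe u v w

variable {D : ChevalleyDatum} {l : ℕ} {M : CoxeterMatrix (Fin l)} (hp : IsType D l M) {k : Type u} [Field k]
  {W : Type v} [Group W] (cs : CoxeterSystem M W)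

/-- A frame for the family `x`. -/
structure Frm (σ : MulAut ↥(D.group k)) {ι : Type w} (x : ι → ↥(D.group k)) (z c : ↥(D.group k))
    (γ : (Fin l → ℤ) ≃+ (Fin l → ℤ)) : Prop where
  tor : ∀ i, z⁻¹ * x i * z ∈ TT D k
  eq : z⁻¹ * σ z = c
  fr : Fr cs hp.isCartan (TT D k) (XX D l k) (MulAut.conj c * σ) γ

variable {hp cs} {σ : MulAut ↥(D.group k)} {ι : Type w} {x : ι → ↥(D.group k)} {z c : ↥(D.group k)}
  {γ : (Fin l → ℤ) ≃+ (Fin l → ℤ)}

theorem Frm.comp (F : Frm hp cs σ x z c γ) {κ : Type*} (f : κ → ι) : Frm hp cs σ (x ∘ f) z c γ :=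
  ⟨fun i => F.tor (f i), F.eq, F.fr⟩

theorem Frm.fix (F : Frm hp cs σ x z c γ) {i : ι} (hi : σ (x i) = x i) :
    (MulAut.conj c * σ) (z⁻¹ * x i * z) = z⁻¹ * x i * z := by
  show c * σ (z⁻¹ * x i * z) * c⁻¹ = _
  rw [map_mul, map_mul, map_inv, hi, ← F.eq]
  group

section

variable {r e : ℕ} [Fact r.Prime] [CharP k r] [IsAlgClosed k] (hk : LocFin k)

include hk in
/-- change of the frame by an element of `N` -/
theorem Frm.conj (F : Frm hp cs σ x z c γ) {v : W} {n : ↥(D.group k)}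
    (hn : Rp cs (tow hp cs hk r (k := k)).nsys v n) :
    Frm hp cs σ x (z * n⁻¹) (n * c * (σ n)⁻¹)
      ((repAut cs hp.isCartan v).symm.trans (γ.trans (repAut cs hp.isCartan v))) := by
  have hTL := TL_eq hp hk
  have hXL := XL_eq hp hk
  have F1 := Fr.conj (tow hp cs hk r) hn
  rw [hTL, hXL] at F1
  refine ⟨fun i => ?_, ?_, ?_⟩
  · have h1 := (F1.tor (z⁻¹ * x i * z)).2 (F.tor i)
    rw [MulAut.conj_apply] at h1
    have e1 : (z * n⁻¹)⁻¹ * x i * (z * n⁻¹) = n * (z⁻¹ * x i * z) * n⁻¹ := by group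
    rw [e1]
    exact h1
  · rw [map_mul, map_inv, ← F.eq]
    group
  · have h1 := (F1.mul F.fr).mul F1.inv
    have e1 : MulAut.conj n * (MulAut.conj c * σ) * (MulAut.conj n)⁻¹ = MulAut.conj (n * c * (σ n)⁻¹) * σ := by
      apply MulEquiv.ext
      intro y
      have h2 : (MulAut.conj n)⁻¹ y = n⁻¹ * y * n := by rw [← map_inv, MulAut.conj_apply, inv_inv]
      show n * (c * σ ((MulAut.conj n)⁻¹ y) * c⁻¹) * n⁻¹ = n * c * (σ n)⁻¹ * σ y * (n * c * (σ n)⁻¹)⁻¹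
      rw [h2, map_mul, map_mul, map_inv]
      group
    rw [e1] at h1
    exact h1

include hk in
/-- change of the frame by Lang's theorem -/
theorem Frm.lang (F : Frm hp cs σ x z c γ) (he : 0 < e) (hσ : IsFrob r e σ) {S : Set (Fin l → ℤ)}
    (hS : ∀ a ∈ S, IsRoot cs hp.isCartan a) (hg : ∀ a ∈ S, γ a ∈ S)
    (hc : ∀ y ∈ RGD.Sup (XX D l k) S, ∀ i, y * (z⁻¹ * x i * z) = z⁻¹ * x i * z * y) {v : W} {m : ↥(D.group k)}
    (hm : m ∈ RGD.Sup (XX D l k) S) (hv : Rp cs (tow hp cs hk r (k := k)).nsys v m) :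
    ∃ y ∈ RGD.Sup (XX D l k) S, Frm hp cs σ x (z * y) (m * c) (γ.trans (repAut cs hp.isCartan v)) ∧
      ∀ i, (z * y)⁻¹ * x i * (z * y) = z⁻¹ * x i * z := by
  have hTL := TL_eq hp hk
  have hXL := XL_eq hp hk
  have F1 := Fr.conj (tow hp cs hk r) hv
  rw [hTL, hXL] at F1
  obtain ⟨y, hy, e1⟩ := lang_fr hp cs he (hσ.conj_mul c) F.fr hS hg hm
  have hyt : ∀ i, (z * y)⁻¹ * x i * (z * y) = z⁻¹ * x i * z := by
    intro i
    have h1 := hc y hy i
    calc (z * y)⁻¹ * x i * (z * y) = y⁻¹ * ((z⁻¹ * x i * z) * y) := by group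
      _ = y⁻¹ * (y * (z⁻¹ * x i * z)) := by rw [h1]
      _ = _ := by group
  refine ⟨y, hy, ⟨fun i => by rw [hyt]; exact F.tor i, ?_, ?_⟩, hyt⟩
  · have h2 : m = y⁻¹ * (c * σ y * c⁻¹) := e1
    rw [map_mul, h2]
    have h3 : σ z = z * c := by rw [← F.eq]; group
    rw [h3]
    group
  · have h1 := F1.mul F.fr
    have e2 : MulAut.conj m * (MulAut.conj c * σ) = MulAut.conj (m * c) * σ := by
      rw [← mul_assoc, ← map_mul]
    rw [e2] at h1
    exact h1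

end

/-! ### representatives in parabolic subgroups -/

section Rep

variable {r : ℕ} [Fact r.Prime] [CharP k r] (hk : LocFin k)

include hk in
/-- the simple reflections are represented in the rank one groups -/
theorem exists_simple_rep [Finite W] (i : Fin l) : ∃ m ∈ XX D l k (sr i) ⊔ XX D l k (-sr i),
    Rp cs (tow hp cs hk r (k := k)).nsys (cs.simple i) m := by
  have hTL := TL_eq hp hk
  have hXL := XL_eq hp hk
  have H := tow hp cs hk r (k := k)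
  obtain ⟨j⟩ := H.ne
  have h1 := TorCent.n_mem (H.rgd j) i
  have ha := isRoot_sr cs hp.isCartan i
  have hTn : Tj hp j ≤ Subgroup.normalizer ((Xj hp j (sr i) ⊔ Xj hp j (-sr i) : Subgroup ↥(D.group k)) :
      Set ↥(D.group k)) := by
    intro s hs
    rw [mem_normalizer_iff_cj, cj_sup, (H.rgd j).tor (sr i) ha s hs, (H.rgd j).tor (-sr i) ha.neg s hs]
  have h4 : nc hp k i ∈ ((Tj hp j ⊔ (Xj hp j (sr i) ⊔ Xj hp j (-sr i)) : Subgroup ↥(D.group k)) :
      Set ↥(D.group k)) := h1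
  rw [Subgroup.coe_mul_of_left_le_normalizer_right _ _ hTn, Set.mem_mul] at h4
  obtain ⟨s, hs, u, hu, e⟩ := h4
  refine ⟨u, ?_, H.rp_up (j := j) ?_⟩
  · rw [← hXL]
    exact sup_le_sup (le_XL j _) (le_XL j _) hu
  · have h5 := (rp_of_mem (cs := cs) (hN := (H.rgd j).nsys) (inv_mem hs)).mul (rp_simple cs (H.rgd j).nsys i)
    rw [one_mul] at h5
    have h6 : s⁻¹ * nc hp k i = u := by rw [← e]; group
    rwa [h6] at h5

include hk in
/-- the elements of `W_J` are represented in the group generated by the root groups of `J` -/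
theorem exists_rep_WJ [Finite W] {J : Set (Fin l)} {S : Set (Fin l → ℤ)} (hS : ∀ j ∈ J, sr j ∈ S ∧ -sr j ∈ S)
    {v : W} (hv : v ∈ WJ cs J) :
    ∃ m ∈ RGD.Sup (XX D l k) S, Rp cs (tow hp cs hk r (k := k)).nsys v m := by
  let V : Subgroup W :=
    { carrier := {v | ∃ m ∈ RGD.Sup (XX D l k) S, Rp cs (tow hp cs hk r (k := k)).nsys v m}
      one_mem' := ⟨1, one_mem _, rp_one⟩
      mul_mem' := by
        rintro a b ⟨m, hm, hm'⟩ ⟨m', hm1, hm2⟩
        exact ⟨m * m', mul_mem hm hm1, hm'.mul hm2⟩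
      inv_mem' := by
        rintro a ⟨m, hm, hm'⟩
        exact ⟨m⁻¹, inv_mem hm, hm'.inv⟩ }
  have h1 : WJ cs J ≤ V := by
    unfold WJ
    rw [Subgroup.closure_le]
    rintro _ ⟨j, hj, rfl⟩
    obtain ⟨m, hm, hm'⟩ := exists_simple_rep (hp := hp) (cs := cs) (r := r) hk j
    exact ⟨m, (sup_le (RGD.le_Sup (hS j hj).1) (RGD.le_Sup (hS j hj).2) :
      XX D l k (sr j) ⊔ XX D l k (-sr j) ≤ RGD.Sup (XX D l k) S) hm, hm'⟩
  exact h1 hv

end Rep

/-! ### the end -/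

section Fin

variable {r e : ℕ} [Fact r.Prime] [CharP k r] [IsAlgClosed k] (hk : LocFin k)

/-- the roots orthogonal to `θ` -/
def S0 (hp : IsType D l M) (cs : CoxeterSystem M W) (θ : Fin l → ℤ) : Set (Fin l → ℤ) :=
  {a | IsRoot cs hp.isCartan a ∧ cpr cs hp.isCartan a θ = 0}

theorem S0_comm [Finite W] {θ : Fin l → ℤ} (Hθ : LongR cs hp.isCartan θ) {y : ↥(D.group k)}
    (hy : y ∈ RGD.Sup (XX D l k) (S0 hp cs θ)) {u : ↥(D.group k)} (hu : u ∈ XX D l k θ) : y * u = u * y := by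
  have h1 : RGD.Sup (XX D l k) (S0 hp cs θ) ≤ Subgroup.centralizer {u} := by
    refine RGD.Sup_le fun a ha => ?_
    intro b hb
    rw [Subgroup.mem_centralizer_singleton_iff]
    refine (H238.ExcCore.commute_of_sum hp cs ha.1 Hθ.1 ?_ ?_ (fun m n hm hn => ?_) hb hu).eq
    · rintro rfl
      have := ha.2
      rw [cpr_self cs hp.isCartan ha.1] at this
      omega
    · rintro rfl
      have := ha.2
      rw [cpr_self_neg Hθ.1] at this
      omega
    · exact Hθ.not_root ha.1 ha.2 hm hn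
  exact Subgroup.mem_centralizer_singleton_iff.1 (h1 hy)

theorem S0_neg [Finite W] {θ : Fin l → ℤ} (hθ : IsRoot cs hp.isCartan θ) : S0 hp cs (-θ) = S0 hp cs θ := by
  ext a
  constructor
  · rintro ⟨h1, h2⟩
    rw [cpr_neg_right cs _ _ hθ, neg_eq_zero] at h2
    exact ⟨h1, h2⟩
  · rintro ⟨h1, h2⟩
    refine ⟨h1, ?_⟩
    rw [cpr_neg_right cs _ _ hθ, neg_eq_zero]
    exact h2

include hk in
/-- **The end of the argument.** -/
theorem Frm.fin (hZ : Subgroup.center ↥(D.group k) = ⊥) (he : 0 < e) (hσ : IsFrob r e σ)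
    {g : (Fin l → ℤ) ≃+ (Fin l → ℤ)} (Fσ : Fr cs hp.isCartan (TT D k) (XX D l k) σ g) {θ : Fin l → ℤ}
    (Hθ : LongR cs hp.isCartan θ) (hdom : Dom (cartanOf D l) θ) (hgθ : g θ = θ) (hγθ : γ θ = θ)
    (F : Frm hp cs σ x z c γ) (hx : ∀ i, ch hp θ (z⁻¹ * x i * z) = 1) :
    ∃ v, σ v = v ∧ ∀ i, ∀ y ∈ XX D l k θ ⊔ XX D l k (-θ), v * x i * v⁻¹ * y = y * (v * x i * v⁻¹) := by
  have := finite_W hp cs
  have hTL := TL_eq hp hk
  have hXL := XL_eq hp hk
  have H := tow hp cs hk r (k := k)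
  -- the element of `W`
  obtain ⟨w, hw, hwa⟩ := rep_of_fr hp cs hk r Fσ F.fr
  have hwθ : rep cs hp.isCartan w θ = θ := by
    have := hwa θ Hθ.1
    rw [hgθ, hγθ] at this
    exact this.symm
  have hwJ := mem_WJ_of_rep (cs := cs) (h := hp.isCartan) hdom hwθ
  obtain ⟨m, hm, hwm⟩ := exists_rep_WJ (hp := hp) (k := k) (r := r) hk (S := S0 hp cs θ) (fun j hj => by
    have h1 : cpr cs hp.isCartan (sr j) θ = 0 := by
      rw [cpr_zero_comm cs _ (isRoot_sr cs _ j) Hθ.1, cpr_sr]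
      exact mem_orth.1 hj
    refine ⟨⟨isRoot_sr cs _ j, h1⟩, (isRoot_sr cs _ j).neg, ?_⟩
    rw [cpr_neg cs _ _ Hθ.1, h1, neg_zero]) hwJ
  -- Lang's theorem
  have ht' : m⁻¹ * c ∈ TT D k := by rw [← hTL]; exact hwm.unique hw
  obtain ⟨s, hs, hs'⟩ := torus_lang hp cs hk hZ he hσ Fσ ht'
  have hsn := H.T_le_normalizer (S := S0 hp cs θ) (fun a ha => ha.1) (x := s) (by rw [hTL]; exact hs)
  rw [hXL] at hsn
  have hn₁ : s * m * s⁻¹ ∈ RGD.Sup (XX D l k) (S0 hp cs θ) := (Subgroup.mem_normalizer_iff.1 hsn m).1 hm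
  obtain ⟨y₃, hy₃, e3⟩ := lang_fr hp cs he hσ Fσ (S := S0 hp cs θ) (fun a ha => ha.1) (fun a ha => by
    refine ⟨(Fσ.root a).2 ha.1, ?_⟩
    have := cpr_g Fσ.root ha.1 Hθ.1
    rw [hgθ] at this
    rw [this]
    exact ha.2) hn₁
  -- the fixed element
  have hσ3 : σ y₃ = y₃ * (s * m * s⁻¹) := by rw [e3]; group
  have hσs : σ s = s * (m⁻¹ * c) := by rw [hs']; group
  have hσz : σ z = z * c := by rw [← F.eq]; group
  refine ⟨y₃ * s * z⁻¹, ?_, fun i y hy => ?_⟩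
  · rw [map_mul, map_mul, map_inv, hσ3, hσs, hσz]
    group
  · have hti := F.tor i
    obtain ⟨t, ht⟩ : ∃ t, t = z⁻¹ * x i * z := ⟨_, rfl⟩
    rw [← ht] at hti
    have hxi := hx i
    rw [← ht] at hxi
    have e1 : y₃ * s * z⁻¹ * x i * (y₃ * s * z⁻¹)⁻¹ = y₃ * (s * t * s⁻¹) * y₃⁻¹ := by rw [ht]; group
    have e2 : s * t * s⁻¹ = t := by rw [TT_comm hp s hs t hti]; group
    rw [e1, e2]
    -- `t` commutes with `y`, `y₃` commutes with `y`
    have h1 : XX D l k θ ⊔ XX D l k (-θ) ≤ Subgroup.centralizer {t, y₃} := by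
      have hC := coordsL hp cs hk r (k := k)
      refine sup_le ?_ ?_
      · intro u hu
        rw [Subgroup.mem_centralizer_iff]
        rintro _ (rfl | rfl)
        · obtain ⟨a, rfl⟩ := ((hC.coord θ Hθ.1).mem u).1 hu
          have h2 := ch_comm hp cs hk r Hθ.1 hti a
          rw [hxi, one_mul, mul_inv_eq_iff_eq_mul] at h2
          exact h2
        · exact S0_comm Hθ hy₃ hu
      · intro u hu
        rw [Subgroup.mem_centralizer_iff]
        rintro _ (rfl | rfl)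
        · obtain ⟨a, rfl⟩ := ((hC.coord _ Hθ.neg.1).mem u).1 hu
          have h2 := ch_comm hp cs hk r Hθ.neg.1 hti a
          rw [ch_neg hp cs hk r Hθ.1 hti, hxi, inv_one, one_mul, mul_inv_eq_iff_eq_mul] at h2
          exact h2
        · exact S0_comm Hθ.neg (by rw [S0_neg Hθ.1]; exact hy₃) hu
    have h2 := Subgroup.mem_centralizer_iff.1 (h1 hy)
    have h3 : t * y = y * t := h2 t (by simp)
    have h4 : y₃ * y = y * y₃ := h2 y₃ (by simp)
    have h5 : y₃⁻¹ * y = y * y₃⁻¹ := by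
      rw [inv_mul_eq_iff_eq_mul, ← mul_assoc, h4, mul_inv_cancel_right]
    calc y₃ * t * y₃⁻¹ * y = y₃ * t * (y₃⁻¹ * y) := by group
      _ = y₃ * (t * y) * y₃⁻¹ := by rw [h5]; group
      _ = y₃ * y * t * y₃⁻¹ := by rw [h3]; group
      _ = y * (y₃ * t * y₃⁻¹) := by rw [h4]; group

/-- sums of roots vanishing on the family -/
theorem SxS_add (r : ℕ) [Fact r.Prime] [CharP k r] (hk : LocFin k) {t : ι → ↥(D.group k)} (ht : ∀ i, t i ∈ TT D k)
    {a b : Fin l → ℤ} (ha : a ∈ SxS cs hp.isCartan (ch hp) t) (hb : b ∈ SxS cs hp.isCartan (ch hp) t)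
    (hr : IsRoot cs hp.isCartan (a + b)) : a + b ∈ SxS cs hp.isCartan (ch hp) t := by
  refine ⟨hr, fun i => ?_⟩
  obtain ⟨φ, h0, hadd, hφ⟩ := chAddL hp cs hk r (t i) (ht i)
  rw [hφ _ hr, hadd, ← hφ a ha.1, ← hφ b hb.1, ha.2, hb.2, one_mul]

include hk in
/-- **The main step.** -/
theorem Frm.main [Finite ι] (hZ : Subgroup.center ↥(D.group k) = ⊥) (he : 0 < e) (hσ : IsFrob r e σ)
    {g : (Fin l → ℤ) ≃+ (Fin l → ℤ)} (Fσ : Fr cs hp.isCartan (TT D k) (XX D l k) σ g) {θ : Fin l → ℤ}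
    (Hθ : LongR cs hp.isCartan θ) (hdom : Dom (cartanOf D l) θ) (hgθ : g θ = θ) (hσx : ∀ i, σ (x i) = x i)
    (F : Frm hp cs σ x z c γ) (hx : ∀ i, ch hp θ (z⁻¹ * x i * z) = 1)
    (h0 : cpr cs hp.isCartan (γ θ) θ ≠ 0 ∨ ∃ a, IsRoot cs hp.isCartan a ∧ a + a = θ - γ θ ∧
      cpr cs hp.isCartan (γ θ) a = -2 ∧ ∀ i, ch hp a (z⁻¹ * x i * z) = 1) :
    ∃ v, σ v = v ∧ ∀ i, ∀ y ∈ XX D l k θ ⊔ XX D l k (-θ), v * x i * v⁻¹ * y = y * (v * x i * v⁻¹) := by
  have := finite_W hp cs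
  have hTL := TL_eq hp hk
  have hXL := XL_eq hp hk
  have H := tow hp cs hk r (k := k)
  have C : Coords cs hp.isCartan (TL (Tj hp (k := k))) (nc hp k) (XL (Xj hp (k := k))) (xc hp) (ch hp) := by
    rw [hTL, hXL]; exact coordsL hp cs hk r
  have hA' : ChAdd cs hp.isCartan (TL (Tj hp (k := k))) (ch (K := k) hp) := by rw [hTL]; exact chAddL hp cs hk r
  obtain ⟨t, ht⟩ : ∃ t : ι → ↥(D.group k), t = fun i => z⁻¹ * x i * z := ⟨_, rfl⟩
  have hti : ∀ i, z⁻¹ * x i * z = t i := fun i => by rw [ht]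
  have htT : ∀ i, t i ∈ TT D k := fun i => by rw [← hti]; exact F.tor i
  have htT' : ∀ i, t i ∈ TL (Tj hp (k := k)) := fun i => by rw [hTL]; exact htT i
  have hfix : ∀ i, (MulAut.conj c * σ) (t i) = t i := fun i => by rw [← hti]; exact F.fix (hσx i)
  have F' : Fr cs hp.isCartan (TL (Tj hp (k := k))) (XL (Xj hp (k := k))) (MulAut.conj c * σ) γ := by
    rw [hTL, hXL]; exact F.fr
  have hmem := fun a => mem_SxS C F' htT' hfix a
  obtain ⟨S, hS⟩ : ∃ S, S = SxS cs hp.isCartan (ch hp) t := ⟨_, rfl⟩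
  have hθS : θ ∈ S := by rw [hS]; exact ⟨Hθ.1, fun i => by rw [← hti]; exact hx i⟩
  have hγS : γ θ ∈ S := by rw [hS, hmem, ← hS]; exact hθS
  have hneg : ∀ a ∈ S, -a ∈ S := fun a ha => by
    rw [hS] at ha ⊢
    exact SxS_neg C hA' htT' ha
  have hsub : ∀ a ∈ S, ∀ b ∈ S, IsRoot cs hp.isCartan (a - b) → a - b ∈ S := by
    intro a ha b hb hr
    have hb' := hneg b hb
    rw [hS] at ha hb' ⊢
    rw [sub_eq_add_neg] at hr ⊢
    exact SxS_add r hk htT ha hb' hr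
  -- the group of the represented elements
  let V : Subgroup W :=
    { carrier := {v | ∃ m ∈ MMS cs hp.isCartan (XL (Xj hp (k := k))) (ch hp) t,
        Rp cs (tow hp cs hk r (k := k)).nsys v m}
      one_mem' := ⟨1, one_mem _, rp_one⟩
      mul_mem' := by
        rintro a b ⟨m, hm, hm'⟩ ⟨m', hm1, hm2⟩
        exact ⟨m * m', mul_mem hm hm1, hm'.mul hm2⟩
      inv_mem' := by
        rintro a ⟨m, hm, hm'⟩
        exact ⟨m⁻¹, inv_mem hm, hm'.inv⟩ }
  have hV : ReflIn cs hp.isCartan S V := by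
    intro a ha
    rw [hS] at ha
    obtain ⟨w, i, hw, hwV⟩ := exists_rfl_MMS H C hA' htT' ha
    refine ⟨_, hwV, fun y => ?_⟩
    rw [rep_rfl'_eq, ← hw]
  obtain ⟨v, ⟨m, hm, hvm⟩, hvθ⟩ : ∃ v ∈ V, rep cs hp.isCartan v (γ θ) = θ := by
    rcases h0 with h0 | ⟨a, ha, h2a, hca, hat⟩
    · exact exists_move hV hneg hsub (Hθ.g F.fr.root) Hθ hγS hθS h0
    · refine exists_move_half hV ?_ h2a hca
      rw [hS]
      exact ⟨ha, fun i => by rw [← hti]; exact hat i⟩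
  -- Lang's theorem
  rw [hXL] at hm
  have hm' : m ∈ RGD.Sup (XX D l k) S := by rw [hS]; exact hm
  obtain ⟨y, hy, F2, hty⟩ := F.lang hk he hσ (S := S) (fun a ha => by rw [hS] at ha; exact ha.1)
    (fun a ha => by rw [hS] at ha ⊢; exact (hmem a).2 ha) (fun y hy i => by
      rw [hti]
      refine MMS_comm C htT' ?_ i
      rw [hXL]
      rw [hS] at hy
      exact hy) hm' hvm
  refine F2.fin hk hZ he hσ Fσ Hθ hdom hgθ hvθ fun i => ?_
  rw [hty]
  exact hx i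

end Fin

end Cfsg.Agent.H496.Gen.T2
end

-- part: H496/Gen/T2Root
section
/-!
# Automorphisms of root systems moving every root to an orthogonal one (helper496, hub S2187, piece T2)

* `sq_neg` : simply laced, connected: if `γ b ⟂ b` for all roots `b`, then `γ ^ 2 = -1`;
* `no_sq_neg_odd` : impossible in odd rank; `no_sq_neg_rad` : impossible if the form has a one-dimensional radical modulo 3
  (`E₆`).
-/

set_option autoImplicit false
set_option linter.unusedSectionVars false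

namespace Cfsg.Agent.H496.Gen.T2

open CoxeterSystem Cfsg.Agent.ChevalleyStructure.CoxeterGeom Cfsg.Agent.Tits.Roots Cfsg.Agent.Tits.Core
  Cfsg.Agent.Tits.RootComb Cfsg.Agent.Tits.Exchange Cfsg.Agent.Nodes.Reps Cfsg.Agent.Nodes.BNOf
  Cfsg.Agent.Nodes.StabComb Cfsg.Agent.Nodes.SubComb Cfsg.Agent.Nodes.Coroot Cfsg.Agent.H123.ExcComb
  Cfsg.Agent.BpExc.Fr

variable {I W : Type*} [Fintype I] [DecidableEq I] [Group W] [Finite W] {M : CoxeterMatrix I}
  {cs : CoxeterSystem M W} {A : I → I → ℤ} {h : IsCartan M A}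

/-- a vector orthogonal to all simple roots is `0` -/
theorem eq_zero_of_pairing (cs : CoxeterSystem M W) (h : IsCartan M A) {x : I → ℤ} (hx : ∀ i, pairing A i x = 0) :
    x = 0 := by
  have := Fintype.ofFinite W
  by_contra hne
  have h1 := form_pos cs h hne
  have h2 : ∀ k, form cs h x (sr k) = 0 := by
    intro k
    have h3 := (form_sr_nonneg_iff cs h k x).2 (hx k).ge
    by_contra h4
    have h5 : 0 < form cs h x (sr k) := lt_of_le_of_ne h3 (Ne.symm h4)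
    have := (form_sr_pos_iff cs h k x).1 h5
    rw [hx k] at this
    exact lt_irrefl _ this
  rw [form_eq_sum, Finset.sum_eq_zero (fun k _ => by rw [h2, mul_zero])] at h1
  exact lt_irrefl _ h1

section SL

variable (hSL : ∀ x y, IsRoot cs h x → IsRoot cs h y → cpr cs h x y = cpr cs h y x)

include hSL

theorem longR_of_sl {x : I → ℤ} (hx : IsRoot cs h x) : LongR cs h x := by
  refine ⟨hx, fun b hb h1 h2 => ?_⟩
  have h3 := Cfsg.Agent.KFacts.RgdSL.cpr_mul_lt hb hx h1 h2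
  rw [hSL x b hx hb] at h3
  constructor <;> nlinarith only [h3, h]

theorem cpr_add_right {x y y' : I → ℤ} (hx : IsRoot cs h x) (hy : IsRoot cs h y) (hy' : IsRoot cs h y')
    (hyy : IsRoot cs h (y + y')) : cpr cs h x (y + y') = cpr cs h x y + cpr cs h x y' := by
  rw [hSL _ _ hx hyy, cpr_add cs h _ _ hx, hSL _ _ hy hx, hSL _ _ hy' hx]

/-- **`γ b ⟂ b` for all roots `b` : `γ ^ 2 = -1`.** -/
theorem sq_neg {γ : (I → ℤ) ≃+ (I → ℤ)} (hγ : ∀ a, IsRoot cs h (γ a) ↔ IsRoot cs h a)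
    (hconn : ∀ i j, i ≠ j → pairing A i (sr j) = 0 → ∃ d, IsRoot cs h d ∧ pairing A i d = -1 ∧ pairing A j d = -1)
    (H : ∀ b, IsRoot cs h b → cpr cs h (γ b) b = 0) (x : I → ℤ) : γ (γ x) = -x := by
  have hγ' : ∀ a, IsRoot cs h (γ.symm a) ↔ IsRoot cs h a := fun a => by
    rw [← hγ (γ.symm a), AddEquiv.apply_symm_apply]
  -- the vector `γ b + γ⁻¹ b`
  have key : ∀ b d, IsRoot cs h b → IsRoot cs h d → cpr cs h d b = -1 →
      cpr cs h (γ b + γ.symm b) d = 0 := by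
    intro b d hb hd hdb
    have hne : d ≠ -b := by
      rintro rfl
      rw [cpr_self_neg hb] at hdb
      omega
    have hr : IsRoot cs h (d + b) := add_root hd hb hne (by rw [hdb]; norm_num)
    have h1 := H _ hr
    rw [map_add, cpr_add cs h _ _ hr, cpr_add_right hSL ((hγ d).2 hd) hd hb hr,
      cpr_add_right hSL ((hγ b).2 hb) hd hb hr, H d hd, H b hb] at h1
    have h2 : cpr cs h (γ.symm b) d = cpr cs h (γ d) b := by
      have h3 := cpr_g hγ ((hγ' b).2 hb) hd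
      rw [AddEquiv.apply_symm_apply] at h3
      rw [← h3, hSL _ _ hb ((hγ d).2 hd)]
    rw [cpr_add cs h _ _ hd, h2]
    omega
  have key0 : ∀ b, IsRoot cs h b → cpr cs h (γ b + γ.symm b) b = 0 := by
    intro b hb
    have h3 := cpr_g hγ ((hγ' b).2 hb) hb
    rw [AddEquiv.apply_symm_apply, hSL _ _ hb ((hγ b).2 hb), H b hb] at h3
    rw [cpr_add cs h _ _ hb, H b hb, ← h3, add_zero]
  have key2 : ∀ j, γ (sr j) + γ.symm (sr j) = 0 := by
    intro j
    have hj := isRoot_sr cs h j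
    refine eq_zero_of_pairing cs h fun i => ?_
    have hi := isRoot_sr cs h i
    rw [← cpr_sr cs h]
    by_cases hij : i = j
    · rw [hij]
      exact key0 _ hj
    by_cases h0 : pairing A i (sr j) = 0
    · obtain ⟨d, hd, h1, h2⟩ := hconn i j hij h0
      have hr : IsRoot cs h (d + sr i) := add_root hd hi (by
        rintro rfl
        rw [← cpr_sr cs h, cpr_self_neg hi] at h1
        omega) (by rw [cpr_sr, h1]; norm_num)
      have h3 : cpr cs h (d + sr i) (sr j) = -1 := by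
        rw [cpr_add cs h _ _ hj, cpr_sr, h2, hSL _ _ hi hj, cpr_sr, h0, add_zero]
      have h4 := key _ _ hj hr h3
      have h5 := key _ _ hj hd (by rw [cpr_sr, h2])
      rw [cpr_add cs h _ _ hr, cpr_add_right hSL ((hγ _).2 hj) hd hi hr, cpr_add_right hSL ((hγ' _).2 hj) hd hi hr] at h4
      rw [cpr_add cs h _ _ hd] at h5
      rw [cpr_add cs h _ _ hi]
      omega
    · have hne' : sr i ≠ -sr j := by
        intro e
        have := congrFun e i
        rw [sr_self, Pi.neg_apply, sr_ne hij] at this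
        omega
      have hne : sr i ≠ sr j := by
        intro e
        have := congrFun e i
        rw [sr_self, sr_ne hij] at this
        omega
      obtain ⟨h1, h2⟩ := (longR_of_sl hSL hj).2 _ hi hne hne'
      have h3 : cpr cs h (sr i) (sr j) ≠ 0 := by
        rw [hSL _ _ hi hj, cpr_sr]
        exact h0
      have h4 : cpr cs h (sr i) (sr j) = -1 ∨ cpr cs h (sr i) (sr j) = 1 := by omega
      rcases h4 with h4 | h4
      · exact key _ _ hj hi h4
      · have h5 := key _ _ hj hi.neg (by rw [cpr_neg cs h _ hj, h4])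
        rw [cpr_neg_right cs h _ hi] at h5
        omega
  have key3 : ∀ j, γ (γ (sr j)) = -sr j := by
    intro j
    have h1 : γ (sr j) = -γ.symm (sr j) := eq_neg_of_add_eq_zero_left (key2 j)
    rw [h1, map_neg, AddEquiv.apply_symm_apply]
  have hx : x = ∑ i, x i • sr i := by
    funext k
    rw [Finset.sum_apply, Finset.sum_eq_single k (fun b _ hb => by
      rw [Pi.smul_apply, sr_ne hb.symm, smul_zero]) (by simp only [_root_.Finset.mem_univ, _root_.not_true_eq_false, _root_.Pi.smul_apply, _root_.Int.zsmul_eq_mul, _root_.mul_eq_zero, _root_.IsEmpty.forall_iff]), Pi.smul_apply, sr_self, smul_eq_mul, mul_one]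
  rw [hx, map_sum, map_sum, ← Finset.sum_neg_distrib]
  refine Finset.sum_congr rfl fun i _ => ?_
  rw [map_zsmul, map_zsmul, key3, smul_neg]

end SL

/-- **Odd rank.** -/
theorem no_sq_neg_odd {n : ℕ} (hn : Odd n) {γ : (Fin n → ℤ) ≃+ (Fin n → ℤ)} (H : ∀ x, γ (γ x) = -x) : False := by
  have h1 : γ.toIntLinearEquiv.toLinearMap ∘ₗ γ.toIntLinearEquiv.toLinearMap = (-1 : ℤ) • LinearMap.id := by
    apply LinearMap.ext
    intro x
    show γ (γ x) = (-1 : ℤ) • x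
    rw [H, neg_one_smul]
  have h2 := congrArg LinearMap.det h1
  rw [LinearMap.det_comp, LinearMap.det_smul, LinearMap.det_id, Module.finrank_fin_fun, hn.neg_one_pow] at h2
  linarith only [h2, mul_self_nonneg (LinearMap.det γ.toIntLinearEquiv.toLinearMap)]

end Cfsg.Agent.H496.Gen.T2
end

-- part: H496/Gen/T2Tab
section
/-!
# The exceptional root systems (helper496, hub S2187, piece T2)

`Cmb hp cs γ` : the alternatives for an automorphism `γ` of the root system `D`, `θ` the highest root: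
a conjugate `b` of `θ` with `⟨γ b, b^∨⟩ ≠ 0`, or a root `a` with `2 a = θ - γ θ` (`F₄`), or `D = E₈` and `γ ^ 2 = -1`.
* `cmb_untw` : `G₂, F₄, E₆, E₇, E₈`, all `γ`; `cmb_D4` : `γ = w ∘ g`, `g` the triality;
* `longR_top`, `dom_top` : the highest root is long and dominant.
-/

set_option autoImplicit false
set_option linter.unusedSectionVars false

namespace Cfsg.Agent.H496.Gen.T2

open CoxeterSystem Cfsg Cfsg.Lie Cfsg.Lie.ChevalleyDatum
open Cfsg.Agent.ChevalleyStructure Cfsg.Agent.ChevalleyStructure.Elts Cfsg.Agent.ChevalleyStructure.CoxeterGeom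
  Cfsg.Agent.ChevalleyStructure.CoxeterGeomTypes Cfsg.Agent.ChevalleyStructure.NPerm
open Cfsg.Agent.Tits.Roots Cfsg.Agent.Tits.Core Cfsg.Agent.Nodes Cfsg.Agent.Nodes.Reps Cfsg.Agent.Nodes.BNOf
  Cfsg.Agent.Nodes.RGDChev Cfsg.Agent.Nodes.Coroot Cfsg.Agent.Nodes.KindChev Cfsg.Agent.H123.ExcComb
  Cfsg.Agent.BpExc.Fr

universe v

variable {D : ChevalleyDatum} {l : ℕ} {M : CoxeterMatrix (Fin l)} (hp : IsType D l M) {W : Type v} [Group W]
  (cs : CoxeterSystem M W)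

/-- The alternatives. -/
def Cmb (γ : (Fin l → ℤ) ≃+ (Fin l → ℤ)) : Prop :=
  (∃ u : W, cpr cs hp.isCartan (γ (rep cs hp.isCartan u (vec D l (D.nroots - 1))))
    (rep cs hp.isCartan u (vec D l (D.nroots - 1))) ≠ 0) ∨
  (∃ a, IsRoot cs hp.isCartan a ∧ a + a = vec D l (D.nroots - 1) - γ (vec D l (D.nroots - 1)) ∧
    cpr cs hp.isCartan (γ (vec D l (D.nroots - 1))) a = -2) ∨
  (D = chevE8 ∧ ∀ x, γ (γ x) = -x)

/-! ### simply laced -/

theorem cmb_sl (h4 : ∀ i j, M i j ≠ 4) (h6 : ∀ i j, M i j ≠ 6)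
    (hdom : ∀ s < D.nroots, (∀ i, 0 ≤ pairing (cartanOf D l) i (vec D l s)) → vec D l s = vec D l (D.nroots - 1))
    (hconn : ∀ i j : Fin l, i ≠ j → pairing (cartanOf D l) i (sr j) = 0 →
      ∃ s < D.nroots, pairing (cartanOf D l) i (vec D l s) = -1 ∧ pairing (cartanOf D l) j (vec D l s) = -1)
    {γ : (Fin l → ℤ) ≃+ (Fin l → ℤ)} (hγ : ∀ a, IsRoot cs hp.isCartan (γ a) ↔ IsRoot cs hp.isCartan a) :
    (∃ u : W, cpr cs hp.isCartan (γ (rep cs hp.isCartan u (vec D l (D.nroots - 1))))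
      (rep cs hp.isCartan u (vec D l (D.nroots - 1))) ≠ 0) ∨ ∀ x, γ (γ x) = -x := by
  have := finite_W hp cs
  have hSL : ∀ x y, IsRoot cs hp.isCartan x → IsRoot cs hp.isCartan y →
      cpr cs hp.isCartan x y = cpr cs hp.isCartan y x := fun _ _ hx hy => Nodes.SimplyLaced.cpr_symm cs _ h4 h6 hx hy
  by_cases H : ∀ b, IsRoot cs hp.isCartan b → cpr cs hp.isCartan (γ b) b = 0
  · right
    refine sq_neg hSL hγ (fun i j hij h0 => ?_) H
    obtain ⟨s, hs, h1, h2⟩ := hconn i j hij h0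
    exact ⟨_, isRoot_vec hp cs hs, h1, h2⟩
  · left
    push Not at H
    obtain ⟨b, hb, hb0⟩ := H
    have := Fintype.ofFinite W
    obtain ⟨w, hw⟩ := Nodes.ClsNorm.exists_dominant (cs := cs) (h := hp.isCartan) b
    obtain ⟨s, hs, hsb⟩ := (isRoot_iff hp cs _).1 (hb.act w)
    have h1 : rep cs hp.isCartan w b = vec D l (D.nroots - 1) := by
      rw [← hsb] at hw ⊢
      exact hdom s hs hw
    refine ⟨w⁻¹, ?_⟩
    rw [← h1, ← rep_mul_apply, inv_mul_cancel, map_one, Module.End.one_apply]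
    exact hb0

/-- invariance of the Cartan numbers, first variable arbitrary -/
theorem cpr_g_lin [Finite W] {γ : (Fin l → ℤ) ≃+ (Fin l → ℤ)}
    (hγ : ∀ a, IsRoot cs hp.isCartan (γ a) ↔ IsRoot cs hp.isCartan a) (x : Fin l → ℤ) {y : Fin l → ℤ}
    (hy : IsRoot cs hp.isCartan y) : cpr cs hp.isCartan (γ x) (γ y) = cpr cs hp.isCartan x y := by
  have hx : x = ∑ i, x i • sr i := by
    funext k
    rw [Finset.sum_apply, Finset.sum_eq_single k (fun b _ hb => by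
      rw [Pi.smul_apply, sr_ne hb.symm, smul_zero]) (by simp only [_root_.Finset.mem_univ, _root_.not_true_eq_false, _root_.Pi.smul_apply, _root_.Int.zsmul_eq_mul, _root_.mul_eq_zero, _root_.IsEmpty.forall_iff]), Pi.smul_apply, sr_self, smul_eq_mul, mul_one]
  have hlin : ∀ (y : Fin l → ℤ), IsRoot cs hp.isCartan y → ∀ (s : Finset (Fin l)) (f : Fin l → Fin l → ℤ),
      cpr cs hp.isCartan (∑ i ∈ s, f i) y = ∑ i ∈ s, cpr cs hp.isCartan (f i) y := by
    intro y hy s f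
    classical
    induction s using Finset.induction_on with
    | empty =>
      rw [Finset.sum_empty, Finset.sum_empty]
      have := cpr_smul cs hp.isCartan 0 0 hy
      rwa [zero_smul, zero_mul] at this
    | insert a s ha ih => rw [Finset.sum_insert ha, Finset.sum_insert ha, cpr_add cs _ _ _ hy, ih]
  rw [hx, map_sum, hlin _ ((hγ y).2 hy), hlin _ hy]
  refine Finset.sum_congr rfl fun i _ => ?_
  rw [map_zsmul, cpr_smul cs _ _ _ ((hγ y).2 hy), cpr_smul cs _ _ _ hy, cpr_g hγ (isRoot_sr cs _ i) hy]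

/-- the vectors with all Cartan numbers divisible by `n` are fixed modulo `n` by `W` -/
theorem rep_rad (n : ℤ) {x : Fin l → ℤ} (hx : ∀ i, n ∣ pairing (cartanOf D l) i x) (w : W) :
    ∃ z : Fin l → ℤ, rep cs hp.isCartan w x = x + n • z := by
  obtain ⟨ω, rfl⟩ := cs.wordProd_surjective w
  induction ω with
  | nil => exact ⟨0, by rw [wordProd_nil, map_one, Module.End.one_apply, smul_zero, add_zero]⟩
  | cons i ω ih =>
    obtain ⟨z, hz⟩ := ih
    obtain ⟨c, hc⟩ := hx i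
    refine ⟨rep cs hp.isCartan (cs.simple i) z - c • sr i, ?_⟩
    rw [wordProd_cons, rep_mul_apply, hz, map_add, map_zsmul, rep_simple_eq, hc]
    module

theorem pairing_zsmul_dvd (n : ℤ) (x z : Fin l → ℤ) (i : Fin l) (hx : n ∣ pairing (cartanOf D l) i x) :
    n ∣ pairing (cartanOf D l) i (x + n • z) := by
  rw [pairing_add, pairing_smul]
  exact dvd_add hx (Dvd.intro _ rfl)

/-- **`γ ^ 2 = -1` is impossible if the radical modulo `3` is one-dimensional.** -/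
theorem no_sq_neg_rad [Finite W] (i0 : Fin l) {x₀ : Fin l → ℤ} (hx0 : x₀ i0 = 1)
    (hx : ∀ i, (3 : ℤ) ∣ pairing (cartanOf D l) i x₀)
    (huniq : ∀ y : Fin l → ℤ, (∀ i, (3 : ℤ) ∣ pairing (cartanOf D l) i y) → ∀ i, (3 : ℤ) ∣ y i - y i0 * x₀ i)
    {γ : (Fin l → ℤ) ≃+ (Fin l → ℤ)} (hγ : ∀ a, IsRoot cs hp.isCartan (γ a) ↔ IsRoot cs hp.isCartan a)
    (H : ∀ x, γ (γ x) = -x) : False := by
  have hrad : ∀ i, (3 : ℤ) ∣ pairing (cartanOf D l) i (γ x₀) := by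
    intro i
    obtain ⟨b, hb⟩ := γ.surjective (sr i)
    have hbr : IsRoot cs hp.isCartan b := (hγ b).1 (by rw [hb]; exact isRoot_sr cs _ i)
    rw [← cpr_sr cs hp.isCartan, ← hb, cpr_g_lin hp cs hγ _ hbr]
    obtain ⟨w, j, rfl⟩ := hbr
    rw [cpr_rep_sr]
    obtain ⟨z, hz⟩ := rep_rad hp cs 3 hx w⁻¹
    rw [hz]
    exact pairing_zsmul_dvd 3 _ _ _ (hx j)
  have h1 := huniq _ hrad
  choose z hz using h1
  have h2 : γ x₀ = (γ x₀ i0) • x₀ + (3 : ℤ) • z := by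
    funext i
    have := hz i
    simp only [Pi.add_apply, Pi.smul_apply, smul_eq_mul]
    linarith
  obtain ⟨c, hc⟩ : ∃ c, c = γ x₀ i0 := ⟨_, rfl⟩
  rw [← hc] at h2
  have h3 : γ (γ x₀) = c • (c • x₀ + (3 : ℤ) • z) + (3 : ℤ) • γ z := by
    conv_lhs => rw [h2]
    rw [map_add, map_zsmul, map_zsmul, h2]
  rw [H] at h3
  have h4 := congrFun h3 i0
  simp only [Pi.add_apply, Pi.smul_apply, Pi.neg_apply, smul_eq_mul, hx0] at h4
  have h5 : (3 : ℤ) ∣ c * c + 1 := ⟨-(c * z i0 + γ z i0), by linarith⟩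
  have h6 : (c * c + 1) % 3 = 0 := Int.emod_eq_zero_of_dvd h5
  have h7 : c % 3 = 0 ∨ c % 3 = 1 ∨ c % 3 = 2 := by omega
  rcases h7 with h7 | h7 | h7 <;> · rw [Int.add_emod, Int.mul_emod, h7] at h6; omega

/-! ### tables with the quadratic form -/

/-- the table of the types with two root lengths -/
def TabF (D : ChevalleyDatum) (l : ℕ) (d : Fin l → ℤ) : Prop :=
  (∀ i j, d i * cartanOf D l i j = d j * cartanOf D l j i) ∧
  (∀ s < D.nroots, 0 < qf (cartanOf D l) d (vec D l s) (vec D l s)) ∧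
  (∀ s < D.nroots, vec D l s = vec D l (D.nroots - 1) ∨ vec D l s = -vec D l (D.nroots - 1) ∨
    |2 * qf (cartanOf D l) d (vec D l s) (vec D l (D.nroots - 1))| ≤
      qf (cartanOf D l) d (vec D l (D.nroots - 1)) (vec D l (D.nroots - 1))) ∧
  ∀ s < D.nroots, (∀ s' < D.nroots, vec D l s' = vec D l s ∨ vec D l s' = -vec D l s ∨
    |2 * qf (cartanOf D l) d (vec D l s') (vec D l s)| ≤ qf (cartanOf D l) d (vec D l s) (vec D l s)) →
    2 * qf (cartanOf D l) d (vec D l s) (vec D l (D.nroots - 1)) ≠ 0 ∨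
    ∃ s' < D.nroots, vec D l s' + vec D l s' = vec D l (D.nroots - 1) - vec D l s ∧
      2 * qf (cartanOf D l) d (vec D l s) (vec D l s') = -2 * qf (cartanOf D l) d (vec D l s') (vec D l s')

instance (D : ChevalleyDatum) (l : ℕ) (d : Fin l → ℤ) : Decidable (TabF D l d) := by unfold TabF; infer_instance

section F

variable {hp cs}

theorem longR_of_tabF [Finite W] (hn : 0 < D.nroots) {d : Fin l → ℤ} (T : TabF D l d) :
    LongR cs hp.isCartan (vec D l (D.nroots - 1)) := by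
  obtain ⟨h1, h2, h3, -⟩ := T
  have hr := isRoot_vec hp cs (Nat.sub_lt hn one_pos)
  refine ⟨hr, fun b hb hne hne' => ?_⟩
  obtain ⟨s, hs, rfl⟩ := (isRoot_iff hp cs _).1 hb
  have h4 := cpr_mul_qf cs hp.isCartan h1 (vec D l s) hr
  have h5 := h2 _ (Nat.sub_lt hn one_pos)
  rcases h3 s hs with h6 | h6 | h6
  · exact absurd h6 hne
  · exact absurd h6 hne'
  · rw [← h4, abs_mul, abs_of_pos h5] at h6
    have h7 : |cpr cs hp.isCartan (vec D l s) (vec D l (D.nroots - 1))| ≤ 1 := by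
      by_contra hcon
      push Not at hcon
      nlinarith only [h5, h6, hcon]
    exact abs_le.1 h7

theorem cmb_tabF [Finite W] (hn : 0 < D.nroots) {d : Fin l → ℤ} (T : TabF D l d)
    {γ : (Fin l → ℤ) ≃+ (Fin l → ℤ)} (hγ : ∀ a, IsRoot cs hp.isCartan (γ a) ↔ IsRoot cs hp.isCartan a) :
    Cmb hp cs γ := by
  have hL := longR_of_tabF (hp := hp) (cs := cs) hn T
  obtain ⟨h1, h2, -, h3⟩ := T
  have hθ := isRoot_vec hp cs (Nat.sub_lt hn one_pos)
  have hγL := hL.g hγ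
  obtain ⟨s, hs, hsγ⟩ := (isRoot_iff hp cs _).1 hγL.1
  rcases h3 s hs (fun s' hs' => by
    by_cases e1 : vec D l s' = vec D l s
    · exact Or.inl e1
    by_cases e2 : vec D l s' = -vec D l s
    · exact Or.inr (Or.inl e2)
    right; right
    rw [← cpr_mul_qf cs hp.isCartan h1 (vec D l s') (isRoot_vec hp cs hs), abs_mul, abs_of_pos (h2 s hs)]
    obtain ⟨h4, h5⟩ := hγL.2 _ (isRoot_vec hp cs hs') (by rw [← hsγ]; exact e1) (by rw [← hsγ]; exact e2)
    rw [← hsγ] at h4 h5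
    have h6 := abs_le.2 ⟨h4, h5⟩
    have h7 := h2 s hs
    nlinarith only [h6, h7]) with h4 | ⟨s', hs', h4, h5⟩
  · left
    refine ⟨1, ?_⟩
    rw [map_one, Module.End.one_apply, ← hsγ]
    intro h5
    apply h4
    rw [← cpr_mul_qf cs hp.isCartan h1 (vec D l s) hθ, h5, zero_mul]
  · right; left
    refine ⟨vec D l s', isRoot_vec hp cs hs', by rw [← hsγ]; exact h4, ?_⟩
    rw [← hsγ]
    have h6 := cpr_mul_qf cs hp.isCartan h1 (vec D l s) (isRoot_vec hp cs hs')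
    rw [h5] at h6
    exact mul_right_cancel₀ (h2 s' hs').ne' h6

end F

/-! ### the tables -/

set_option backward.isDefEq.respectTransparency false in
theorem ne_D4 : (∀ i j, coxeterD4 i j ≠ 4) ∧ ∀ i j, coxeterD4 i j ≠ 6 := by
  constructor <;> decide +kernel

set_option backward.isDefEq.respectTransparency false in
theorem ne_E6 : (∀ i j, CoxeterMatrix.E₆ i j ≠ 4) ∧ ∀ i j, CoxeterMatrix.E₆ i j ≠ 6 := by
  constructor <;> decide +kernel

set_option backward.isDefEq.respectTransparency false in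
theorem ne_E7 : (∀ i j, CoxeterMatrix.E₇ i j ≠ 4) ∧ ∀ i j, CoxeterMatrix.E₇ i j ≠ 6 := by
  constructor <;> decide +kernel

set_option backward.isDefEq.respectTransparency false in
theorem ne_E8 : (∀ i j, CoxeterMatrix.E₈ i j ≠ 4) ∧ ∀ i j, CoxeterMatrix.E₈ i j ≠ 6 := by
  constructor <;> decide +kernel

/-- the table of the simply laced types -/
def TabD (D : ChevalleyDatum) (l : ℕ) : Prop :=
  (∀ s < D.nroots, (∀ i : Fin l, 0 ≤ pairing (cartanOf D l) i (vec D l s)) → vec D l s = vec D l (D.nroots - 1)) ∧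
  (∀ i j : Fin l, i ≠ j → pairing (cartanOf D l) i (sr j) = 0 →
      ∃ s < D.nroots, pairing (cartanOf D l) i (vec D l s) = -1 ∧ pairing (cartanOf D l) j (vec D l s) = -1)

instance (D : ChevalleyDatum) (l : ℕ) : Decidable (TabD D l) := by unfold TabD; infer_instance

theorem tabD_D4 : TabD chevD4 4 := by decide +kernel
theorem tabD_E6 : TabD chevE6 6 := by (delta Cfsg.Agent.H496.Gen.T2.TabD Cfsg.Agent.ChevalleyStructure.CoxeterGeom.pairing Cfsg.Agent.Nodes.RGDChev.vec Cfsg.Agent.ChevalleyStructure.RootVec.rt; set_option synthInstance.maxSize 100000 in exact Cfsg.Agent.Lib.Refl.of (by decide +kernel))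
theorem tabD_E7 : TabD chevE7 7 := by (delta Cfsg.Agent.H496.Gen.T2.TabD Cfsg.Agent.ChevalleyStructure.CoxeterGeom.pairing Cfsg.Agent.Nodes.RGDChev.vec Cfsg.Agent.ChevalleyStructure.RootVec.rt; set_option synthInstance.maxSize 100000 in exact Cfsg.Agent.Lib.Refl.of (by decide +kernel))
theorem tabD_E8 : TabD chevE8 8 := by (delta Cfsg.Agent.H496.Gen.T2.TabD Cfsg.Agent.ChevalleyStructure.CoxeterGeom.pairing Cfsg.Agent.Nodes.RGDChev.vec Cfsg.Agent.ChevalleyStructure.RootVec.rt; set_option synthInstance.maxSize 100000 in exact Cfsg.Agent.Lib.Refl.of (by decide +kernel))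
theorem tabF_G2 : TabF chevG2 2 ![1, 3] := by decide +kernel
theorem tabF_F4 : TabF chevF4 4 ![1, 1, 2, 2] := by (delta Cfsg.Agent.H496.Gen.T2.TabF Cfsg.Agent.Nodes.KindChev.qf Cfsg.Agent.Nodes.RGDChev.vec Cfsg.Agent.ChevalleyStructure.CoxeterGeom.pairing Cfsg.Agent.ChevalleyStructure.RootVec.rt; set_option synthInstance.maxSize 100000 in exact Cfsg.Agent.Lib.Refl.of (by decide +kernel))

theorem dom_G2 : ∀ i, 0 ≤ pairing (cartanOf chevG2 2) i (vec chevG2 2 (chevG2.nroots - 1)) := by decide +kernel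
theorem dom_D4 : ∀ i, 0 ≤ pairing (cartanOf chevD4 4) i (vec chevD4 4 (chevD4.nroots - 1)) := by decide +kernel
theorem dom_F4 : ∀ i, 0 ≤ pairing (cartanOf chevF4 4) i (vec chevF4 4 (chevF4.nroots - 1)) := by decide +kernel
theorem dom_E6 : ∀ i, 0 ≤ pairing (cartanOf chevE6 6) i (vec chevE6 6 (chevE6.nroots - 1)) := by decide +kernel
theorem dom_E7 : ∀ i, 0 ≤ pairing (cartanOf chevE7 7) i (vec chevE7 7 (chevE7.nroots - 1)) := by decide +kernel
theorem dom_E8 : ∀ i, 0 ≤ pairing (cartanOf chevE8 8) i (vec chevE8 8 (chevE8.nroots - 1)) := by decide +kernel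

theorem pos_nroots : 0 < chevG2.nroots ∧ 0 < chevD4.nroots ∧ 0 < chevF4.nroots ∧ 0 < chevE6.nroots ∧
    0 < chevE7.nroots ∧ 0 < chevE8.nroots := by decide +kernel

/-- the highest root is dominant -/
theorem dom_top (hp : IsType D l M) (hB2 : D ≠ chevB2) : Dom (cartanOf D l) (vec D l (D.nroots - 1)) := by
  simp only [IsType, typeList, List.mem_cons, List.not_mem_nil, or_false, Prod.mk.injEq] at hp
  rcases hp with ⟨rfl, h⟩ | ⟨rfl, h⟩ | ⟨rfl, h⟩ | ⟨rfl, h⟩ | ⟨rfl, h⟩ | ⟨rfl, h⟩ | ⟨rfl, h⟩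
  · obtain rfl : l = 2 := congrArg Sigma.fst h
    exact dom_G2
  · exact absurd rfl hB2
  · obtain rfl : l = 4 := congrArg Sigma.fst h
    exact dom_D4
  · obtain rfl : l = 4 := congrArg Sigma.fst h
    exact dom_F4
  · obtain rfl : l = 6 := congrArg Sigma.fst h
    exact dom_E6
  · obtain rfl : l = 7 := congrArg Sigma.fst h
    exact dom_E7
  · obtain rfl : l = 8 := congrArg Sigma.fst h
    exact dom_E8

/-- the cases -/
theorem cases_type (hp : IsType D l M) (hB2 : D ≠ chevB2) :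
    (∃ d : Fin l → ℤ, TabF D l d ∧ 0 < D.nroots ∧ D ≠ chevD4) ∨
    ((∀ i j, M i j ≠ 4) ∧ (∀ i j, M i j ≠ 6) ∧ TabD D l ∧ 0 < D.nroots) := by
  simp only [IsType, typeList, List.mem_cons, List.not_mem_nil, or_false, Prod.mk.injEq] at hp
  obtain ⟨n1, n2, n3, n4, n5, n6⟩ := pos_nroots
  rcases hp with ⟨rfl, h⟩ | ⟨rfl, h⟩ | ⟨rfl, h⟩ | ⟨rfl, h⟩ | ⟨rfl, h⟩ | ⟨rfl, h⟩ | ⟨rfl, h⟩
  · obtain rfl : l = 2 := congrArg Sigma.fst h
    exact Or.inl ⟨_, tabF_G2, n1, fun e => by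
      have := congrArg ChevalleyDatum.nroots e
      revert this
      decide +kernel⟩
  · exact absurd rfl hB2
  · obtain rfl : l = 4 := congrArg Sigma.fst h
    obtain rfl := eq_of_heq (Sigma.mk.inj h).2
    exact Or.inr ⟨ne_D4.1, ne_D4.2, tabD_D4, n2⟩
  · obtain rfl : l = 4 := congrArg Sigma.fst h
    exact Or.inl ⟨_, tabF_F4, n3, fun e => by
      have := congrArg ChevalleyDatum.nroots e
      revert this
      decide +kernel⟩
  · obtain rfl : l = 6 := congrArg Sigma.fst h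
    obtain rfl := eq_of_heq (Sigma.mk.inj h).2
    exact Or.inr ⟨ne_E6.1, ne_E6.2, tabD_E6, n4⟩
  · obtain rfl : l = 7 := congrArg Sigma.fst h
    obtain rfl := eq_of_heq (Sigma.mk.inj h).2
    exact Or.inr ⟨ne_E7.1, ne_E7.2, tabD_E7, n5⟩
  · obtain rfl : l = 8 := congrArg Sigma.fst h
    obtain rfl := eq_of_heq (Sigma.mk.inj h).2
    exact Or.inr ⟨ne_E8.1, ne_E8.2, tabD_E8, n6⟩

/-- **The highest root is long.** -/
theorem longR_top (hB2 : D ≠ chevB2) : LongR cs hp.isCartan (vec D l (D.nroots - 1)) := by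
  have := finite_W hp cs
  rcases cases_type hp hB2 with ⟨d, h1, h2, -⟩ | ⟨h4, h6, -, hn⟩
  · exact longR_of_tabF (hp := hp) h2 h1
  · exact longR_of_sl (fun _ _ hx hy => Nodes.SimplyLaced.cpr_symm cs _ h4 h6 hx hy)
      (isRoot_vec hp cs (Nat.sub_lt hn one_pos))

theorem huniq_E6 (y : Fin 6 → ℤ) (h : ∀ i, (3 : ℤ) ∣ pairing (cartanOf chevE6 6) i y) (i : Fin 6) :
    (3 : ℤ) ∣ y i - y 0 * (![1, 0, 2, 0, 1, 2] : Fin 6 → ℤ) i := by
  have hA : ∀ i j, cartanOf chevE6 6 i j = (![![2, 0, -1, 0, 0, 0], ![0, 2, 0, -1, 0, 0], ![-1, 0, 2, -1, 0, 0],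
      ![0, -1, -1, 2, -1, 0], ![0, 0, 0, -1, 2, -1], ![0, 0, 0, 0, -1, 2]] : Fin 6 → Fin 6 → ℤ) i j := by
    decide +kernel
  have h0 := h 0
  have h1 := h 1
  have h2 := h 2
  have h3 := h 3
  have h4 := h 4
  have h5 := h 5
  unfold pairing at h0 h1 h2 h3 h4 h5
  simp only [hA, Fin.sum_univ_succ, Fin.sum_univ_zero] at h0 h1 h2 h3 h4 h5
  simp only [_root_.Int.reduceNeg, _root_.Fin.isValue, _root_.Matrix.cons_val', _root_.Matrix.cons_val_zero, _root_.Matrix.cons_val_fin_one, _root_.Fin.succ_zero_eq_one, _root_.Matrix.cons_val_one, _root_.MulZeroClass.zero_mul, _root_.Fin.succ_one_eq_two, _root_.Matrix.cons_val, _root_.neg_mul, _root_.one_mul, _root_.Fin.reduceSucc, _root_.add_zero, _root_.zero_add] at h0 h1 h2 h3 h4 h5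
  fin_cases i <;> simp only [_root_.Fin.zero_eta, _root_.Fin.isValue, _root_.Matrix.cons_val_zero, _root_.mul_one, _root_.sub_self, _root_.dvd_zero, _root_.Fin.mk_one, _root_.Matrix.cons_val_one, _root_.MulZeroClass.mul_zero, _root_.sub_zero, _root_.Fin.reduceFinMk, _root_.Matrix.cons_val] <;> (clear * - h0 h1 h2 h4 h5 h3; omega)

theorem no_E6 {M : CoxeterMatrix (Fin 6)} (hp : IsType chevE6 6 M) {W : Type v} [Group W] (cs : CoxeterSystem M W)
    {γ : (Fin 6 → ℤ) ≃+ (Fin 6 → ℤ)} (hγ : ∀ a, IsRoot cs hp.isCartan (γ a) ↔ IsRoot cs hp.isCartan a)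
    (H : ∀ x, γ (γ x) = -x) : False := by
  have := finite_W hp cs
  exact no_sq_neg_rad hp cs 0 (x₀ := ![1, 0, 2, 0, 1, 2]) rfl (by decide +kernel) huniq_E6 hγ H

/-- **`G₂, F₄, E₆, E₇, E₈`.** -/
theorem cmb_untw (hB2 : D ≠ chevB2) (hD4 : D ≠ chevD4) {γ : (Fin l → ℤ) ≃+ (Fin l → ℤ)}
    (hγ : ∀ a, IsRoot cs hp.isCartan (γ a) ↔ IsRoot cs hp.isCartan a) : Cmb hp cs γ := by
  have := finite_W hp cs
  rcases cases_type hp hB2 with ⟨d, h1, h2, -⟩ | ⟨h4, h6, hT, -⟩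
  · exact cmb_tabF h2 h1 hγ
  rcases cmb_sl hp cs h4 h6 hT.1 hT.2 hγ with h | h
  · exact Or.inl h
  have hp' := hp
  simp only [IsType, typeList, List.mem_cons, List.not_mem_nil, or_false, Prod.mk.injEq] at hp'
  rcases hp' with ⟨rfl, h'⟩ | ⟨rfl, h'⟩ | ⟨rfl, h'⟩ | ⟨rfl, h'⟩ | ⟨rfl, h'⟩ | ⟨rfl, h'⟩ | ⟨rfl, h'⟩
  · exfalso
    obtain rfl : l = 2 := congrArg Sigma.fst h'
    obtain rfl := eq_of_heq (Sigma.mk.inj h').2
    have h8 := hT.1
    revert h8
    decide +kernel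
  · exact absurd rfl hB2
  · exact absurd rfl hD4
  · exfalso
    obtain rfl : l = 4 := congrArg Sigma.fst h'
    have h8 := hT.1
    revert h8
    decide +kernel
  · obtain rfl : l = 6 := congrArg Sigma.fst h'
    exact (no_E6 hp cs hγ h).elim
  · obtain rfl : l = 7 := congrArg Sigma.fst h'
    exact (no_sq_neg_odd (by decide) h).elim
  · exact Or.inr (Or.inr ⟨rfl, h⟩)

end Cfsg.Agent.H496.Gen.T2
end

-- part: H496/Gen/T2Main
section
/-!
# Toral subgroups: a long root group commutes with a hyperplane (helper496, hub S2187, piece T2 = X2)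

`m : MData hp r q K₀`, `E ≤ Y^σ` elementary abelian, toral.
* `exists_frame` : the frame of `E`;
* `toral_main` : there is `v ∈ Y^σ` such that `GamY` contains all `a ∈ K₀` with `v * ι a * v⁻¹ ∈ ⟨XX θ, XX (-θ)⟩`, `θ` the
  highest root; or `D = E₈`, `p ∣ q ^ 2 + 1`, and `E` has a frame with `γ ^ 2 = -1`, regular.
* `toral_untw`, `toral_D4` : the instances.
-/

set_option autoImplicit false
set_option linter.unusedSectionVars false

namespace Cfsg.Agent.H496.Gen.T2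

open CoxeterSystem Cfsg Cfsg.Lie Cfsg.Lie.ChevalleyDatum
open Cfsg.Agent.ChevalleyStructure Cfsg.Agent.ChevalleyStructure.Elts Cfsg.Agent.ChevalleyStructure.CoxeterGeom
  Cfsg.Agent.ChevalleyStructure.CoxeterGeomTypes Cfsg.Agent.ChevalleyStructure.NPerm
open Cfsg.Agent.Tits.Roots Cfsg.Agent.Tits.Core Cfsg.Agent.Nodes Cfsg.Agent.Nodes.Reps Cfsg.Agent.Nodes.BNOf
  Cfsg.Agent.Nodes.RGDChev Cfsg.Agent.Nodes.Bruhat Cfsg.Agent.Nodes.StabComb Cfsg.Agent.Nodes.Coroot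
  Cfsg.Agent.Nodes.SubComb
open Cfsg.Agent.KFacts.RgdField Cfsg.Agent.KFacts.RgdChevCoord
open Cfsg.Agent.BpExc Cfsg.Agent.BpExc.TorCent Cfsg.Agent.BpExc.TorChev Cfsg.Agent.BpExc.Tow
open Cfsg.Agent.BpExc.TowChev Cfsg.Agent.BpExc.Fr Cfsg.Agent.BpExc.LangFr Cfsg.Agent.BpExc.HX
open Cfsg.Agent.BpExc.NChev Cfsg.Agent.BpExc.NInst
open Cfsg.Agent.H123.ExcComb Cfsg.Agent.H696.GmnToral Cfsg.Agent.H496.Gen.PairSet
open Cfsg.Agent.H469.Exc Cfsg.Agent.H316.U6 Cfsg.Agent.H818.Gen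

universe u v w

/-! ### the kernel of a character -/

section Ker

variable {Y : Type*} [Group Y] {k : Type*} [Field k] {p : ℕ} [hpp : Fact p.Prime]

/-- the kernel of a character of `E` is `E` or a hyperplane -/
theorem relIndex_ker {E F : Subgroup Y} [Finite ↥E] (hE : ∀ y ∈ E, y ^ p = 1) {χ : Y → k}
    (hχ : ∀ y ∈ E, ∀ y' ∈ E, χ (y * y') = χ y * χ y') (h0 : ∀ y ∈ E, χ y ≠ 0) (hF : F ≤ E)
    (hF' : ∀ y ∈ E, y ∈ F ↔ χ y = 1) : F = E ∨ F.relIndex E = p := by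
  classical
  have h1 : χ 1 = 1 := by
    have := hχ 1 (one_mem _) 1 (one_mem _)
    rw [mul_one] at this
    exact (mul_eq_left₀ (h0 1 (one_mem _))).1 this.symm
  let f : ↥E →* kˣ := MonoidHom.mk' (fun y => Units.mk0 (χ y.1) (h0 _ y.2)) fun y y' =>
    Units.ext (hχ _ y.2 _ y'.2)
  have hker : F.subgroupOf E = f.ker := by
    ext y
    rw [Subgroup.mem_subgroupOf, MonoidHom.mem_ker, hF' _ y.2]
    constructor
    · intro h; exact Units.ext h
    · intro h; exact congrArg Units.val h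
  have hidx : F.relIndex E = Nat.card ↥f.range := by
    unfold Subgroup.relIndex
    rw [hker, Subgroup.index_ker]
  by_cases htr : f.range = ⊥
  · left
    refine le_antisymm hF fun y hy => ?_
    have h2 : f ⟨y, hy⟩ ∈ f.range := ⟨_, rfl⟩
    rw [htr, Subgroup.mem_bot] at h2
    exact (hF' y hy).2 (congrArg Units.val h2)
  · right
    rw [hidx]
    have : NeZero p := ⟨hpp.out.ne_zero⟩
    have hle : f.range ≤ rootsOfUnity p k := by
      rintro _ ⟨y, rfl⟩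
      rw [mem_rootsOfUnity, ← map_pow]
      have h2 : y ^ p = 1 := Subtype.ext (hE _ y.2)
      rw [h2, map_one]
    have h3 : Nat.card ↥f.range ≤ p := by
      exact (Subgroup.card_le_of_le hle).trans (card_rootsOfUnity k p)
    obtain ⟨y, hy, hy1⟩ : ∃ y ∈ f.range, y ≠ 1 := by
      by_contra hcon
      push Not at hcon
      exact htr ((Subgroup.eq_bot_iff_forall _).2 hcon)
    have h4 : orderOf y = p := orderOf_eq_prime ((mem_rootsOfUnity _ _).1 (hle hy)) hy1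
    have h5 : p ∣ Nat.card ↥f.range := by
      rw [← h4, ← Subgroup.orderOf_mk y hy]
      exact orderOf_dvd_natCard _
    have : Finite ↥f.range := Finite.of_surjective _ f.rangeRestrict_surjective
    exact le_antisymm h3 (Nat.le_of_dvd Nat.card_pos h5)

end Ker

variable {D : ChevalleyDatum} {l : ℕ} {M : CoxeterMatrix (Fin l)} {hp : IsType D l M}

/-! ### the frame -/

section Frame

variable {k : Type u} [Field k] {W : Type v} [Group W] (cs : CoxeterSystem M W) {r e : ℕ} [Fact r.Prime] [CharP k r]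
  [IsAlgClosed k] (hk : LocFin k)

include hk in
/-- **The frame of a toral family.** -/
theorem exists_frame {ι : Type w} [Finite ι] (he : 0 < e) {σ : MulAut ↥(D.group k)} (hσ : IsFrob r e σ)
    {g : (Fin l → ℤ) ≃+ (Fin l → ℤ)} (Fσ : Fr cs hp.isCartan (TT D k) (XX D l k) σ g) {x : ι → ↥(D.group k)}
    (hσx : ∀ i, σ (x i) = x i) {z : ↥(D.group k)} (hz : ∀ i, z⁻¹ * x i * z ∈ TT D k) :
    ∃ (z' c : ↥(D.group k)) (w : W), Frm hp cs σ x z' c (g.trans (repAut cs hp.isCartan w)) ∧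
      Rp cs (tow hp cs hk r (k := k)).nsys w c ∧
      (∀ i, z'⁻¹ * x i * z' = z⁻¹ * x i * z) ∧
      ∀ a ∈ SxS cs hp.isCartan (ch hp) (fun i => z'⁻¹ * x i * z'), 0 ≤ a →
        0 ≤ (g.trans (repAut cs hp.isCartan w)) a := by
  have := finite_W hp cs
  have hTL := TL_eq hp hk
  have hXL := XL_eq hp hk
  have H := tow hp cs hk r (k := k)
  have C : Coords cs hp.isCartan (TL (Tj hp (k := k))) (nc hp k) (XL (Xj hp (k := k))) (xc hp) (ch hp) := by
    rw [hTL, hXL]; exact coordsL hp cs hk r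
  have hA' : ChAdd cs hp.isCartan (TL (Tj hp (k := k))) (ch (K := k) hp) := by rw [hTL]; exact chAddL hp cs hk r
  have hG := GG_eq_top (k := k) hp cs hk
  have Fσ' : Fr cs hp.isCartan (TL (Tj hp (k := k))) (XL (Xj hp (k := k))) σ g := by rw [hTL, hXL]; exact Fσ
  obtain ⟨t, ht⟩ : ∃ t : ι → ↥(D.group k), t = fun i => z⁻¹ * x i * z := ⟨_, rfl⟩
  have hti : ∀ i, z⁻¹ * x i * z = t i := fun i => by rw [ht]
  have htT : ∀ i, t i ∈ TL (Tj hp (k := k)) := fun i => by rw [← hti, hTL]; exact hz i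
  obtain ⟨z', c, w, h1, h2, h3, h4, h5, h6⟩ := pair_reduction_set H C hA' hG Fσ' hσx hti htT
    (fun k' g' F' htt m hm => by
      have h1 := fun a => mem_SxS C F' htT htt a
      rw [hTL, hXL] at F'
      rw [hXL] at hm ⊢
      exact lang_fr hp cs he (hσ.conj_mul k') F' (S := SxS cs hp.isCartan (ch hp) t) (fun a ha => ha.1)
        (fun a ha => (h1 a).2 ha) hm)
  rw [hTL, hXL] at h4
  refine ⟨z', c, w, ⟨fun i => ?_, h3, h4⟩, h1, fun i => by rw [h2, hti], fun a ha h0 => h6 a ?_ h0⟩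
  · rw [h2, ← hti]; exact hz i
  · have : (fun i => z'⁻¹ * x i * z') = t := funext h2
    rw [this] at ha
    exact ha

end Frame

/-! ### the main theorem -/

section Main

variable {k : Type u} [Field k] {W : Type v} [Group W] (cs : CoxeterSystem M W) {r e : ℕ} [Fact r.Prime] [CharP k r]
  [IsAlgClosed k] (hk : LocFin k)

/-- the conclusion: a conjugate of a hyperplane under a fixed element commutes with the long root group -/
def LongComm (l : ℕ) (σ : MulAut ↥(D.group k)) (p : ℕ) (E : Subgroup ↥(D.group k)) : Prop :=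
  ∃ v, σ v = v ∧ ∃ F ≤ E, (F = E ∨ F.relIndex E = p) ∧
    ∀ y ∈ F, ∀ u ∈ XX D l k (vec D l (D.nroots - 1)) ⊔ XX D l k (-vec D l (D.nroots - 1)),
      v * y * v⁻¹ * u = u * (v * y * v⁻¹)

/-- the exceptional case: a frame with `γ ^ 2 = -1` and regular -/
def ExcFrame (hp : IsType D l M) (σ : MulAut ↥(D.group k)) (g : (Fin l → ℤ) ≃+ (Fin l → ℤ)) (hk : LocFin k) (r : ℕ)
    [Fact r.Prime] [CharP k r] (E : Subgroup ↥(D.group k)) : Prop :=
  D = chevE8 ∧ ∃ (z c : ↥(D.group k)) (w : W), Frm hp cs σ (fun y : ↥E => y.1) z c (g.trans (repAut cs hp.isCartan w)) ∧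
    Rp cs (tow hp cs hk r (k := k)).nsys w c ∧ (∀ x, (g.trans (repAut cs hp.isCartan w))
      ((g.trans (repAut cs hp.isCartan w)) x) = -x) ∧
    SxS cs hp.isCartan (ch hp) (fun y : ↥E => z⁻¹ * y.1 * z) = ∅

include hk in
/-- the kernel of `χ_θ` on a frame -/
theorem longComm_of_main (r : ℕ) [Fact r.Prime] [CharP k r] {σ : MulAut ↥(D.group k)} {p : ℕ} [Fact p.Prime] {E : Subgroup ↥(D.group k)} [Finite ↥E]
    (hE : ∀ y ∈ E, y ^ p = 1) {z : ↥(D.group k)} (hz : ∀ y ∈ E, z⁻¹ * y * z ∈ TT D k)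
    (hθ : IsRoot cs hp.isCartan (vec D l (D.nroots - 1)))
    (h : ∃ v, σ v = v ∧ ∀ i : {y : ↥E // ch hp (vec D l (D.nroots - 1)) (z⁻¹ * y.1 * z) = 1},
      ∀ u ∈ XX D l k (vec D l (D.nroots - 1)) ⊔ XX D l k (-vec D l (D.nroots - 1)),
      v * i.1.1 * v⁻¹ * u = u * (v * i.1.1 * v⁻¹)) : LongComm l σ p E := by
  obtain ⟨v, hv, h1⟩ := h
  have hmul : ∀ y ∈ E, ∀ y' ∈ E, ch hp (vec D l (D.nroots - 1)) (z⁻¹ * (y * y') * z) =
      ch hp (vec D l (D.nroots - 1)) (z⁻¹ * y * z) * ch hp (vec D l (D.nroots - 1)) (z⁻¹ * y' * z) := by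
    intro y hy y' hy'
    rw [← ch_mul hp cs hk r hθ (hz y hy) (hz y' hy')]
    congr 1
    group
  have h0 : ∀ y ∈ E, ch hp (vec D l (D.nroots - 1)) (z⁻¹ * y * z) ≠ 0 := fun y hy =>
    ch_ne_zero hp cs hk r hθ (hz y hy)
  have h1' : ch hp (vec D l (D.nroots - 1)) (z⁻¹ * 1 * z) = 1 := by
    rw [mul_one, inv_mul_cancel]
    exact ch_one hp cs hk r hθ
  let F : Subgroup ↥(D.group k) :=
    { carrier := {y | y ∈ E ∧ ch hp (vec D l (D.nroots - 1)) (z⁻¹ * y * z) = 1}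
      one_mem' := ⟨one_mem _, h1'⟩
      mul_mem' := by
        rintro a b ⟨ha, ha'⟩ ⟨hb, hb'⟩
        exact ⟨mul_mem ha hb, by rw [hmul a ha b hb, ha', hb', one_mul]⟩
      inv_mem' := by
        rintro a ⟨ha, ha'⟩
        refine ⟨inv_mem ha, ?_⟩
        have h2 := hmul a ha a⁻¹ (inv_mem ha)
        rw [mul_inv_cancel, h1', ha', one_mul] at h2
        exact h2.symm }
  have hF : F ≤ E := fun y hy => hy.1
  refine ⟨v, hv, F, hF, relIndex_ker hE (χ := fun y => ch hp (vec D l (D.nroots - 1)) (z⁻¹ * y * z)) hmul h0 hF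
    (fun y hy => ⟨fun h => h.2, fun h => ⟨hy, h⟩⟩), fun y hy u hu => ?_⟩
  exact h1 ⟨⟨y, hy.1⟩, hy.2⟩ u hu

include hk in
/-- **The main theorem for `D.group k`.** -/
theorem longComm_or (hZ : Subgroup.center ↥(D.group k) = ⊥) (hB2 : D ≠ chevB2) (he : 0 < e)
    {σ : MulAut ↥(D.group k)} (hσ : IsFrob r e σ) {g : (Fin l → ℤ) ≃+ (Fin l → ℤ)}
    (Fσ : Fr cs hp.isCartan (TT D k) (XX D l k) σ g) (hg : g (vec D l (D.nroots - 1)) = vec D l (D.nroots - 1))
    (hcmb : ∀ w : W, (∀ a, IsRoot cs hp.isCartan ((g.trans (repAut cs hp.isCartan w)) a) ↔ IsRoot cs hp.isCartan a) →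
      Cmb hp cs (g.trans (repAut cs hp.isCartan w))) {p : ℕ} [Fact p.Prime] (hp2 : p ≠ 2)
    {E : Subgroup ↥(D.group k)} [Finite ↥E] (hE : ∀ y ∈ E, y ^ p = 1) (hEσ : ∀ y ∈ E, σ y = y)
    {z : ↥(D.group k)} (hz : ∀ y ∈ E, z⁻¹ * y * z ∈ TT D k) :
    LongComm l σ p E ∨ ExcFrame cs hp σ g hk r E := by
  have := finite_W hp cs
  have Hθ := longR_top hp cs hB2
  have hdom := dom_top hp hB2
  obtain ⟨z', c, w, F, hw, -, hpos⟩ := exists_frame (hp := hp) cs hk (r := r) he hσ Fσ (x := fun y : ↥E => y.1)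
    (fun y => hEσ _ y.2) (z := z) (fun y => hz _ y.2)
  obtain ⟨γ, hγ⟩ : ∃ γ, γ = g.trans (repAut cs hp.isCartan w) := ⟨_, rfl⟩
  have hFr := F.fr
  have hcm := hcmb w F.fr.root
  rw [← hγ] at F hpos hcm hFr
  have hxp : ∀ (z₁ : ↥(D.group k)) (y : ↥E), (z₁⁻¹ * y.1 * z₁) ^ p = 1 := by
    intro z₁ y
    have h1 : z₁⁻¹ * y.1 * z₁ = z₁⁻¹ * y.1 * z₁⁻¹⁻¹ := by rw [inv_inv]
    rw [h1, conj_pow, hE _ y.2, mul_one, mul_inv_cancel]
  rcases hcm with ⟨u, hu⟩ | ⟨a, ha, h2a, hca⟩ | ⟨hD8, h8⟩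
  · -- conjugation by an element of `N`
    left
    obtain ⟨n, -, hn⟩ := (tow hp cs hk r (k := k)).exists_rp u⁻¹
    have F1 := F.conj hk hn
    refine longComm_of_main (hp := hp) cs hk r hE (z := z' * n⁻¹) (fun y hy => F1.tor ⟨y, hy⟩) Hθ.1 ?_
    refine (F1.comp (fun i : {y : ↥E // ch hp (vec D l (D.nroots - 1)) ((z' * n⁻¹)⁻¹ * y.1 * (z' * n⁻¹)) = 1} =>
      i.1)).main hk hZ he hσ Fσ Hθ hdom hg (fun i => hEσ _ i.1.2) (fun i => i.2) (Or.inl ?_)
    have h1 : ((repAut cs hp.isCartan u⁻¹).symm.trans (γ.trans (repAut cs hp.isCartan u⁻¹)))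
        (vec D l (D.nroots - 1)) = rep cs hp.isCartan u⁻¹ (γ (rep cs hp.isCartan u (vec D l (D.nroots - 1)))) := by
      show rep cs hp.isCartan u⁻¹ (γ (rep cs hp.isCartan u⁻¹⁻¹ (vec D l (D.nroots - 1)))) = _
      rw [inv_inv]
    rw [h1]
    intro h2
    apply hu
    have h3 := cpr_rep cs hp.isCartan u (rep cs hp.isCartan u⁻¹ (γ (rep cs hp.isCartan u (vec D l (D.nroots - 1)))))
      Hθ.1
    rw [← rep_mul_apply, mul_inv_cancel, map_one, Module.End.one_apply, h2] at h3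
    exact h3
  · -- the half difference
    left
    refine longComm_of_main (hp := hp) cs hk r hE (z := z') (fun y hy => F.tor ⟨y, hy⟩) Hθ.1 ?_
    refine (F.comp (fun i : {y : ↥E // ch hp (vec D l (D.nroots - 1)) (z'⁻¹ * y.1 * z') = 1} => i.1)).main hk hZ he hσ
      Fσ Hθ hdom hg (fun i => hEσ _ i.1.2) (fun i => i.2) (Or.inr ⟨a, ha, h2a, hca, fun i => ?_⟩)
    have htT := F.tor i.1
    have hfix := F.fix (i := i.1) (hEσ _ i.1.2)
    obtain ⟨t, ht⟩ : ∃ t, t = z'⁻¹ * i.1.1 * z' := ⟨_, rfl⟩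
    have hθt := i.2
    rw [← ht] at htT hfix hθt
    show ch hp a (z'⁻¹ * i.1.1 * z') = 1
    rw [← ht]
    -- the characters of `θ`, `γ θ`
    have h1 : ch hp (γ (vec D l (D.nroots - 1))) t = 1 := by
      have h2 := fr_ch hp cs hk (hσ.conj_mul c) F.fr Hθ.1 htT
      rw [hfix, hθt, one_pow] at h2
      exact h2
    obtain ⟨φ, hφ0, hadd, hφ⟩ := chAddL hp cs hk r t htT
    have h3 : φ a * φ a = 1 := by
      rw [← hadd, h2a]
      have h4 : φ (vec D l (D.nroots - 1) - γ (vec D l (D.nroots - 1))) * φ (γ (vec D l (D.nroots - 1))) =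
          φ (vec D l (D.nroots - 1)) := by rw [← hadd, sub_add_cancel]
      rw [← hφ _ Hθ.1, hθt, ← hφ _ ((F.fr.root _).2 Hθ.1), h1, mul_one] at h4
      exact h4
    rw [← hφ a ha] at h3
    have h5 : ch hp a t ^ p = 1 := by
      rw [← _root_.Cfsg.Agent.H696.GmnToral.ch_pow hp cs hk r ha htT, ht, hxp z' i.1]
      exact ch_one hp cs hk r ha
    have h6 : ch hp a t ^ 2 = 1 := by rw [pow_two]; exact h3
    have h7 : Nat.Coprime p 2 := (Nat.coprime_primes (Fact.out : p.Prime) Nat.prime_two).2 hp2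
    have h8 : ch hp a t ^ Nat.gcd p 2 = 1 := pow_gcd_eq_one.2 ⟨h5, h6⟩
    rw [h7, pow_one] at h8
    exact h8
  · right
    refine ⟨hD8, z', c, w, by rw [← hγ]; exact F, hw, by rw [← hγ]; exact h8, ?_⟩
    rw [Set.eq_empty_iff_forall_notMem]
    intro a ha
    -- positivity
    have hTL := TL_eq hp hk
    have hXL := XL_eq hp hk
    have C : Coords cs hp.isCartan (TL (Tj hp (k := k))) (nc hp k) (XL (Xj hp (k := k))) (xc hp) (ch hp) := by
      rw [hTL, hXL]; exact coordsL hp cs hk r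
    have hA' : ChAdd cs hp.isCartan (TL (Tj hp (k := k))) (ch (K := k) hp) := by rw [hTL]; exact chAddL hp cs hk r
    have hFr' : Fr cs hp.isCartan (TL (Tj hp (k := k))) (XL (Xj hp (k := k))) (MulAut.conj c * σ) γ := by
      rw [hTL, hXL]; exact F.fr
    have htT : ∀ y : ↥E, z'⁻¹ * y.1 * z' ∈ TL (Tj hp (k := k)) := fun y => by rw [hTL]; exact F.tor y
    have hmem := fun a => mem_SxS C hFr' htT (fun y => F.fix (i := y) (hEσ _ y.2)) a
    have key : ∀ a ∈ SxS cs hp.isCartan (ch hp) (fun y : ↥E => z'⁻¹ * y.1 * z'), 0 ≤ a → False := by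
      intro a ha h0
      have h1 := hpos a ha h0
      have h2 := hpos _ ((hmem a).2 ha) h1
      rw [h8] at h2
      exact ha.1.ne_zero (le_antisymm (neg_nonneg.1 h2) h0)
    rcases ha.1.pos_or_neg with h1 | h1
    · exact key a ha h1
    · exact key _ (SxS_neg C hA' htT ha) (neg_nonneg.2 h1)

end Main

end Cfsg.Agent.H496.Gen.T2
end
end

-- part: H230/X3/Exc
section
prune_inst 0x4000040000000000000000400020001000000000000800000000040000830000000100040010120008000000000008110000400200000000000000000000000048800000000000000000000004400000000000000000000000000000000000000000000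
set_option linter.all false
open scoped Cfsg.Agent.FastGrp

-- part: H230/X3/Emb
section
/-!
# Signed embeddings of the tables of Chevalley data (S2187 X3, helper230)

`S : TEmb D D'` : an embedding `e_s ↦ ε_s e_{σ s}`, `h_i ↦ h_{σ₀ i}` of the tables of `D` into those of `D'` (Levi
subalgebra).  `S.Pres A` : the matrix `A` preserves the coordinate subspace of `D`; `S.blk A` the restriction.

* `blk_mul` : `blk (A * B) = blk A * blk B` if `Pres B`;
* `pres_xMat`, `blk_xMat` : `blk (x_{σ r}(t)) = x_r(ε_r t)`.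
-/

set_option autoImplicit false

namespace Cfsg.Agent.H230.X3

open Cfsg.Lie

/-- a signed embedding of the tables of `D` into the tables of `D'` -/
structure TEmb (D D' : ChevalleyDatum) where
  σ : Fin D.nroots → Fin D'.nroots
  σ₀ : Fin D.rank → Fin D'.rank
  ε : Fin D.nroots → ℤ
  inj : Function.Injective σ
  inj₀ : Function.Injective σ₀
  ε_sq : ∀ r, ε r * ε r = 1
  cartan_eq : ∀ i r, (D'.cartanSR.getD (σ₀ i).val #[]).getD (σ r).val 0 = (D.cartanSR.getD i.val #[]).getD r.val 0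
  coroot_eq : ∀ i r, (D'.coroot.getD (σ r).val #[]).getD (σ₀ i).val 0 = (D.coroot.getD r.val #[]).getD i.val 0
  coroot_out : ∀ i r, (∀ j, σ₀ j ≠ i) → (D'.coroot.getD (σ r).val #[]).getD i.val 0 = 0
  neg_iff : ∀ r s : Fin D.nroots, (σ s).val = D'.negIdx.getD (σ r).val 0 ↔ s.val = D.negIdx.getD r.val 0
  ε_neg : ∀ r s : Fin D.nroots, s.val = D.negIdx.getD r.val 0 → ε s = ε r
  chain_eq : ∀ r s u : Fin D.nroots, D'.chainCoeff (σ r).val (σ s).val (σ u).val =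
    (D.chainCoeff r.val s.val u.val).map fun q => (q.1, ε u * ε s * ε r ^ q.1 * q.2)
  chain_out : ∀ r s : Fin D.nroots, ∀ u : Fin D'.nroots, (∀ v, σ v ≠ u) →
    D'.chainCoeff (σ r).val (σ s).val u.val = []

namespace TEmb

variable {D D' : ChevalleyDatum} (S : TEmb D D')

/-- The embedding of the coordinate index set. -/
def em : D.Idx → D'.Idx
  | Sum.inl i => Sum.inl (S.σ₀ i)
  | Sum.inr r => Sum.inr (S.σ r)

theorem em_inj : Function.Injective S.em := by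
  rintro (a | a) (b | b) h
  · exact congrArg Sum.inl (S.inj₀ (Sum.inl.inj h))
  · exact absurd h Sum.inl_ne_inr
  · exact absurd h Sum.inr_ne_inl
  · exact congrArg Sum.inr (S.inj (Sum.inr.inj h))

/-- The signs. -/
def sgn : D.Idx → ℤ
  | Sum.inl _ => 1
  | Sum.inr r => S.ε r

theorem sgn_sq (a : D.Idx) : S.sgn a * S.sgn a = 1 := by
  cases a with
  | inl i => rfl
  | inr r => exact S.ε_sq r

variable {F : Type*} [Field F]

theorem sgn_sq' (a : D.Idx) : ((S.sgn a : ℤ) : F) * ((S.sgn a : ℤ) : F) = 1 := by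
  rw [← Int.cast_mul, S.sgn_sq a, Int.cast_one]

theorem ε_sq' (a : Fin D.nroots) : ((S.ε a : ℤ) : F) * ((S.ε a : ℤ) : F) = 1 := by
  rw [← Int.cast_mul, S.ε_sq a, Int.cast_one]

/-- the matrix preserves the coordinate subspace of `D` -/
def Pres (A : Matrix D'.Idx D'.Idx F) : Prop := ∀ i j, (∀ a, S.em a ≠ i) → A i (S.em j) = 0

/-- the restriction to the coordinate subspace of `D` -/
def blk (A : Matrix D'.Idx D'.Idx F) : Matrix D.Idx D.Idx F :=
  Matrix.of fun a b => ((S.sgn a : ℤ) : F) * A (S.em a) (S.em b) * ((S.sgn b : ℤ) : F)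

theorem blk_apply (A : Matrix D'.Idx D'.Idx F) (a b : D.Idx) :
    S.blk A a b = ((S.sgn a : ℤ) : F) * A (S.em a) (S.em b) * ((S.sgn b : ℤ) : F) := rfl

theorem sum_em (f : D'.Idx → F) (hf : ∀ i, (∀ a, S.em a ≠ i) → f i = 0) : ∑ i, f i = ∑ a, f (S.em a) := by
  rw [← Finset.sum_image (f := f) (s := Finset.univ) (g := S.em) (fun a _ b _ h => S.em_inj h)]
  symm
  refine Finset.sum_subset (Finset.subset_univ _) fun i _ hi => hf i fun a ha => hi ?_
  exact Finset.mem_image.2 ⟨a, Finset.mem_univ a, ha⟩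

theorem Pres.one : S.Pres (1 : Matrix D'.Idx D'.Idx F) := fun _ _ h => Matrix.one_apply_ne (h _).symm

theorem Pres.mul {A B : Matrix D'.Idx D'.Idx F} (hA : S.Pres A) (hB : S.Pres B) : S.Pres (A * B) := by
  intro i j hi
  rw [Matrix.mul_apply, S.sum_em _ fun k hk => by rw [hB k j hk, mul_zero]]
  exact Finset.sum_eq_zero fun a _ => by rw [hA i a hi, zero_mul]

theorem blk_one : S.blk (1 : Matrix D'.Idx D'.Idx F) = 1 := by
  ext a b
  rw [blk_apply]
  by_cases h : a = b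
  · subst h
    rw [Matrix.one_apply_eq, Matrix.one_apply_eq, mul_one, S.sgn_sq']
  · rw [Matrix.one_apply_ne h, Matrix.one_apply_ne fun h' => h (S.em_inj h'), mul_zero, zero_mul]

theorem blk_mul {A B : Matrix D'.Idx D'.Idx F} (hB : S.Pres B) : S.blk (A * B) = S.blk A * S.blk B := by
  ext a b
  rw [blk_apply, Matrix.mul_apply, Matrix.mul_apply, S.sum_em _ fun k hk => by rw [hB k b hk, mul_zero],
    Finset.mul_sum, Finset.sum_mul]
  refine Finset.sum_congr rfl fun c _ => ?_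
  rw [blk_apply, blk_apply]
  have h := S.sgn_sq' (F := F) c
  linear_combination (-((S.sgn a : ℤ) : F) * A (S.em a) (S.em c) * B (S.em c) (S.em b) * ((S.sgn b : ℤ) : F)) * h

theorem Pres.map {K : Type*} [Field K] {A : Matrix D'.Idx D'.Idx F} (f : F →+* K) (hA : S.Pres A) :
    S.Pres (A.map f) := fun i j hi => by rw [Matrix.map_apply, hA i j hi, map_zero]

/-- a diagonal matrix -/
theorem pres_diagonal (d : D'.Idx → F) : S.Pres (Matrix.diagonal d) := fun _ _ h =>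
  Matrix.diagonal_apply_ne _ (h _).symm

theorem blk_diagonal (d : D'.Idx → F) : S.blk (Matrix.diagonal d) = Matrix.diagonal fun a => d (S.em a) := by
  ext a b
  rw [blk_apply]
  by_cases h : a = b
  · subst h
    rw [Matrix.diagonal_apply_eq, Matrix.diagonal_apply_eq]
    have h := S.sgn_sq' (F := F) a
    linear_combination (d (S.em a)) * h
  · rw [Matrix.diagonal_apply_ne _ h, Matrix.diagonal_apply_ne _ fun h' => h (S.em_inj h'), mul_zero, zero_mul]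

/-! ### root elements -/

theorem pres_xMat (r : Fin D.nroots) (t : F) : S.Pres (D'.xMat F (S.σ r) t) := by
  rintro i (j | s) hi
  · rcases i with i' | u
    · show (if i' = S.σ₀ j then (1 : F) else 0) = 0
      exact if_neg fun h => hi (Sum.inl j) (congrArg Sum.inl h.symm)
    · show (if u = S.σ r then - (((D'.cartanSR.getD (S.σ₀ j).val #[]).getD (S.σ r).val 0 : ℤ) : F) * t else 0) = 0
      exact if_neg fun h => hi (Sum.inr r) (congrArg Sum.inr h.symm)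
  · show D'.xMat F (S.σ r) t i (Sum.inr (S.σ s)) = 0
    have hu : ∀ u, i = Sum.inr u → ∀ v, S.σ v ≠ u := fun u hu v hv => hi (Sum.inr v) (by rw [hu, ← hv]; rfl)
    by_cases hsr : S.σ s = S.σ r
    · rcases i with i' | u
      · simp only [ChevalleyDatum.xMat, Matrix.of_apply]
        rw [if_pos hsr]
      · simp only [ChevalleyDatum.xMat, Matrix.of_apply]
        rw [if_pos hsr, if_neg fun h => hu u rfl r h.symm]
    · by_cases hn : (S.σ s).val = D'.negIdx.getD (S.σ r).val 0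
      · rcases i with i' | u
        · simp only [ChevalleyDatum.xMat, Matrix.of_apply]
          rw [if_neg hsr, if_pos hn, S.coroot_out i' r fun j hj => hi (Sum.inl j) (congrArg Sum.inl hj),
            Int.cast_zero, zero_mul]
        · simp only [ChevalleyDatum.xMat, Matrix.of_apply]
          rw [if_neg hsr, if_pos hn, if_neg fun h => hu u rfl s h.symm, if_neg fun h => hu u rfl r h.symm]
      · rcases i with i' | u
        · simp only [ChevalleyDatum.xMat, Matrix.of_apply]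
          rw [if_neg hsr, if_neg hn]
        · simp only [ChevalleyDatum.xMat, Matrix.of_apply]
          rw [if_neg hsr, if_neg hn, if_neg fun h => hu u rfl s h.symm, S.chain_out r s u (hu u rfl)]
          simp

theorem xMat_em (r : Fin D.nroots) (t : F) (a b : D.Idx) :
    D'.xMat F (S.σ r) (((S.ε r : ℤ) : F) * t) (S.em a) (S.em b) =
      ((S.sgn a : ℤ) : F) * D.xMat F r t a b * ((S.sgn b : ℤ) : F) := by
  have hσ : ∀ u v : Fin D.nroots, S.σ u = S.σ v ↔ u = v := fun u v => S.inj.eq_iff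
  have hσ₀ : ∀ u v : Fin D.rank, S.σ₀ u = S.σ₀ v ↔ u = v := fun u v => S.inj₀.eq_iff
  rcases b with i | s
  · rcases a with i' | u
    · show (if S.σ₀ i' = S.σ₀ i then (1 : F) else 0) =
        ((1 : ℤ) : F) * (if i' = i then (1 : F) else 0) * ((1 : ℤ) : F)
      by_cases h : i' = i
      · subst h
        rw [if_pos rfl, if_pos rfl]; simp
      · rw [if_neg ((hσ₀ _ _).not.mpr h), if_neg h]; simp
    · show (if S.σ u = S.σ r then
          - (((D'.cartanSR.getD (S.σ₀ i).val #[]).getD (S.σ r).val 0 : ℤ) : F) * (((S.ε r : ℤ) : F) * t) else 0) =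
        ((S.ε u : ℤ) : F) *
          (if u = r then - (((D.cartanSR.getD i.val #[]).getD r.val 0 : ℤ) : F) * t else 0) * ((1 : ℤ) : F)
      by_cases h : u = r
      · subst h
        rw [if_pos rfl, if_pos rfl, S.cartan_eq]
        push_cast
        ring
      · rw [if_neg ((hσ _ _).not.mpr h), if_neg h]; simp
  · by_cases hsr : s = r
    · subst hsr
      rcases a with i' | u
      · have e1 : D'.xMat F (S.σ s) (((S.ε s : ℤ) : F) * t) (Sum.inl (S.σ₀ i')) (Sum.inr (S.σ s)) = 0 := by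
          simp only [ChevalleyDatum.xMat, _root_.Array.getD_eq_getD_getElem?, _root_.neg_mul, _root_.Matrix.of_apply, ↓ _root_.reduceIte]
        have e2 : D.xMat F s t (Sum.inl i') (Sum.inr s) = 0 := by
          simp only [ChevalleyDatum.xMat, _root_.Array.getD_eq_getD_getElem?, _root_.neg_mul, _root_.Matrix.of_apply, ↓ _root_.reduceIte]
        show D'.xMat F (S.σ s) (((S.ε s : ℤ) : F) * t) (Sum.inl (S.σ₀ i')) (Sum.inr (S.σ s)) = _
        rw [e1, e2]; simp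
      · have e1 : D'.xMat F (S.σ s) (((S.ε s : ℤ) : F) * t) (Sum.inr (S.σ u)) (Sum.inr (S.σ s)) =
            if u = s then 1 else 0 := by
          simp only [ChevalleyDatum.xMat, hσ, _root_.Array.getD_eq_getD_getElem?, _root_.neg_mul, _root_.Matrix.of_apply, ↓ _root_.reduceIte]
        have e2 : D.xMat F s t (Sum.inr u) (Sum.inr s) = if u = s then 1 else 0 := by
          simp only [ChevalleyDatum.xMat, _root_.Array.getD_eq_getD_getElem?, _root_.neg_mul, _root_.Matrix.of_apply, ↓ _root_.reduceIte]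
        show D'.xMat F (S.σ s) (((S.ε s : ℤ) : F) * t) (Sum.inr (S.σ u)) (Sum.inr (S.σ s)) = _
        rw [e1, e2]
        by_cases h : u = s
        · subst h
          rw [if_pos rfl, mul_one]
          exact (S.sgn_sq' (F := F) (Sum.inr u)).symm
        · rw [if_neg h]; simp
    · by_cases hn : s.val = D.negIdx.getD r.val 0
      · have hn' : (S.σ s).val = D'.negIdx.getD (S.σ r).val 0 := (S.neg_iff r s).mpr hn
        have hsr' : ¬ S.σ s = S.σ r := (hσ _ _).not.mpr hsr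
        have hε := S.ε_neg r s hn
        rcases a with i' | u
        · have e1 : D'.xMat F (S.σ r) (((S.ε r : ℤ) : F) * t) (Sum.inl (S.σ₀ i')) (Sum.inr (S.σ s)) =
              (((D'.coroot.getD (S.σ r).val #[]).getD (S.σ₀ i').val 0 : ℤ) : F) * (((S.ε r : ℤ) : F) * t) := by
            simp only [ChevalleyDatum.xMat, Matrix.of_apply]
            rw [if_neg hsr', if_pos hn']
          have e2 : D.xMat F r t (Sum.inl i') (Sum.inr s) =
              (((D.coroot.getD r.val #[]).getD i'.val 0 : ℤ) : F) * t := by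
            simp only [ChevalleyDatum.xMat, Matrix.of_apply]
            rw [if_neg hsr, if_pos hn]
          show D'.xMat F (S.σ r) (((S.ε r : ℤ) : F) * t) (Sum.inl (S.σ₀ i')) (Sum.inr (S.σ s)) =
            ((1 : ℤ) : F) * D.xMat F r t (Sum.inl i') (Sum.inr s) * ((S.ε s : ℤ) : F)
          rw [e1, e2, S.coroot_eq, hε]
          push_cast
          ring
        · have e1 : D'.xMat F (S.σ r) (((S.ε r : ℤ) : F) * t) (Sum.inr (S.σ u)) (Sum.inr (S.σ s)) =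
              if S.σ u = S.σ s then 1 else if S.σ u = S.σ r then -((((S.ε r : ℤ) : F) * t) ^ 2) else 0 := by
            simp only [ChevalleyDatum.xMat, Matrix.of_apply]
            rw [if_neg hsr', if_pos hn']
          have e2 : D.xMat F r t (Sum.inr u) (Sum.inr s) =
              if u = s then 1 else if u = r then -(t ^ 2) else 0 := by
            simp only [ChevalleyDatum.xMat, Matrix.of_apply]
            rw [if_neg hsr, if_pos hn]
          show D'.xMat F (S.σ r) (((S.ε r : ℤ) : F) * t) (Sum.inr (S.σ u)) (Sum.inr (S.σ s)) =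
            ((S.ε u : ℤ) : F) * D.xMat F r t (Sum.inr u) (Sum.inr s) * ((S.ε s : ℤ) : F)
          rw [e1, e2]
          by_cases h : u = s
          · subst h
            rw [if_pos rfl, if_pos rfl, mul_one, S.ε_sq']
          · rw [if_neg ((hσ _ _).not.mpr h), if_neg h]
            by_cases h2 : u = r
            · subst h2
              rw [if_pos rfl, if_pos rfl, hε]
              ring
            · rw [if_neg ((hσ _ _).not.mpr h2), if_neg h2]; simp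
      · have hn' : ¬ (S.σ s).val = D'.negIdx.getD (S.σ r).val 0 := (S.neg_iff r s).not.mpr hn
        have hsr' : ¬ S.σ s = S.σ r := (hσ _ _).not.mpr hsr
        rcases a with i' | u
        · have e1 : D'.xMat F (S.σ r) (((S.ε r : ℤ) : F) * t) (Sum.inl (S.σ₀ i')) (Sum.inr (S.σ s)) = 0 := by
            simp only [ChevalleyDatum.xMat, Matrix.of_apply]
            rw [if_neg hsr', if_neg hn']
          have e2 : D.xMat F r t (Sum.inl i') (Sum.inr s) = 0 := by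
            simp only [ChevalleyDatum.xMat, Matrix.of_apply]
            rw [if_neg hsr, if_neg hn]
          show D'.xMat F (S.σ r) (((S.ε r : ℤ) : F) * t) (Sum.inl (S.σ₀ i')) (Sum.inr (S.σ s)) = _
          rw [e1, e2]; simp
        · have e1 : D'.xMat F (S.σ r) (((S.ε r : ℤ) : F) * t) (Sum.inr (S.σ u)) (Sum.inr (S.σ s)) =
              (if S.σ u = S.σ s then 1 else 0) +
              ((D'.chainCoeff (S.σ r).val (S.σ s).val (S.σ u).val).map
                fun km => ((km.2 : ℤ) : F) * (((S.ε r : ℤ) : F) * t) ^ km.1).sum := by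
            simp only [ChevalleyDatum.xMat, Matrix.of_apply]
            rw [if_neg hsr', if_neg hn']
          have e2 : D.xMat F r t (Sum.inr u) (Sum.inr s) =
              (if u = s then 1 else 0) +
              ((D.chainCoeff r.val s.val u.val).map fun km => ((km.2 : ℤ) : F) * t ^ km.1).sum := by
            simp only [ChevalleyDatum.xMat, Matrix.of_apply]
            rw [if_neg hsr, if_neg hn]
          show D'.xMat F (S.σ r) (((S.ε r : ℤ) : F) * t) (Sum.inr (S.σ u)) (Sum.inr (S.σ s)) =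
            ((S.ε u : ℤ) : F) * D.xMat F r t (Sum.inr u) (Sum.inr s) * ((S.ε s : ℤ) : F)
          rw [e1, e2, S.chain_eq, List.map_map, mul_add, add_mul]
          (with_reducible congr 1)
          · by_cases h : u = s
            · subst h
              rw [if_pos rfl, if_pos rfl, mul_one, S.ε_sq']
            · rw [if_neg ((hσ _ _).not.mpr h), if_neg h]; simp
          · rw [← List.sum_map_mul_left, ← List.sum_map_mul_right]
            congr 1
            apply List.map_congr_left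
            intro q _
            have h1 : ((S.ε r : ℤ) : F) ^ q.1 * ((S.ε r : ℤ) : F) ^ q.1 = 1 := by
              rw [← mul_pow, S.ε_sq', one_pow]
            simp only [Function.comp_apply]
            push_cast
            rw [mul_pow]
            calc ((S.ε u : ℤ) : F) * ((S.ε s : ℤ) : F) * ((S.ε r : ℤ) : F) ^ q.1 * ((q.2 : ℤ) : F) *
                  (((S.ε r : ℤ) : F) ^ q.1 * t ^ q.1)
                = ((S.ε u : ℤ) : F) * ((S.ε s : ℤ) : F) * (((S.ε r : ℤ) : F) ^ q.1 * ((S.ε r : ℤ) : F) ^ q.1) *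
                  (((q.2 : ℤ) : F) * t ^ q.1) := by ring
              _ = _ := by rw [h1]; ring

/-- **Root elements**: `blk (x_{σ r}(t)) = x_r(ε_r t)`. -/
theorem blk_xMat (r : Fin D.nroots) (t : F) :
    S.blk (D'.xMat F (S.σ r) t) = D.xMat F r (((S.ε r : ℤ) : F) * t) := by
  ext a b
  have h1 := S.xMat_em (F := F) r (((S.ε r : ℤ) : F) * t) a b
  rw [← mul_assoc, S.ε_sq', one_mul] at h1
  rw [blk_apply, h1]
  have ha := S.sgn_sq' (F := F) a
  have hb := S.sgn_sq' (F := F) b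
  calc ((S.sgn a : ℤ) : F) * (((S.sgn a : ℤ) : F) * D.xMat F r (((S.ε r : ℤ) : F) * t) a b * ((S.sgn b : ℤ) : F)) *
        ((S.sgn b : ℤ) : F)
      = (((S.sgn a : ℤ) : F) * ((S.sgn a : ℤ) : F)) * D.xMat F r (((S.ε r : ℤ) : F) * t) a b *
        (((S.sgn b : ℤ) : F) * ((S.sgn b : ℤ) : F)) := by ring
    _ = _ := by rw [ha, hb, one_mul, mul_one]

end TEmb

end Cfsg.Agent.H230.X3

/-!
# `D4` in `E8` (nodes 1, 3, 2, 4), tables (S2187 X3, helper230)
-/

set_option autoImplicit false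

namespace Cfsg.Agent.H230.X3

open Cfsg.Lie

/-- the indices of the roots of `D4` -/
def sL : List ℕ := [87, 91, 92, 96, 97, 98, 102, 103, 108, 109, 104, 113, 126, 135, 130, 131, 136, 137, 141, 142, 143,
  147, 148, 152]

/-- the signs -/
def eL : List ℤ := [1, 1, 1, 1, 1, 1, -1, -1, 1, 1, 1, 1, 1, 1, 1, 1, -1, -1, 1, 1, 1, 1, 1, 1]

/-- the nodes `1, 3, 2, 4` of `E8`: the nodes `0, 1, 2, 3` of `D4` (centre `1`) -/
def nj : Fin 4 → Fin 8 := ![1, 3, 2, 4]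

/-- the check of the chain tables -/
def chk1 : Bool := (List.range 24).all fun r => (List.range 24).all fun s =>
  ((chevE8.chain.getD (sL.getD r 0) #[]).toList.filter (fun e => decide (e.1 = sL.getD s 0))).all fun e =>
    e.2.toList.all fun q => sL.elem q.1

def chk2 : Bool := (List.range 24).all fun r => (List.range 24).all fun s => (List.range 24).all fun u =>
  decide (chevE8.chainCoeff (sL.getD r 0) (sL.getD s 0) (sL.getD u 0) =
    (chevD4.chainCoeff r s u).map fun q => (q.1, eL.getD u 0 * eL.getD s 0 * eL.getD r 0 ^ q.1 * q.2))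

set_option maxRecDepth 100000 in
theorem chk1_true : chk1 = true := by decide +kernel

set_option maxRecDepth 100000 in
theorem chk2_true : chk2 = true := by (delta Cfsg.Agent.H230.X3.chk2; rewrite [Cfsg.Agent.ChevFast.E8.chainCoeff]; decide +kernel)

theorem sL_lt : ∀ r < 24, sL.getD r 0 < 240 := by decide +kernel

/-- **`D4` in `E8`.** -/
def dE : TEmb chevD4 chevE8 where
  σ r := ⟨sL.getD r.val 0, sL_lt r.val r.2⟩
  σ₀ := nj
  ε r := eL.getD r.val 0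
  inj := by
    have h : ∀ r < 24, ∀ s < 24, sL.getD r 0 = sL.getD s 0 → r = s := by decide +kernel
    intro r s e
    exact Fin.ext (h r.val r.2 s.val s.2 (congrArg Fin.val e))
  inj₀ := by
    have h : Function.Injective nj := by decide +kernel
    exact h
  ε_sq := by
    have h : ∀ r < 24, eL.getD r 0 * eL.getD r 0 = 1 := by decide +kernel
    exact fun r => h r.val r.2
  cartan_eq := by
    have h : ∀ i : Fin 4, ∀ r < 24, (chevE8.cartanSR.getD (nj i).val #[]).getD (sL.getD r 0) 0 =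
      (chevD4.cartanSR.getD i.val #[]).getD r 0 := by ((try set_option simprocs false in simp -zeta only [Cfsg.Agent.ChevFast.E8.cartanR]); decide +kernel)
    exact fun i r => h i r.val r.2
  coroot_eq := by
    have h : ∀ i : Fin 4, ∀ r < 24, (chevE8.coroot.getD (sL.getD r 0) #[]).getD (nj i).val 0 =
      (chevD4.coroot.getD r #[]).getD i.val 0 := by (rewrite [Cfsg.Agent.ChevFast.E8.coroot]; decide +kernel)
    exact fun i r => h i r.val r.2
  coroot_out := by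
    have h : ∀ i : Fin 8, ∀ r < 24, (∀ j, nj j ≠ i) → (chevE8.coroot.getD (sL.getD r 0) #[]).getD i.val 0 = 0 := by
      (rewrite [Cfsg.Agent.ChevFast.E8.coroot]; decide +kernel)
    exact fun i r => h i r.val r.2
  neg_iff := by
    have h : ∀ r < 24, ∀ s < 24, sL.getD s 0 = chevE8.negIdx.getD (sL.getD r 0) 0 ↔ s = chevD4.negIdx.getD r 0 := by
      (rewrite [Cfsg.Agent.ChevFast.E8.negA]; decide +kernel)
    exact fun r s => h r.val r.2 s.val s.2
  ε_neg := by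
    have h : ∀ r < 24, ∀ s < 24, s = chevD4.negIdx.getD r 0 → eL.getD s 0 = eL.getD r 0 := by
      decide +kernel
    exact fun r s => h r.val r.2 s.val s.2
  chain_eq := by
    intro r s u
    have h := chk2_true
    unfold chk2 at h
    rw [List.all_eq_true] at h
    have h1 := h r.val (List.mem_range.2 r.2)
    rw [List.all_eq_true] at h1
    have h2 := h1 s.val (List.mem_range.2 s.2)
    rw [List.all_eq_true] at h2
    exact of_decide_eq_true (h2 u.val (List.mem_range.2 u.2))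
  chain_out := by
    intro r s u hu
    have h := chk1_true
    unfold chk1 at h
    rw [List.all_eq_true] at h
    have h1 := h r.val (List.mem_range.2 r.2)
    rw [List.all_eq_true] at h1
    have h2 := h1 s.val (List.mem_range.2 s.2)
    rw [List.all_eq_true] at h2
    unfold ChevalleyDatum.chainCoeff
    rw [List.flatMap_eq_nil_iff]
    intro e he
    have h3 := h2 e he
    rw [List.all_eq_true] at h3
    rw [List.map_eq_nil_iff, List.filter_eq_nil_iff]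
    rintro ⟨q, n⟩ hq
    rw [decide_eq_true_eq]
    intro hqu
    have h4 := h3 q (by rw [(List.mem_zipIdx' hq).2]; exact List.getElem_mem _)
    have h5 : q.1 ∈ sL := by
      have h6 : sL.elem q.1 = true := h4
      rwa [List.elem_eq_contains, List.contains_iff_mem] at h6
    have hqu' : q.1 = u.val := hqu
    rw [hqu'] at h5
    obtain ⟨n, hn, e⟩ := List.mem_iff_getElem.1 h5
    have hn' : n < 24 := hn
    refine hu ⟨n, hn'⟩ (Fin.ext ?_)
    show sL.getD n 0 = u.val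
    rw [List.getD_eq_getElem _ _ hn, e]

end Cfsg.Agent.H230.X3
end

-- part: H230/X3/LeviD
section
/-!
# Kernels of homomorphisms of groups with root group data (S2187 X3, helper230)

`ker_le` : `φ : L →* Y'`, `GG ≤ L`, maps `T, X x, n i` into `T', X' x`, the representatives of the simple reflections, and
is injective on the root groups: the kernel on `GG` is contained in `T`.
-/

set_option autoImplicit false
set_option linter.unusedSectionVars false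

namespace Cfsg.Agent.H230.X3

open CoxeterSystem Cfsg.Agent.ChevalleyStructure.CoxeterGeom Cfsg.Agent.Tits.Roots Cfsg.Agent.Tits.Core
  Cfsg.Agent.Nodes.Reps Cfsg.Agent.Nodes.BNOf Cfsg.Agent.Nodes.StabComb Cfsg.Agent.Nodes.Bruhat
  Cfsg.Agent.Nodes.OppDec Cfsg.Agent.Nodes.NormalForm

variable {I W Y Y' : Type*} [Fintype I] [DecidableEq I] [Group W] [Group Y] [Group Y'] {M : CoxeterMatrix I}
  {cs : CoxeterSystem M W} {A : I → I → ℤ} {h : IsCartan M A} {p p' : ℕ} {T : Subgroup Y} {n : I → Y}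
  {X : (I → ℤ) → Subgroup Y} {T' : Subgroup Y'} {n' : I → Y'} {X' : (I → ℤ) → Subgroup Y'}
  (R : RGD cs h p T n X) (R' : RGD cs h p' T' n' X') {L : Subgroup Y} (hL : GG cs h T X ≤ L) (φ : ↥L →* Y')
  (hT : ∀ t : ↥L, (t : Y) ∈ T → φ t ∈ T')
  (hn : ∀ i, ∀ m : ↥L, (m : Y) = n i → Rp cs R'.nsys (cs.simple i) (φ m))
  (hX : ∀ x, IsRoot cs h x → ∀ u : ↥L, (u : Y) ∈ X x → φ u ∈ X' x)
  (hinj : ∀ x, IsRoot cs h x → ∀ u : ↥L, (u : Y) ∈ X x → φ u = 1 → u = 1)

include hL hT hn in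
theorem rp_phi [Finite W] {w : W} {k : ↥L} (hk : Rp cs R.nsys w (k : Y)) : Rp cs R'.nsys w (φ k) := by
  obtain ⟨ω, rfl⟩ := cs.wordProd_surjective w
  induction ω generalizing k with
  | nil =>
    rw [wordProd_nil] at hk ⊢
    exact rp_of_mem (hT k hk.mem_of_one)
  | cons i ω ih =>
    rw [wordProd_cons] at hk ⊢
    have h1 : Rp cs R.nsys (cs.wordProd ω) ((n i)⁻¹ * k) := by
      have := (rp_simple cs R.nsys i).inv.mul hk
      rwa [inv_mul_cancel_left] at this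
    have hni : n i ∈ L := hL (by
      have := rp_mem_LJ R (J := Set.univ) (mem_univ' cs (cs.simple i)) (rp_simple cs R.nsys i)
      rwa [LJ_univ] at this)
    have h2 := ih (k := (⟨n i, hni⟩⁻¹ * k :)) h1
    have h3 := (hn i ⟨n i, hni⟩ rfl).mul h2
    rw [← map_mul] at h3
    rwa [mul_inv_cancel_left] at h3

include hX in
theorem sup_phi {S : Set (I → ℤ)} (hS : ∀ x ∈ S, IsRoot cs h x) (hSL : RGD.Sup X S ≤ L) {u : ↥L}
    (hu : (u : Y) ∈ RGD.Sup X S) : φ u ∈ RGD.Sup X' S := by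
  have h1 : RGD.Sup X S ≤ ((RGD.Sup X' S).comap φ).map L.subtype := by
    refine RGD.Sup_le fun x hx => ?_
    intro y hy
    have hyL : y ∈ L := hSL (RGD.le_Sup hx hy)
    exact ⟨⟨y, hyL⟩, RGD.le_Sup hx (hX x (hS x hx) ⟨y, hyL⟩ hy), rfl⟩
  obtain ⟨v, hv, e⟩ := h1 hu
  have : v = u := Subtype.ext e
  rwa [this] at hv

include R R' hL hT hn hX hinj in
theorem eq_one_of_U [Finite W] {u : ↥L} (hu : (u : Y) ∈ RGD.Sup X (RGD.Pos cs h)) (h1 : φ u = 1) : u = 1 := by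
  have hUL : RGD.Sup X (RGD.Pos cs h) ≤ L := (RGD.U_le_B.trans B_le_GG).trans hL
  have hVL : ∀ i, RGD.Sup X (RGD.PosNe cs h i) ≤ RGD.Sup X (RGD.Pos cs h) := fun i =>
    RGD.Sup_mono fun x hx => ⟨hx.1, hx.2.1⟩
  -- the kernel lies in all `V i`
  have key : ∀ i, ∀ v : ↥L, (v : Y) ∈ RGD.Sup X (RGD.Pos cs h) → φ v = 1 → (v : Y) ∈ RGD.Sup X (RGD.PosNe cs h i) := by
    intro i v hv hv1
    have h2 : (v : Y) ∈ ((X (sr i) ⊔ RGD.Sup X (RGD.PosNe cs h i) : Subgroup Y) : Set Y) := by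
      rw [← RGD.Upos_eq R i]; exact hv
    rw [Subgroup.coe_mul_of_left_le_normalizer_right _ _ (R.X_le_normalizer_V i), Set.mem_mul] at h2
    obtain ⟨a, ha, b, hb, e⟩ := h2
    have hi := isRoot_sr cs h i
    have haL : a ∈ L := hL (X_le_GG hi ha)
    have hbL : b ∈ L := hUL (hVL i hb)
    have e' : v = ⟨a, haL⟩ * ⟨b, hbL⟩ := Subtype.ext e.symm
    rw [e', map_mul] at hv1
    have h3 := hX _ hi ⟨a, haL⟩ ha
    have h4 : φ ⟨b, hbL⟩ ∈ RGD.Sup X' (RGD.PosNe cs h i) :=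
      sup_phi φ hX (fun x hx => hx.1) ((hVL i).trans hUL) (u := ⟨b, hbL⟩) hb
    have h5 : φ ⟨a, haL⟩ ∈ RGD.Sup X' (RGD.PosNe cs h i) := by
      rw [eq_inv_of_mul_eq_one_left hv1]; exact inv_mem h4
    have h6 := eq_one_of_mem_PosNe R' h3 h5
    have h7 := hinj _ hi _ ha h6
    have h8 : a = 1 := congrArg Subtype.val h7
    have h9 : (v : Y) = b := by rw [← e, h8, one_mul]
    rw [h9]; exact hb
  -- stability under the representatives
  have key2 : ∀ w : W, ∀ k : ↥L, Rp cs R.nsys w (k : Y) → ∀ v : ↥L, (v : Y) ∈ RGD.Sup X (RGD.Pos cs h) → φ v = 1 →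
      ((k * v * k⁻¹ : ↥L) : Y) ∈ RGD.Sup X (RGD.Pos cs h) := by
    intro w
    obtain ⟨ω, rfl⟩ := cs.wordProd_surjective w
    clear h1 hu
    induction ω with
    | nil =>
      intro k hk v hv _
      rw [wordProd_nil] at hk
      exact (Subgroup.mem_normalizer_iff.1 (R.T_le_normalizer_U hk.mem_of_one) v).1 hv
    | cons i ω ih =>
      intro k hk v hv hv1
      rw [wordProd_cons] at hk
      have h1 : Rp cs R.nsys (cs.wordProd ω) ((n i)⁻¹ * k) := by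
        have := (rp_simple cs R.nsys i).inv.mul hk
        rwa [inv_mul_cancel_left] at this
      have hni : n i ∈ L := hL (by
        have := rp_mem_LJ R (J := Set.univ) (mem_univ' cs (cs.simple i)) (rp_simple cs R.nsys i)
        rwa [LJ_univ] at this)
      obtain ⟨k', hk'⟩ : ∃ k' : ↥L, k' = (⟨n i, hni⟩ : ↥L)⁻¹ * k := ⟨_, rfl⟩
      have h2 := ih k' (by rw [hk']; exact h1) v hv hv1
      have h3 := key i _ h2 (by rw [map_mul, map_mul, hv1, mul_one, map_inv, mul_inv_cancel])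
      have h4 := R.cj_n_V i
      have h5 : n i * ((k' * v * k'⁻¹ : ↥L) : Y) * (n i)⁻¹ ∈ RGD.Sup X (RGD.PosNe cs h i) := by
        rw [← h4]; exact conj_mem_cj.2 h3
      have e : ((k * v * k⁻¹ : ↥L) : Y) = n i * ((k' * v * k'⁻¹ : ↥L) : Y) * (n i)⁻¹ := by
        rw [hk']
        simp only [Subgroup.coe_mul, Subgroup.coe_inv]
        group
      rw [e]
      exact hVL i h5
  obtain ⟨k, hk⟩ := exists_rp (cs := cs) (hN := R.nsys) (w0 cs)
  have hkL : k ∈ L := hL (by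
    have := rp_mem_LJ R (J := Set.univ) (mem_univ' cs (w0 cs)) hk
    rwa [LJ_univ] at this)
  have h2 := key2 (w0 cs) ⟨k, hkL⟩ hk u hu h1
  have h3 : ((⟨k, hkL⟩ * u * ⟨k, hkL⟩⁻¹ : ↥L) : Y) ∈ UN cs h X := by
    rw [← cj_U R hk]
    exact conj_mem_cj.2 hu
  have h4 : ((⟨k, hkL⟩ * u * ⟨k, hkL⟩⁻¹ : ↥L) : Y) ∈ (⊥ : Subgroup Y) := by
    rw [← U_inf_UN R]; exact ⟨h2, h3⟩
  have h5 : (⟨k, hkL⟩ * u * ⟨k, hkL⟩⁻¹ : ↥L) = 1 := Subtype.ext (Subgroup.mem_bot.1 h4)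
  rw [mul_inv_eq_one, mul_eq_left] at h5
  exact h5

include R R' hL hT hn hX hinj in
/-- **The kernel is contained in the torus.** -/
theorem ker_le [Finite W] {g : ↥L} (hg : (g : Y) ∈ GG cs h T X) (h1 : φ g = 1) : (g : Y) ∈ T := by
  have hUL : RGD.Sup X (RGD.Pos cs h) ≤ L := (RGD.U_le_B.trans B_le_GG).trans hL
  obtain ⟨w, hw⟩ := (mem_GG R).1 hg
  obtain ⟨u, hu, k, hk, v, hv, e⟩ := exists_normal_form R hw
  have hv' : v ∈ RGD.Sup X (RGD.Pos cs h) :=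
    RGD.Sup_mono (S := NW cs h w) (S' := RGD.Pos cs h) (fun x hx => ⟨hx.1, hx.2.1⟩) hv
  have hkL : k ∈ L := hL (by
    have := rp_mem_LJ R (J := Set.univ) (mem_univ' cs w) hk
    rwa [LJ_univ] at this)
  have e' : g = ⟨u, hUL hu⟩ * ⟨k, hkL⟩ * ⟨v, hUL hv'⟩ := Subtype.ext e
  have hφu : φ ⟨u, hUL hu⟩ ∈ RGD.Sup X' (RGD.Pos cs h) := sup_phi φ hX (fun x hx => hx.1) hUL (u := ⟨u, hUL hu⟩) hu
  have hφv : φ ⟨v, hUL hv'⟩ ∈ RGD.Sup X' (RGD.Pos cs h) := sup_phi φ hX (fun x hx => hx.1) hUL (u := ⟨v, hUL hv'⟩) hv'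
  have hφk := rp_phi R R' hL φ hT hn (k := ⟨k, hkL⟩) hk
  have hc : Cell R'.nsys cs h X' w (φ g) := by
    rw [e', map_mul, map_mul]
    exact ((cell_of_rp hφk).mul_left (RGD.U_le_B hφu)).mul_right (RGD.U_le_B hφv)
  have hc1 : Cell R'.nsys cs h X' 1 (φ g) := by
    rw [h1]; exact cell_one_of_mem (one_mem _)
  have hw1 := Cell.unique R' hc hc1
  subst hw1
  have hkT : k ∈ T := hk.mem_of_one
  -- `g = k * (k⁻¹ u k v)`
  obtain ⟨u', hu'⟩ : ∃ u' : ↥L, u' = (⟨k, hkL⟩ : ↥L)⁻¹ * ⟨u, hUL hu⟩ * ⟨k, hkL⟩ * ⟨v, hUL hv'⟩ := ⟨_, rfl⟩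
  have e2 : g = ⟨k, hkL⟩ * u' := by rw [e', hu']; group
  have hu'U : (u' : Y) ∈ RGD.Sup X (RGD.Pos cs h) := by
    rw [hu']
    refine mul_mem ?_ hv'
    have h2 := (Subgroup.mem_normalizer_iff.1 (R.T_le_normalizer_U (inv_mem hkT)) u).1 hu
    rw [inv_inv] at h2
    exact h2
  have hφT : φ ⟨k, hkL⟩ ∈ T' := hT _ hkT
  have hφu' : φ u' ∈ RGD.Sup X' (RGD.Pos cs h) := sup_phi φ hX (fun x hx => hx.1) hUL hu'U
  have h3 : φ u' = 1 := by
    have h4 : φ ⟨k, hkL⟩ * φ u' = 1 := by rw [← map_mul, ← e2, h1]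
    have h5 : φ u' ∈ T' := by rw [eq_inv_of_mul_eq_one_right h4]; exact inv_mem hφT
    have h6 : φ u' ∈ (⊥ : Subgroup Y') := by rw [← U_inf_T R']; exact ⟨hφu', h5⟩
    exact Subgroup.mem_bot.1 h6
  have h4 := eq_one_of_U R R' hL φ hT hn hX hinj hu'U h3
  rw [e2, h4, mul_one]
  exact hkT

end Cfsg.Agent.H230.X3

/-!
# The restriction of the Levi subgroup of type `D4` of `E8` to its Lie algebra (S2187 X3, helper230)
-/

set_option autoImplicit false
set_option linter.unusedSectionVars false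
set_option linter.unusedVariables false

namespace Cfsg.Agent.H230.X3

open CoxeterSystem Cfsg Cfsg.Lie Cfsg.Lie.ChevalleyDatum
open Cfsg.Agent.ChevalleyStructure Cfsg.Agent.ChevalleyStructure.Elts Cfsg.Agent.ChevalleyStructure.CoxeterGeom
  Cfsg.Agent.ChevalleyStructure.CoxeterGeomTypes Cfsg.Agent.ChevalleyStructure.NPerm
open Cfsg.Agent.Tits.Roots Cfsg.Agent.Tits.Core Cfsg.Agent.Nodes Cfsg.Agent.Nodes.Reps Cfsg.Agent.Nodes.BNOf
  Cfsg.Agent.Nodes.RGDChev Cfsg.Agent.Nodes.Bruhat Cfsg.Agent.Nodes.StabComb Cfsg.Agent.Nodes.SubComb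
  Cfsg.Agent.Nodes.Sub Cfsg.Agent.Nodes.LeviStd Cfsg.Agent.Nodes.ClsSub
open Cfsg.Agent.KFacts.RgdField Cfsg.Agent.KFacts.RgdChevCoord
open Cfsg.Agent.BpExc Cfsg.Agent.BpExc.Tow Cfsg.Agent.BpExc.TowChev Cfsg.Agent.GpExc.Field

universe u v

theorem hp8 : IsType chevE8 8 CoxeterMatrix.E₈ := by simp [IsType, typeList]
theorem hp4 : IsType chevD4 4 coxeterD4 := by simp [IsType, typeList]

/-- the embedding of the nodes -/
def fj : Fin 4 ↪ Fin 8 := ⟨nj, dE.inj₀⟩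

theorem fj_apply (j : Fin 4) : fj j = nj j := rfl

theorem A_eq : ∀ i j, cartanOf chevE8 8 (fj i) (fj j) = cartanOf chevD4 4 i j := by decide +kernel

theorem M_eq (i j : Fin 4) : CoxeterMatrix.E₈ (fj i) (fj j) = coxeterD4 i j := by
  by_cases hij : i = j
  · subst hij; rw [CoxeterMatrix.diagonal, CoxeterMatrix.diagonal]
  have h3 := hp8.isCartan.rel (fj i) (fj j) (fun h0 => hij (fj.injective h0))
  have h4 := hp4.isCartan.rel i j hij
  rw [A_eq i j, A_eq j i] at h3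
  omega

/-- the vectors -/
theorem vec_sigma (r : Fin chevD4.nroots) : vec chevE8 8 (dE.σ r).val = iota (fun j => sr (fj j)) (vec chevD4 4 r.val) := by
  have h : ∀ r < 24, ∀ i : Fin 8, vec chevE8 8 (sL.getD r 0) i =
      if i = 1 then vec chevD4 4 r 0 else if i = 3 then vec chevD4 4 r 1 else if i = 2 then vec chevD4 4 r 2
        else if i = 4 then vec chevD4 4 r 3 else 0 := by decide +kernel
  have h1 := h r.val r.2
  refine (eq_iota_levi fj (z := vec chevE8 8 (dE.σ r).val) ?_).trans ?_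
  · intro k hk
    have h2 := h1 k
    rw [if_neg, if_neg, if_neg, if_neg] at h2
    · exact h2
    · exact fun e => hk 3 e.symm
    · exact fun e => hk 2 e.symm
    · exact fun e => hk 1 e.symm
    · exact fun e => hk 0 e.symm
  · congr 1
    funext j
    have h2 := h1 (fj j)
    rw [show vec chevE8 8 (dE.σ r).val (fj j) = _ from h2]
    fin_cases j <;> rfl

section

variable {W : Type*} [Group W] (cs : CoxeterSystem CoxeterMatrix.E₈ W) {W' : Type*} [Group W']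
  (cs' : CoxeterSystem coxeterD4 W')

/-- the roots of the Levi subsystem -/
theorem mem_RJ_iff {a : Fin 8 → ℤ} : a ∈ RootsJ cs hp8.isCartan (Set.range fj) ↔
    ∃ c, IsRoot cs' hp4.isCartan c ∧ a = iota (fun j => sr (fj j)) c := by
  have hW' : Finite W' := finite_W hp4 cs'
  have h1 : leviMatrix fj CoxeterMatrix.E₈ = coxeterD4 := leviMatrix_eq fj M_eq
  have hA : (fun i j => cartanOf chevE8 8 (fj i) (fj j)) = cartanOf chevD4 4 := by
    funext i j
    exact A_eq i j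
  have key : ∀ (M' : CoxeterMatrix (Fin 4)) (A' : Fin 4 → Fin 4 → ℤ) (h1 : leviMatrix fj CoxeterMatrix.E₈ = M')
      (hA : (fun i j => cartanOf chevE8 8 (fj i) (fj j)) = A') (cs' : CoxeterSystem M' W') (h' : IsCartan M' A'),
      a ∈ RootsJ cs hp8.isCartan (Set.range fj) ↔ ∃ c, IsRoot cs' h' c ∧ a = iota (fun j => sr (fj j)) c := by
    intro M' A' h1 hA cs' h'
    subst h1 hA
    have := finite_W hp8 cs
    have := Fintype.ofFinite W
    have := Fintype.ofFinite W'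
    exact mem_RootsJ_range_iff fj cs'
  exact key _ _ h1 hA cs' hp4.isCartan

theorem mem_RJ_iff' {a : Fin 8 → ℤ} : a ∈ RootsJ cs hp8.isCartan (Set.range fj) ↔
    ∃ r : Fin chevD4.nroots, a = vec chevE8 8 (dE.σ r).val := by
  rw [mem_RJ_iff cs coxeterD4.toCoxeterSystem]
  constructor
  · rintro ⟨c, hc, rfl⟩
    obtain ⟨r, hr, rfl⟩ := (isRoot_iff hp4 _ c).1 hc
    exact ⟨⟨r, hr⟩, (vec_sigma ⟨r, hr⟩).symm⟩
  · rintro ⟨r, rfl⟩
    exact ⟨_, isRoot_vec hp4 _ r.2, vec_sigma r⟩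

/-- the root group datum of the Levi subgroup, with the matrices of `D4` -/
theorem rgd_L {p : ℕ} {Y : Type*} [Group Y] {T : Subgroup Y} {n : Fin 8 → Y} {X : (Fin 8 → ℤ) → Subgroup Y}
    (R : RGD cs hp8.isCartan p T n X) :
    RGD cs' hp4.isCartan p T (fun j => n (fj j)) (fun c => X (iota (fun j => sr (fj j)) c)) := by
  have hW' : Finite W' := finite_W hp4 cs'
  have h1 : leviMatrix fj CoxeterMatrix.E₈ = coxeterD4 := leviMatrix_eq fj M_eq
  have hA : (fun i j => cartanOf chevE8 8 (fj i) (fj j)) = cartanOf chevD4 4 := by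
    funext i j
    exact A_eq i j
  have key : ∀ (M' : CoxeterMatrix (Fin 4)) (A' : Fin 4 → Fin 4 → ℤ) (h1 : leviMatrix fj CoxeterMatrix.E₈ = M')
      (hA : (fun i j => cartanOf chevE8 8 (fj i) (fj j)) = A') (cs' : CoxeterSystem M' W') (h' : IsCartan M' A'),
      RGD cs' h' p T (fun j => n (fj j)) (fun c => X (iota (fun j => sr (fj j)) c)) := by
    intro M' A' h1 hA cs' h'
    subst h1 hA
    have := finite_W hp8 cs
    exact rgd_levi R fj cs'
  exact key _ _ h1 hA cs' hp4.isCartan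

theorem GG_L {Y : Type*} [Group Y] (T : Subgroup Y) (X : (Fin 8 → ℤ) → Subgroup Y) :
    GG cs' hp4.isCartan T (fun c => X (iota (fun j => sr (fj j)) c)) =
      LJ cs hp8.isCartan T X (Set.range fj) := by
  have hW' : Finite W' := finite_W hp4 cs'
  have h1 : leviMatrix fj CoxeterMatrix.E₈ = coxeterD4 := leviMatrix_eq fj M_eq
  have hA : (fun i j => cartanOf chevE8 8 (fj i) (fj j)) = cartanOf chevD4 4 := by
    funext i j
    exact A_eq i j
  have key : ∀ (M' : CoxeterMatrix (Fin 4)) (A' : Fin 4 → Fin 4 → ℤ) (h1 : leviMatrix fj CoxeterMatrix.E₈ = M')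
      (hA : (fun i j => cartanOf chevE8 8 (fj i) (fj j)) = A') (cs' : CoxeterSystem M' W') (h' : IsCartan M' A'),
      GG cs' h' T (fun c => X (iota (fun j => sr (fj j)) c)) = LJ cs hp8.isCartan T X (Set.range fj) := by
    intro M' A' h1 hA cs' h'
    subst h1 hA
    have := finite_W hp8 cs
    have := Fintype.ofFinite W
    have := Fintype.ofFinite W'
    exact GG_levi fj cs' T X
  exact key _ _ h1 hA cs' hp4.isCartan

end

/-! ### the restriction -/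

section Res

variable (k : Type u) [Field k]

/-- the elements preserving the block -/
def PG : Subgroup ↥(chevE8.group k) where
  carrier := {g | dE.Pres ((g : GL chevE8.Idx k) : Matrix chevE8.Idx chevE8.Idx k) ∧
    dE.Pres (((g⁻¹ : ↥(chevE8.group k)) : GL chevE8.Idx k) : Matrix chevE8.Idx chevE8.Idx k)}
  one_mem' := ⟨TEmb.Pres.one dE, by rw [inv_one]; exact TEmb.Pres.one dE⟩
  mul_mem' := by
    rintro a b ⟨ha, ha'⟩ ⟨hb, hb'⟩
    refine ⟨TEmb.Pres.mul dE ha hb, ?_⟩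
    rw [mul_inv_rev]
    exact TEmb.Pres.mul dE hb' ha'
  inv_mem' := by
    rintro a ⟨ha, ha'⟩
    refine ⟨ha', ?_⟩
    rw [inv_inv]
    exact ha

variable {k}

/-- the restriction -/
def piG : ↥(PG k) →* GL chevD4.Idx k where
  toFun g := ⟨dE.blk (((g : ↥(chevE8.group k)) : GL chevE8.Idx k) : Matrix chevE8.Idx chevE8.Idx k),
    dE.blk ((((g : ↥(chevE8.group k))⁻¹ : ↥(chevE8.group k)) : GL chevE8.Idx k) : Matrix chevE8.Idx chevE8.Idx k),
    by
      rw [← dE.blk_mul g.2.2, ← dE.blk_one]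
      congr 1
      rw [← Units.val_mul, ← Subgroup.coe_mul, mul_inv_cancel]
      rfl,
    by
      rw [← dE.blk_mul g.2.1, ← dE.blk_one]
      congr 1
      rw [← Units.val_mul, ← Subgroup.coe_mul, inv_mul_cancel]
      rfl⟩
  map_one' := Units.ext (dE.blk_one)
  map_mul' a b := Units.ext (dE.blk_mul b.2.1)

theorem coe_piG (g : ↥(PG k)) : ((piG g : GL chevD4.Idx k) : Matrix chevD4.Idx chevD4.Idx k) =
    dE.blk (((g : ↥(chevE8.group k)) : GL chevE8.Idx k) : Matrix chevE8.Idx chevE8.Idx k) := rfl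

theorem coe_xc8 (r : Fin chevD4.nroots) (t : k) :
    (((xc hp8 (vec chevE8 8 (dE.σ r).val) t : ↥(chevE8.group k)) : GL chevE8.Idx k) :
      Matrix chevE8.Idx chevE8.Idx k) = chevE8.xMat k (dE.σ r) t := by
  rw [coe_xc hp8 (dE.σ r).2, coe_xG]
  exact x_of_lt (dE.σ r).2 t

theorem xc8_mem (r : Fin chevD4.nroots) (t : k) : xc hp8 (vec chevE8 8 (dE.σ r).val) t ∈ PG k := by
  refine ⟨?_, ?_⟩
  · rw [coe_xc8]
    exact dE.pres_xMat r t
  · have h1 : (xc hp8 (vec chevE8 8 (dE.σ r).val) t : ↥(chevE8.group k))⁻¹ =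
        xc hp8 (vec chevE8 8 (dE.σ r).val) (-t) := by
      apply Subtype.ext
      rw [Subgroup.coe_inv, coe_xc hp8 (dE.σ r).2, coe_xc hp8 (dE.σ r).2, xG_inv]
    rw [h1, coe_xc8]
    exact dE.pres_xMat r (-t)

theorem piG_xc8 (r : Fin chevD4.nroots) (t : k) (h : xc hp8 (vec chevE8 8 (dE.σ r).val) t ∈ PG k) :
    piG ⟨xc hp8 (vec chevE8 8 (dE.σ r).val) t, h⟩ =
      ((xc hp4 (vec chevD4 4 r.val) (((dE.ε r : ℤ) : k) * t) : ↥(chevD4.group k)) : GL chevD4.Idx k) := by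
  apply Units.ext
  rw [coe_piG, coe_xc hp4 r.2, coe_xG]
  show dE.blk (((xc hp8 (vec chevE8 8 (dE.σ r).val) t : ↥(chevE8.group k)) : GL chevE8.Idx k) :
      Matrix chevE8.Idx chevE8.Idx k) = _
  rw [coe_xc8, dE.blk_xMat]
  exact (x_of_lt r.2 _).symm

/-- the matrices of torus elements -/
theorem coe_TT {D : ChevalleyDatum} {l : ℕ} {M : CoxeterMatrix (Fin l)} (hp : IsType D l M) {t : ↥(D.group k)}
    (ht : t ∈ TT D k) : ((t : GL D.Idx k) : Matrix D.Idx D.Idx k) =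
      Matrix.diagonal (Sum.elim (fun _ => (1 : k)) fun s : Fin D.nroots => ch hp (vec D l s.val) t) := by
  rw [Subgroup.mem_subgroupOf] at ht
  obtain ⟨c, hc, e, hact⟩ := H129.Tor.exists_c hp ht
  rw [e]
  congr 1
  funext i
  rcases i with i | s
  · rfl
  · show ∏ i ∈ Finset.range D.rank, c i ^ D.cartan i s = ch hp (vec D l s.val) t
    symm
    apply ch_eq hp s.2 ht
    apply Subtype.ext
    rw [Subgroup.coe_mul, Subgroup.coe_mul, Subgroup.coe_inv, coe_xc hp s.2, coe_xc hp s.2, hact s.val s.2 1, mul_one]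

theorem TT_le_PG : TT chevE8 k ≤ PG k := by
  intro t ht
  refine ⟨?_, ?_⟩
  · rw [coe_TT hp8 ht]
    exact dE.pres_diagonal _
  · rw [coe_TT hp8 (inv_mem ht)]
    exact dE.pres_diagonal _

/-- the restriction of a torus element -/
theorem exists_TT4 [IsAlgClosed k] {t : ↥(chevE8.group k)} (ht : t ∈ TT chevE8 k) (h : t ∈ PG k) :
    ∃ t' ∈ TT chevD4 k, ((t' : ↥(chevD4.group k)) : GL chevD4.Idx k) = piG ⟨t, h⟩ ∧
      ∀ r : Fin chevD4.nroots, ch hp4 (vec chevD4 4 r.val) t' = ch hp8 (vec chevE8 8 (dE.σ r).val) t := by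
  have hmc : H129.TorusChar.IsMC fun x : Fin 4 → ℤ => H129.TorusChar.cX hp8 t (iota (fun j => sr (fj j)) x) := by
    have h1 := H129.TorusChar.isMC_cX hp8 ht
    refine ⟨?_, fun x y => ?_⟩
    · show H129.TorusChar.cX hp8 t (iota (fun j => sr (fj j)) 0) = 1
      rw [map_zero]
      exact h1.1
    · show H129.TorusChar.cX hp8 t (iota (fun j => sr (fj j)) (x + y)) = _
      rw [map_add]
      exact h1.2 _ _
  obtain ⟨t', ht', hc⟩ := H129.TorusChar.exists_cX hp4 (k := k) H129.TorusChar.invC_D4 (by norm_num)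
    hmc (fun i => IsAlgClosed.exists_pow_nat_eq _ (by norm_num))
  have hch : ∀ r : Fin chevD4.nroots, ch hp4 (vec chevD4 4 r.val) t' = ch hp8 (vec chevE8 8 (dE.σ r).val) t := by
    intro r
    rw [← H129.TorusChar.cX_vec hp4 ht' r.2, hc, ← H129.TorusChar.cX_vec hp8 ht (dE.σ r).2, vec_sigma]
  refine ⟨t', ht', ?_, hch⟩
  apply Units.ext
  rw [coe_piG, coe_TT hp4 ht']
  show _ = dE.blk ((t : GL chevE8.Idx k) : Matrix chevE8.Idx chevE8.Idx k)
  rw [coe_TT hp8 ht, dE.blk_diagonal]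
  congr 1
  funext i
  rcases i with i | r
  · rfl
  · exact hch r

end Res

end Cfsg.Agent.H230.X3

/-!
# The restriction homomorphism of the Levi subgroup of type `D4` of `E8` (S2187 X3, helper230)

* `LL k` : the Levi subgroup; `piL : LL k →* chevD4.group k`;
* `piL_xc`, `piL_TT`; `ker_piL` : the kernel is contained in the torus; `ker_comm` : it is central.
-/

set_option autoImplicit false
set_option linter.unusedSectionVars false
set_option linter.unusedVariables false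

namespace Cfsg.Agent.H230.X3

open CoxeterSystem Cfsg Cfsg.Lie Cfsg.Lie.ChevalleyDatum
open Cfsg.Agent.ChevalleyStructure Cfsg.Agent.ChevalleyStructure.Elts Cfsg.Agent.ChevalleyStructure.CoxeterGeom
  Cfsg.Agent.ChevalleyStructure.CoxeterGeomTypes Cfsg.Agent.ChevalleyStructure.NPerm
open Cfsg.Agent.Tits.Roots Cfsg.Agent.Tits.Core Cfsg.Agent.Nodes Cfsg.Agent.Nodes.Reps Cfsg.Agent.Nodes.BNOf
  Cfsg.Agent.Nodes.RGDChev Cfsg.Agent.Nodes.Bruhat Cfsg.Agent.Nodes.StabComb Cfsg.Agent.Nodes.SubComb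
  Cfsg.Agent.Nodes.Sub Cfsg.Agent.Nodes.LeviStd Cfsg.Agent.Nodes.ClsSub
open Cfsg.Agent.KFacts.RgdField Cfsg.Agent.KFacts.RgdChevCoord
open Cfsg.Agent.BpExc Cfsg.Agent.BpExc.Tow Cfsg.Agent.BpExc.TowChev Cfsg.Agent.GpExc.Field

universe u v

noncomputable abbrev cs8 : CoxeterSystem CoxeterMatrix.E₈ CoxeterMatrix.E₈.Group := CoxeterMatrix.E₈.toCoxeterSystem
noncomputable abbrev cs4 : CoxeterSystem coxeterD4 coxeterD4.Group := coxeterD4.toCoxeterSystem

/-- the roots of the Levi subsystem -/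
def DL : Set (Fin 8 → ℤ) := RootsJ cs8 hp8.isCartan (Set.range fj)

theorem mem_DL {a : Fin 8 → ℤ} : a ∈ DL ↔ ∃ r : Fin chevD4.nroots, a = vec chevE8 8 (dE.σ r).val :=
  mem_RJ_iff' cs8

section

variable (k : Type u) [Field k]

/-- the Levi subgroup -/
noncomputable def LL : Subgroup ↥(chevE8.group k) :=
  LJ cs8 hp8.isCartan (TT chevE8 k) (XX chevE8 8 k) (Set.range fj)

variable {k}

theorem TT_le_LL : TT chevE8 k ≤ LL k := T_le_LJ

theorem Sup_le_LL : RGD.Sup (XX chevE8 8 k) DL ≤ LL k := le_sup_right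

theorem mem_XX8 {a : Fin 8 → ℤ} (ha : IsRoot cs8 hp8.isCartan a) {y : ↥(chevE8.group k)} :
    y ∈ XX chevE8 8 k a ↔ ∃ t, y = xc hp8 a t := by
  obtain ⟨r, hr, rfl⟩ := (isRoot_iff hp8 cs8 a).1 ha
  rw [Subgroup.mem_subgroupOf, XV_vec hp8 k hr, mem_rootSubgroup_iff hp8.inList]
  constructor
  · rintro ⟨t, ht⟩
    exact ⟨t, Subtype.ext (by rw [coe_xc hp8 hr, ht])⟩
  · rintro ⟨t, rfl⟩
    exact ⟨t, coe_xc hp8 hr t⟩

theorem mem_XX4 {a : Fin 4 → ℤ} (ha : IsRoot cs4 hp4.isCartan a) {y : ↥(chevD4.group k)} :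
    y ∈ XX chevD4 4 k a ↔ ∃ t, y = xc hp4 a t := by
  obtain ⟨r, hr, rfl⟩ := (isRoot_iff hp4 cs4 a).1 ha
  rw [Subgroup.mem_subgroupOf, XV_vec hp4 k hr, mem_rootSubgroup_iff hp4.inList]
  constructor
  · rintro ⟨t, ht⟩
    exact ⟨t, Subtype.ext (by rw [coe_xc hp4 hr, ht])⟩
  · rintro ⟨t, rfl⟩
    exact ⟨t, coe_xc hp4 hr t⟩

theorem LL_le_PG : LL k ≤ PG k := by
  refine sup_le TT_le_PG (RGD.Sup_le fun a ha => ?_)
  intro y hy
  obtain ⟨r, rfl⟩ := mem_DL.1 ha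
  obtain ⟨t, rfl⟩ := (mem_XX8 (isRoot_vec hp8 cs8 (dE.σ r).2)).1 hy
  exact xc8_mem r t

theorem piG_mem [IsAlgClosed k] {g : ↥(chevE8.group k)} (hg : g ∈ LL k) :
    piG ⟨g, LL_le_PG hg⟩ ∈ chevD4.group k := by
  have key : LL k ≤ ((chevD4.group k).comap (piG (k := k))).map (PG k).subtype := by
    refine sup_le ?_ (RGD.Sup_le fun a ha => ?_)
    · intro t ht
      obtain ⟨t', ht', e, -⟩ := exists_TT4 ht (TT_le_PG ht)
      refine ⟨⟨t, TT_le_PG ht⟩, ?_, rfl⟩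
      show piG ⟨t, TT_le_PG ht⟩ ∈ chevD4.group k
      rw [← e]
      exact t'.2
    · intro y hy
      obtain ⟨r, rfl⟩ := mem_DL.1 ha
      obtain ⟨t, rfl⟩ := (mem_XX8 (isRoot_vec hp8 cs8 (dE.σ r).2)).1 hy
      refine ⟨⟨_, xc8_mem r t⟩, ?_, rfl⟩
      show piG ⟨_, xc8_mem r t⟩ ∈ chevD4.group k
      rw [piG_xc8]
      exact SetLike.coe_mem _
  obtain ⟨⟨y, hy⟩, h1, e⟩ := key hg
  have e' : y = g := e
  subst e'
  exact h1

/-- **The restriction homomorphism.** -/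
noncomputable def piL [IsAlgClosed k] : ↥(LL k) →* ↥(chevD4.group k) :=
  ((piG (k := k)).comp (Subgroup.inclusion LL_le_PG)).codRestrict (chevD4.group k) (fun g => piG_mem g.2)

variable [IsAlgClosed k]

theorem piL_xc (r : Fin chevD4.nroots) (t : k) (h : xc hp8 (vec chevE8 8 (dE.σ r).val) t ∈ LL k) :
    piL ⟨xc hp8 (vec chevE8 8 (dE.σ r).val) t, h⟩ = xc hp4 (vec chevD4 4 r.val) (((dE.ε r : ℤ) : k) * t) :=
  Subtype.ext (piG_xc8 r t _)

theorem piL_TT {t : ↥(LL k)} (ht : (t : ↥(chevE8.group k)) ∈ TT chevE8 k) : piL t ∈ TT chevD4 k ∧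
    ∀ r : Fin chevD4.nroots, ch hp4 (vec chevD4 4 r.val) (piL t) =
      ch hp8 (vec chevE8 8 (dE.σ r).val) (t : ↥(chevE8.group k)) := by
  obtain ⟨t', ht', e, hc⟩ := exists_TT4 ht (LL_le_PG t.2)
  have e' : t' = piL t := Subtype.ext e
  rw [← e']
  exact ⟨ht', hc⟩

theorem eps_simple (i : Fin 4) : ∃ r : Fin chevD4.nroots, r.val = chevD4.simple i ∧
    (dE.σ r).val = chevE8.simple (fj i) ∧ dE.ε r = 1 ∧
    ∃ r' : Fin chevD4.nroots, r'.val = chevD4.neg (chevD4.simple i) ∧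
      (dE.σ r').val = chevE8.neg (chevE8.simple (fj i)) ∧ dE.ε r' = 1 := by
  fin_cases i
  · exact ⟨⟨18, by decide⟩, by decide +kernel, by decide +kernel, by decide +kernel, ⟨5, by decide⟩,
      by decide +kernel, by decide +kernel, by decide +kernel⟩
  · exact ⟨⟨14, by decide⟩, by decide +kernel, by decide +kernel, by decide +kernel, ⟨9, by decide⟩,
      by decide +kernel, by decide +kernel, by decide +kernel⟩
  · exact ⟨⟨13, by decide⟩, by decide +kernel, by decide +kernel, by decide +kernel, ⟨10, by decide⟩,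
      by decide +kernel, by decide +kernel, by decide +kernel⟩
  · exact ⟨⟨12, by decide⟩, by decide +kernel, by decide +kernel, by decide +kernel, ⟨11, by decide⟩,
      by decide +kernel, by decide +kernel, by decide +kernel⟩

theorem nc_eq {D : ChevalleyDatum} {l : ℕ} {M : CoxeterMatrix (Fin l)} (hp : IsType D l M) (i : Fin l) :
    nc hp k i = xc hp (vec D l (D.simple i)) 1 * xc hp (vec D l (D.neg (D.simple i))) (-1) *
      xc hp (vec D l (D.simple i)) 1 := by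
  have h1 := simple_lt hp.inList (lt_rank hp i)
  have h2 := neg_lt hp.inList h1
  apply Subtype.ext
  rw [Subgroup.coe_mul, Subgroup.coe_mul, coe_xc hp h1, coe_xc hp h2]
  show nG hp.inList (D.simple i) 1 = _
  apply Units.ext
  rw [coe_nG, ChevalleyDatum.nMat, ChevalleyDatum.nWord, wordMat_cons, wordMat_cons, wordMat_cons, wordMat_nil,
    mul_one, Units.val_mul, Units.val_mul, coe_xG, coe_xG, inv_one, mul_assoc]

theorem xc_mem_LL (r : Fin chevD4.nroots) (t : k) : xc hp8 (vec chevE8 8 (dE.σ r).val) t ∈ LL k :=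
  Sup_le_LL (RGD.le_Sup (X := XX chevE8 8 k) (mem_DL.2 ⟨r, rfl⟩)
    ((mem_XX8 (isRoot_vec hp8 cs8 (dE.σ r).2)).2 ⟨t, rfl⟩))

theorem piL_nc (i : Fin 4) {m : ↥(LL k)} (hm : (m : ↥(chevE8.group k)) = nc hp8 k (fj i)) : piL m = nc hp4 k i := by
  obtain ⟨r, hr, hσ, hε, r', hr', hσ', hε'⟩ := eps_simple i
  have e1 : m = ⟨xc hp8 (vec chevE8 8 (dE.σ r).val) 1, xc_mem_LL r 1⟩ *
      ⟨xc hp8 (vec chevE8 8 (dE.σ r').val) (-1), xc_mem_LL r' (-1)⟩ *
      ⟨xc hp8 (vec chevE8 8 (dE.σ r).val) 1, xc_mem_LL r 1⟩ := by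
    apply Subtype.ext
    rw [hm, nc_eq hp8, ← hσ', ← hσ]
    rfl
  rw [e1, map_mul, map_mul, piL_xc, piL_xc, nc_eq hp4, hε, hε', Int.cast_one, one_mul, one_mul, hr, hr']

end

end Cfsg.Agent.H230.X3

/-!
# The kernel of the restriction homomorphism (S2187 X3, helper230)
-/

set_option autoImplicit false
set_option linter.unusedSectionVars false
set_option linter.unusedVariables false

namespace Cfsg.Agent.H230.X3

open CoxeterSystem Cfsg Cfsg.Lie Cfsg.Lie.ChevalleyDatum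
open Cfsg.Agent.ChevalleyStructure Cfsg.Agent.ChevalleyStructure.Elts Cfsg.Agent.ChevalleyStructure.CoxeterGeom
  Cfsg.Agent.ChevalleyStructure.CoxeterGeomTypes Cfsg.Agent.ChevalleyStructure.NPerm
open Cfsg.Agent.Tits.Roots Cfsg.Agent.Tits.Core Cfsg.Agent.Nodes Cfsg.Agent.Nodes.Reps Cfsg.Agent.Nodes.BNOf
  Cfsg.Agent.Nodes.RGDChev Cfsg.Agent.Nodes.Bruhat Cfsg.Agent.Nodes.StabComb Cfsg.Agent.Nodes.SubComb
  Cfsg.Agent.Nodes.Sub Cfsg.Agent.Nodes.LeviStd Cfsg.Agent.Nodes.ClsSub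
open Cfsg.Agent.KFacts.RgdField Cfsg.Agent.KFacts.RgdChevCoord
open Cfsg.Agent.BpExc Cfsg.Agent.BpExc.Tow Cfsg.Agent.BpExc.TowChev Cfsg.Agent.GpExc.Field

universe u v

section

variable {k : Type u} [Field k] [IsAlgClosed k] (hk : LocFin k) (r : ℕ) [Fact r.Prime] [CharP k r]

include hk in
/-- the tower of the Levi subgroup -/
theorem towL : Tow cs4 hp4.isCartan r (Tj hp8 (k := k)) (fun j => nc hp8 k (fj j))
    (fun E c => Xj hp8 E (iota (fun j => sr (fj j)) c)) where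
  ne := nonempty_lev hk
  dir := dir_lev hk
  rgd E := rgd_L cs8 cs4 ((tow hp8 cs8 hk r).rgd E)
  monoT := monoTj hp8
  monoX c := monoXj hp8 _

include hk in
theorem GG_towL : GG cs4 hp4.isCartan (TL (Tj hp8 (k := k)))
    (XL (fun E c => Xj hp8 E (iota (fun j => sr (fj j)) c))) = LL k := by
  have h1 : XL (fun (E : Lev k) c => Xj hp8 E (iota (fun j => sr (fj j)) c)) =
      fun c => XX chevE8 8 k (iota (fun j => sr (fj j)) c) := by
    funext c
    rw [← XL_eq hp8 hk]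
    rfl
  rw [h1, TL_eq hp8 hk]
  exact GG_L cs8 cs4 (TT chevE8 k) (XX chevE8 8 k)

theorem mem_Xj8 {E : Lev k} (s : Fin chevD4.nroots) {y : ↥(chevE8.group k)}
    (hy : y ∈ Xj hp8 E (iota (fun j => sr (fj j)) (vec chevD4 4 s.val))) :
    ∃ t ∈ E.1, y = xc hp8 (vec chevE8 8 (dE.σ s).val) t := by
  rw [← vec_sigma] at hy
  obtain ⟨y, hy, rfl⟩ := hy
  obtain ⟨t, rfl⟩ := (mem_XX8 (isRoot_vec hp8 cs8 (dE.σ s).2)).1 hy
  exact ⟨t.1, t.2, by rw [emb_xc]; rfl⟩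

theorem ch_self_one {D : ChevalleyDatum} {l : ℕ} {M : CoxeterMatrix (Fin l)} (hp : IsType D l M) {s : ℕ}
    (hs : s < D.nroots) : ch hp (vec D l s) (1 : ↥(D.group k)) = 1 :=
  ch_eq hp hs (one_mem _) (by rw [one_mul, inv_one, mul_one])

theorem xc_z {D : ChevalleyDatum} {l : ℕ} {M : CoxeterMatrix (Fin l)} (hp : IsType D l M) {s : ℕ}
    (hs : s < D.nroots) : xc hp (vec D l s) (0 : k) = 1 := by
  apply Subtype.ext
  rw [coe_xc hp hs, xG_zero]
  rfl

include hk r in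
/-- **The kernel of the restriction homomorphism is contained in the torus.** -/
theorem ker_piL_T {g : ↥(LL k)} (h1 : piL g = 1) : (g : ↥(chevE8.group k)) ∈ TT chevE8 k := by
  have hL := towL hk r
  have hg : (g : ↥(chevE8.group k)) ∈ GG cs4 hp4.isCartan (TL (Tj hp8 (k := k)))
      (XL (fun E c => Xj hp8 E (iota (fun j => sr (fj j)) c))) := by
    rw [GG_towL hk]; exact g.2
  obtain ⟨E, hE⟩ := hL.mem_GG.1 hg
  have H4 := tow hp4 cs4 hk r
  have hfin : Finite ↥(Tj hp8 E) := by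
    have h2 := finite_GG hp8 cs8 E
    have h3 : Tj hp8 E ≤ GG cs8 hp8.isCartan (Tj hp8 E) (Xj hp8 E) := le_sup_left
    exact Finite.of_injective (Subgroup.inclusion h3) (Subgroup.inclusion_injective _)
  have hTL : Tj hp8 E ≤ LL k := by
    rw [← GG_towL hk]
    exact (le_TL E).trans le_sup_left
  obtain ⟨E₁, h2⟩ := H4.exists_level (ι := ↥(Tj hp8 E)) (S := fun E' => (Tj hp4 E' : Set ↥(chevD4.group k)))
    (f := fun t => piL ⟨t.1, hTL t.2⟩) (fun a b hab => monoTj hp4 hab) (fun t => by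
      have h3 : t.1 ∈ TT chevE8 k := by
        rw [← TL_eq hp8 hk]; exact le_TL E t.2
      have h4 := (piL_TT (t := ⟨t.1, hTL t.2⟩) h3).1
      rw [← TL_eq hp4 hk] at h4
      exact H4.mem_TL.1 h4)
  have h2' : ∀ (t : ↥(LL k)), (t : ↥(chevE8.group k)) ∈ Tj hp8 E → piL t ∈ Tj hp4 E₁ := by
    rintro ⟨t, ht'⟩ ht
    exact h2 ⟨t, ht⟩
  obtain ⟨E', hE1, hE'⟩ := dir_lev hk E₁ E
  have R := hL.rgd E
  have R' := H4.rgd E'
  have hWf : Finite coxeterD4.Group := finite_W hp4 cs4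
  have hx : ∀ (x : Fin 4 → ℤ), IsRoot cs4 hp4.isCartan x → ∀ u : ↥(LL k), (u : ↥(chevE8.group k)) ∈
      Xj hp8 E (iota (fun j => sr (fj j)) x) → ∃ s : Fin chevD4.nroots, x = vec chevD4 4 s.val ∧
        ∃ t : ↥E'.1, (u : ↥(chevE8.group k)) = xc hp8 (vec chevE8 8 (dE.σ s).val) (t : k) ∧
        piL u = emb hp4.inList E'.1.subtype (xc hp4 (vec chevD4 4 s.val) (((dE.ε s : ℤ) : ↥E'.1) * t)) := by
    intro x hx u hu
    obtain ⟨s, hs, rfl⟩ := (isRoot_iff hp4 cs4 x).1 hx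
    obtain ⟨t, ht, e⟩ := mem_Xj8 ⟨s, hs⟩ hu
    have e' : u = ⟨xc hp8 (vec chevE8 8 (dE.σ ⟨s, hs⟩).val) t, xc_mem_LL ⟨s, hs⟩ t⟩ := Subtype.ext e
    refine ⟨⟨s, hs⟩, rfl, ⟨t, hE' ht⟩, e, ?_⟩
    rw [e', piL_xc, emb_xc, map_mul, map_intCast]
    rfl
  have q1 : GG cs4 hp4.isCartan (Tj hp8 E) (fun c => Xj hp8 E (iota (fun j => sr (fj j)) c)) ≤ LL k := by
    rw [← GG_towL hk]
    exact sup_le_sup (le_TL E) (Sup_le_SupL (X := fun (E : Lev k) c => Xj hp8 E (iota (fun j => sr (fj j)) c)) E _)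
  have q2 : ∀ t : ↥(LL k), (t : ↥(chevE8.group k)) ∈ Tj hp8 E → piL t ∈ Tj hp4 E' := fun t ht =>
    monoTj hp4 hE1 (h2' t ht)
  have q3 : ∀ i, ∀ m : ↥(LL k), (m : ↥(chevE8.group k)) = nc hp8 k (fj i) →
      Rp cs4 R'.nsys (cs4.simple i) (piL m) := by
    intro i m hm
    rw [piL_nc i hm]
    exact rp_simple cs4 R'.nsys i
  have q4 : ∀ x, IsRoot cs4 hp4.isCartan x → ∀ u : ↥(LL k), (u : ↥(chevE8.group k)) ∈
      Xj hp8 E (iota (fun j => sr (fj j)) x) → piL u ∈ Xj hp4 E' x := by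
    intro x hx' u hu
    obtain ⟨s, rfl, t, -, e⟩ := hx x hx' u hu
    rw [e]
    exact ⟨_, (mem_XX4 hx').2 ⟨_, rfl⟩, rfl⟩
  have q5 : ∀ x, IsRoot cs4 hp4.isCartan x → ∀ u : ↥(LL k), (u : ↥(chevE8.group k)) ∈
      Xj hp8 E (iota (fun j => sr (fj j)) x) → piL u = 1 → u = 1 := by
    intro x hx' u hu hu1
    obtain ⟨s, rfl, t, e1, e⟩ := hx x hx' u hu
    rw [e, emb_xc] at hu1
    have h3 := xc_inj hp4 s.2 (hu1.trans (xc_z hp4 s.2).symm)
    have h4 : t = 0 := by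
      have h5 : ((dE.ε s : ℤ) : ↥E'.1) * t = 0 := Subtype.ext h3
      have h6 := dE.ε_sq' (F := ↥E'.1) s
      rw [← one_mul t, ← h6, mul_assoc, h5, mul_zero]
    apply Subtype.ext
    rw [e1, h4]
    exact xc_z hp8 (dE.σ s).2
  have h9 := ker_le (L := LL k) R R' q1 piL q2 q3 q4 q5 hE h1
  rw [← TL_eq hp8 hk]
  exact le_TL E h9

include hk r in
/-- **The kernel of the restriction homomorphism.** -/
theorem ker_piL {g : ↥(LL k)} : piL g = 1 ↔ (g : ↥(chevE8.group k)) ∈ TT chevE8 k ∧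
    ∀ s : Fin chevD4.nroots, ch hp8 (vec chevE8 8 (dE.σ s).val) (g : ↥(chevE8.group k)) = 1 := by
  constructor
  · intro h1
    have h2 := ker_piL_T hk r h1
    refine ⟨h2, fun s => ?_⟩
    rw [← (piL_TT h2).2 s, h1]
    exact ch_self_one hp4 s.2
  · rintro ⟨h2, h3⟩
    have h4 := piL_TT h2
    have h5 := coe_TT hp4 h4.1
    apply Subtype.ext
    apply Units.ext
    rw [h5]
    refine (congrArg Matrix.diagonal ?_).trans Matrix.diagonal_one
    funext i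
    rcases i with i | s
    · rfl
    · show ch hp4 (vec chevD4 4 s.val) (piL g) = 1
      rw [h4.2 s, h3 s]

theorem TT_comm {a b : ↥(chevE8.group k)} (ha : a ∈ TT chevE8 k) (hb : b ∈ TT chevE8 k) : a * b = b * a := by
  have h1 := coe_TT hp8 ha
  have h2 := coe_TT hp8 hb
  apply Subtype.ext
  apply Units.ext
  rw [Subgroup.coe_mul, Subgroup.coe_mul, Units.val_mul, Units.val_mul, h1, h2, Matrix.diagonal_mul_diagonal,
    Matrix.diagonal_mul_diagonal]
  (with_reducible congr 1)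
  funext i
  exact mul_comm _ _

include hk r in
/-- **The kernel is central.** -/
theorem ker_comm {g : ↥(LL k)} (h1 : piL g = 1) (x : ↥(LL k)) : g * x = x * g := by
  obtain ⟨h2, h3⟩ := (ker_piL hk r).1 h1
  have key : LL k ≤ Subgroup.centralizer {(g : ↥(chevE8.group k))} := by
    refine sup_le ?_ (RGD.Sup_le fun a ha => ?_)
    · intro t ht
      rw [Subgroup.mem_centralizer_singleton_iff]
      exact TT_comm ht h2
    · intro y hy
      obtain ⟨s, rfl⟩ := mem_DL.1 ha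
      obtain ⟨t, rfl⟩ := (mem_XX8 (isRoot_vec hp8 cs8 (dE.σ s).2)).1 hy
      rw [Subgroup.mem_centralizer_singleton_iff]
      have h4 := (act hp8 (dE.σ s).2 h2).2 t
      rw [h3 s, one_mul, mul_inv_eq_iff_eq_mul] at h4
      exact h4.symm
  have h5 := Subgroup.mem_centralizer_singleton_iff.1 (key x.2)
  exact Subtype.ext h5.symm

end

end Cfsg.Agent.H230.X3

/-!
# Generation in the Levi subgroup of type `D4` (S2187 X3, helper230)
-/

set_option autoImplicit false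
set_option linter.unusedSectionVars false
set_option linter.unusedVariables false

namespace Cfsg.Agent.H230.X3

open CoxeterSystem Cfsg Cfsg.Lie Cfsg.Lie.ChevalleyDatum
open Cfsg.Agent.ChevalleyStructure Cfsg.Agent.ChevalleyStructure.Elts Cfsg.Agent.ChevalleyStructure.CoxeterGeom
  Cfsg.Agent.ChevalleyStructure.CoxeterGeomTypes Cfsg.Agent.ChevalleyStructure.NPerm
open Cfsg.Agent.Tits.Roots Cfsg.Agent.Tits.Core Cfsg.Agent.Nodes Cfsg.Agent.Nodes.Reps Cfsg.Agent.Nodes.BNOf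
  Cfsg.Agent.Nodes.RGDChev Cfsg.Agent.Nodes.Bruhat Cfsg.Agent.Nodes.StabComb Cfsg.Agent.Nodes.SubComb
  Cfsg.Agent.Nodes.Sub Cfsg.Agent.Nodes.LeviStd Cfsg.Agent.Nodes.ClsSub
open Cfsg.Agent.KFacts.RgdField Cfsg.Agent.KFacts.RgdChevCoord
open Cfsg.Agent.BpExc Cfsg.Agent.BpExc.Tow Cfsg.Agent.BpExc.TowChev Cfsg.Agent.GpExc.Field

universe u v

/-! ### torus elements -/

section Tor

variable {D : ChevalleyDatum} {l : ℕ} {M : CoxeterMatrix (Fin l)} (hp : IsType D l M) {k : Type u} [Field k]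
  [IsAlgClosed k]

theorem eq_one_of_ch {t : ↥(D.group k)} (ht : t ∈ TT D k) (h : ∀ s < D.nroots, ch hp (vec D l s) t = 1) : t = 1 := by
  apply Subtype.ext
  apply Units.ext
  rw [coe_TT hp ht]
  refine (congrArg Matrix.diagonal ?_).trans Matrix.diagonal_one
  funext i
  rcases i with i | s
  · rfl
  · exact h s.val s.2

/-- rational torus elements -/
theorem pow_of_range (hk : LocFin k) (r : ℕ) [Fact r.Prime] [CharP k r] {F : Type u} [Field F] [Fintype F] (f : F →+* k)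
    {z : ↥(D.group k)} (hz : z ∈ TT D k) (hz' : z ∈ (emb hp.inList f).range) : z ^ (Fintype.card F - 1) = 1 := by
  refine eq_one_of_ch hp (pow_mem hz _) fun s hs => ?_
  rw [H696.GmnToral.ch_pow hp M.toCoxeterSystem hk r (isRoot_vec hp _ hs) hz]
  obtain ⟨z', e⟩ := hz'
  have h1 : ch hp (vec D l s) z = f (((z' : GL D.Idx F) : Matrix D.Idx D.Idx F) (Sum.inr ⟨s, hs⟩) (Sum.inr ⟨s, hs⟩)) := by
    have h2 := congrFun (congrFun (coe_TT hp hz) (Sum.inr ⟨s, hs⟩)) (Sum.inr ⟨s, hs⟩)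
    rw [Matrix.diagonal_apply_eq] at h2
    rw [show ch hp (vec D l s) z = Sum.elim (fun _ => (1 : k)) (fun s : Fin D.nroots => ch hp (vec D l s.val) z)
      (Sum.inr ⟨s, hs⟩) from rfl, ← h2, ← e, coe_emb, coe_glMap]
    rfl
  have h3 := (act hp hs hz).1
  have h4 : ch hp (vec D l s) z ^ Fintype.card F = ch hp (vec D l s) z := by
    rw [h1, ← map_pow, FiniteField.pow_card]
  have h5 : 0 < Fintype.card F := Fintype.card_pos
  have h6 : ch hp (vec D l s) z ^ (Fintype.card F - 1) * ch hp (vec D l s) z = 1 * ch hp (vec D l s) z := by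
    rw [← pow_succ, Nat.sub_add_cancel h5, h4, one_mul]
  exact mul_right_cancel₀ h3 h6

include hp in
theorem fin_order (hk : LocFin k) (y : ↥(D.group k)) : IsOfFinOrder y := by
  obtain ⟨E, hE⟩ := exists_level hp hk y
  obtain ⟨y', rfl⟩ := hE E le_rfl
  have : Finite ↥(D.group ↥E.1) := finite_group
  exact (emb hp.inList E.1.subtype).isOfFinOrder ((isOfFinOrder_of_finite y' :))

include hp in
theorem mem_of_pow (hk : LocFin k) (r : ℕ) [Fact r.Prime] [CharP k r] {t : ↥(D.group k)} (ht : t ∈ TT D k)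
    {S : Subgroup ↥(D.group k)} (h : t ^ r ∈ S) : t ∈ S := by
  obtain ⟨m, hm, hm1⟩ := RowsN.exists_coprime hp.inList ht (fin_order hp hk t)
  obtain ⟨a, b, hab⟩ := Nat.isCoprime_iff_coprime.2 hm
  have h1 : t = (t ^ r) ^ b := by
    calc t = t ^ (a * (m : ℤ) + b * (r : ℤ)) := by rw [hab, zpow_one]
      _ = (t ^ m) ^ a * (t ^ r) ^ b := by
        rw [zpow_add, mul_comm a, mul_comm b, zpow_mul, zpow_mul, zpow_natCast, zpow_natCast]
      _ = _ := by rw [hm1, one_zpow, one_mul]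
  rw [h1]
  exact S.zpow_mem h b

end Tor

/-! ### the rational elements -/

section Rat

variable {k : Type u} [Field k] [IsAlgClosed k] {F : Type u} [Field F] (f : F →+* k)

/-- the rational elements of the Levi subgroup -/
noncomputable def L0 : Subgroup ↥(chevE8.group k) :=
  Subgroup.closure {x | ∃ (s : Fin chevD4.nroots) (t : F), x = xc hp8 (vec chevE8 8 (dE.σ s).val) (f t)}

theorem xc_mem_L0 (s : Fin chevD4.nroots) (t : F) : xc hp8 (vec chevE8 8 (dE.σ s).val) (f t) ∈ L0 f :=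
  Subgroup.subset_closure ⟨s, t, rfl⟩

theorem L0_le_range : L0 f ≤ (emb hp8.inList f).range := by
  refine (Subgroup.closure_le _).2 ?_
  rintro _ ⟨s, t, rfl⟩
  exact ⟨xc hp8 _ t, emb_xc hp8 f _ t⟩

theorem piL_xc_f (s : Fin chevD4.nroots) (t : F) :
    piL ⟨xc hp8 (vec chevE8 8 (dE.σ s).val) (f t), xc_mem_LL s (f t)⟩ =
      emb hp4.inList f (xc hp4 (vec chevD4 4 s.val) (((dE.ε s : ℤ) : F) * t)) := by
  rw [piL_xc, emb_xc, map_mul, map_intCast]

theorem exists_L0 (b : ↥(chevD4.group F)) : ∃ x : ↥(LL k), (x : ↥(chevE8.group k)) ∈ L0 f ∧ piL x = emb hp4.inList f b := by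
  obtain ⟨N, hN⟩ : ∃ N : Subgroup ↥(chevD4.group F), N = (((L0 f).subgroupOf (LL k)).map piL).comap (emb hp4.inList f) :=
    ⟨_, rfl⟩
  have h1 : chevD4.group F ≤ N.map (chevD4.group F).subtype := by
    rw [group_le_iff hp4.inList]
    intro s hs t
    refine ⟨⟨xG hp4.inList s t, xG_mem_group hp4.inList s t⟩, ?_, rfl⟩
    rw [hN, SetLike.mem_coe, Subgroup.mem_comap]
    refine ⟨⟨xc hp8 (vec chevE8 8 (dE.σ ⟨s, hs⟩).val) (f (((dE.ε ⟨s, hs⟩ : ℤ) : F) * t)), xc_mem_LL _ _⟩,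
      xc_mem_L0 f _ _, ?_⟩
    rw [piL_xc_f, ← mul_assoc, dE.ε_sq', one_mul]
    (with_reducible congr 1)
    apply Subtype.ext
    rw [coe_xc hp4 hs]
  obtain ⟨b', hb', e⟩ := h1 b.2
  have e' : b' = b := Subtype.ext e
  rw [← e']
  rw [hN] at hb'
  obtain ⟨x, hx, e⟩ := hb'
  exact ⟨x, hx, e⟩

end Rat

/-! ### the Frobenius automorphism -/

section Frob

variable {k : Type u} [Field k] [IsAlgClosed k] {τ : MulAut ↥(chevE8.group k)} {q : ℕ}
  (hτT : ∀ x ∈ TT chevE8 k, τ x ∈ TT chevE8 k)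
  (hτ : ∀ (s : Fin chevD4.nroots) (t : k), τ (xc hp8 (vec chevE8 8 (dE.σ s).val) t) =
    xc hp8 (vec chevE8 8 (dE.σ s).val) (t ^ q)) {φ : k →+* k} (hφ : ∀ t, φ t = t ^ q)

include hτT hτ hφ in
theorem piL_tau {x : ↥(chevE8.group k)} (hx : x ∈ LL k) : ∃ hx' : τ x ∈ LL k,
    ((piL ⟨τ x, hx'⟩ : ↥(chevD4.group k)) : GL chevD4.Idx k) =
      glMap chevD4 φ ((piL ⟨x, hx⟩ : ↥(chevD4.group k)) : GL chevD4.Idx k) := by
  obtain ⟨S, hS⟩ : ∃ S : Subgroup ↥(chevE8.group k), ∀ x, x ∈ S ↔ ∃ (hx : x ∈ LL k) (hx' : τ x ∈ LL k),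
      ((piL ⟨τ x, hx'⟩ : ↥(chevD4.group k)) : GL chevD4.Idx k) =
      glMap chevD4 φ ((piL ⟨x, hx⟩ : ↥(chevD4.group k)) : GL chevD4.Idx k) := by
    refine ⟨⟨⟨⟨{x | ∃ (hx : x ∈ LL k) (hx' : τ x ∈ LL k),
      ((piL ⟨τ x, hx'⟩ : ↥(chevD4.group k)) : GL chevD4.Idx k) =
      glMap chevD4 φ ((piL ⟨x, hx⟩ : ↥(chevD4.group k)) : GL chevD4.Idx k)}, ?_⟩, ?_⟩, ?_⟩, fun x => Iff.rfl⟩
    · rintro a b ⟨ha, ha', ea⟩ ⟨hb, hb', eb⟩
      have h1 : τ (a * b) ∈ LL k := by rw [map_mul]; exact mul_mem ha' hb'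
      refine ⟨mul_mem ha hb, h1, ?_⟩
      have e1 : (⟨τ (a * b), h1⟩ : ↥(LL k)) = ⟨τ a, ha'⟩ * ⟨τ b, hb'⟩ := Subtype.ext (map_mul τ a b)
      have e2 : (⟨a * b, mul_mem ha hb⟩ : ↥(LL k)) = ⟨a, ha⟩ * ⟨b, hb⟩ := rfl
      simp only [e1, e2, map_mul piL (⟨τ a, ha'⟩) (⟨τ b, hb'⟩), map_mul piL (⟨a, ha⟩) (⟨b, hb⟩), Subgroup.coe_mul (chevD4.group k) (piL ⟨τ a, ha'⟩) (piL ⟨τ b, hb'⟩), Subgroup.coe_mul (chevD4.group k) (piL ⟨a, ha⟩) (piL ⟨b, hb⟩), ea, eb, map_mul (glMap chevD4 φ) (↑(piL ⟨a, ha⟩)) (↑(piL ⟨b, hb⟩))]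
    · have h1 : τ 1 ∈ LL k := by rw [map_one]; exact one_mem _
      refine ⟨one_mem _, h1, ?_⟩
      have e1 : (⟨τ 1, h1⟩ : ↥(LL k)) = 1 := Subtype.ext (map_one τ)
      have e2 : (⟨1, one_mem _⟩ : ↥(LL k)) = 1 := rfl
      rw [e1, e2, map_one, Subgroup.coe_one, map_one]
    · rintro a ⟨ha, ha', ea⟩
      have h1 : τ a⁻¹ ∈ LL k := by rw [map_inv]; exact inv_mem ha'
      refine ⟨inv_mem ha, h1, ?_⟩
      have e1 : (⟨τ a⁻¹, h1⟩ : ↥(LL k)) = ⟨τ a, ha'⟩⁻¹ := Subtype.ext (map_inv τ a)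
      have e2 : (⟨a⁻¹, inv_mem ha⟩ : ↥(LL k)) = ⟨a, ha⟩⁻¹ := rfl
      simp only [e1, e2, map_inv piL (⟨τ a, ha'⟩), map_inv piL (⟨a, ha⟩), Subgroup.coe_inv (chevD4.group k) (piL ⟨τ a, ha'⟩), Subgroup.coe_inv (chevD4.group k) (piL ⟨a, ha⟩), ea, map_inv (glMap chevD4 φ) (↑(piL ⟨a, ha⟩))]
  have key : LL k ≤ S := by
    refine sup_le ?_ (RGD.Sup_le fun a ha => ?_)
    · intro t ht
      have ht' := hτT t ht
      refine (hS _).2 ⟨TT_le_LL ht, TT_le_LL ht', ?_⟩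
      obtain ⟨h1, h2⟩ := piL_TT (t := ⟨t, TT_le_LL ht⟩) ht
      obtain ⟨h3, h4⟩ := piL_TT (t := ⟨τ t, TT_le_LL ht'⟩) ht'
      apply Units.ext
      rw [coe_glMap, coe_TT hp4 h1, coe_TT hp4 h3, Matrix.diagonal_map (map_zero φ)]
      congr 1
      funext i
      rcases i with i | s
      · exact (map_one φ).symm
      · show ch hp4 (vec chevD4 4 s.val) _ = φ (ch hp4 (vec chevD4 4 s.val) _)
        rw [h2 s, h4 s, hφ]
        refine ch_eq hp8 (dE.σ s).2 ht' ?_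
        have h5 := hτ s 1
        rw [one_pow] at h5
        rw [← h5]
        show τ t * τ _ * (τ t)⁻¹ = _
        rw [← map_mul, ← map_inv, ← map_mul, (act hp8 (dE.σ s).2 ht).2, mul_one, hτ]
    · intro y hy
      obtain ⟨s, rfl⟩ := mem_DL.1 ha
      obtain ⟨t, rfl⟩ := (mem_XX8 (isRoot_vec hp8 cs8 (dE.σ s).2)).1 hy
      have h1 : τ (xc hp8 (vec chevE8 8 (dE.σ s).val) t) ∈ LL k := by rw [hτ]; exact xc_mem_LL s _
      refine (hS _).2 ⟨xc_mem_LL s t, h1, ?_⟩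
      have e1 : (⟨τ (xc hp8 (vec chevE8 8 (dE.σ s).val) t), h1⟩ : ↥(LL k)) =
        ⟨xc hp8 (vec chevE8 8 (dE.σ s).val) (t ^ q), xc_mem_LL s _⟩ := Subtype.ext (hτ s t)
      rw [e1, piL_xc, piL_xc, coe_xc hp4 s.2, coe_xc hp4 s.2, glMap_xG, map_mul, map_intCast, hφ]
  obtain ⟨h1, h2, h3⟩ := (hS x).1 (key hx)
  exact ⟨h2, h3⟩

variable {F : Type u} [Field F] [Fintype F] {f : F →+* k} (hF : Fintype.card F = q)

include hτ hF in
theorem tau_fix {x : ↥(chevE8.group k)} (hx : x ∈ L0 f) : τ x = x := by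
  have key : L0 f ≤ τ.toMonoidHom.eqLocus (MonoidHom.id _) := by
    refine (Subgroup.closure_le _).2 ?_
    rintro _ ⟨s, t, rfl⟩
    show τ _ = _
    rw [hτ, ← map_pow, ← hF, FiniteField.pow_card]
    rfl
  exact key hx

include hτT hτ hφ hF in
/-- fixed points normalise the rational points of the quotient -/
theorem norm_range {y : ↥(LL k)} (hy : τ y = y) (b : ↥(chevD4.group F)) :
    ∃ c, emb hp4.inList f c = piL y * emb hp4.inList f b * (piL y)⁻¹ := by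
  obtain ⟨h1, h2⟩ := piL_tau hτT hτ hφ y.2
  have e : (⟨τ y, h1⟩ : ↥(LL k)) = y := Subtype.ext hy
  rw [e] at h2
  have h3 := Emb.mem_normalizer hp4.inList (f := f) (Emb.fix_iff_range (φ := φ) (fun t => by rw [hφ, hF])) (piL y).2 h2.symm
  have h4 : (glMap chevD4 f (b : GL chevD4.Idx F) : GL chevD4.Idx k) ∈ (chevD4.group F).map (glMap chevD4 f) :=
    ⟨b, b.2, rfl⟩
  obtain ⟨z, hz, e⟩ := (Subgroup.mem_normalizer_iff.1 h3 _).1 h4
  exact ⟨⟨z, hz⟩, Subtype.ext e⟩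

variable (hk : LocFin k) (r : ℕ) [Fact r.Prime] [CharP k r]

include hk in
theorem xc_pow_r (s : Fin chevD4.nroots) (t : k) :
    (xc hp8 (vec chevE8 8 (dE.σ s).val) t : ↥(chevE8.group k)) ^ r = 1 := by
  have h1 : ∀ n : ℕ, (xc hp8 (vec chevE8 8 (dE.σ s).val) t : ↥(chevE8.group k)) ^ n =
      xc hp8 (vec chevE8 8 (dE.σ s).val) ((n : k) * t) := by
    intro n
    induction n with
    | zero => rw [pow_zero, Nat.cast_zero, zero_mul, xc_z hp8 (dE.σ s).2]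
    | succ n ih =>
      rw [pow_succ, ih]
      apply Subtype.ext
      rw [Subgroup.coe_mul, coe_xc hp8 (dE.σ s).2, coe_xc hp8 (dE.σ s).2, coe_xc hp8 (dE.σ s).2, xG_add]
      congr 1
      push_cast
      ring
  rw [h1, CharP.cast_eq_zero, zero_mul, xc_z hp8 (dE.σ s).2]

include hτT hτ hφ hF hk r in
/-- fixed points normalise the rational elements -/
theorem norm_L0 {y : ↥(LL k)} (hy : τ y = y) {x : ↥(chevE8.group k)} (hx : x ∈ L0 f) :
    (y : ↥(chevE8.group k)) * x * (y : ↥(chevE8.group k))⁻¹ ∈ L0 f := by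
  have key : L0 f ≤ (L0 f).comap (MulAut.conj (y : ↥(chevE8.group k))).toMonoidHom := by
    refine (Subgroup.closure_le _).2 ?_
    rintro _ ⟨s, t, rfl⟩
    show (y : ↥(chevE8.group k)) * xc hp8 (vec chevE8 8 (dE.σ s).val) (f t) * (y : ↥(chevE8.group k))⁻¹ ∈ L0 f
    obtain ⟨c, hc⟩ := norm_range hτT hτ hφ hF hy (f := f) (xc hp4 (vec chevD4 4 s.val) (((dE.ε s : ℤ) : F) * t))
    obtain ⟨x', hx', e⟩ := exists_L0 f c
    obtain ⟨x₁, hx₁⟩ : ∃ x₁ : ↥(LL k), x₁ = ⟨xc hp8 (vec chevE8 8 (dE.σ s).val) (f t), xc_mem_LL s (f t)⟩ := ⟨_, rfl⟩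
    have e1 : piL x₁ = emb hp4.inList f (xc hp4 (vec chevD4 4 s.val) (((dE.ε s : ℤ) : F) * t)) := by
      rw [hx₁, piL_xc_f]
    obtain ⟨z, hz⟩ : ∃ z : ↥(LL k), z = x'⁻¹ * (y * x₁ * y⁻¹) := ⟨_, rfl⟩
    have hz1 : piL z = 1 := by
      simp only [hz, map_mul, map_mul, map_mul, map_inv, map_inv, e1, ← hc, e, inv_mul_cancel]
    have hzT := ((ker_piL hk r).1 hz1).1
    have hzc := ker_comm hk r hz1
    have e2 : y * x₁ * y⁻¹ = x' * z := by rw [hz]; group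
    have e3 : (y * x₁ * y⁻¹) ^ r = 1 := by
      rw [conj_pow]
      have : x₁ ^ r = 1 := by
        apply Subtype.ext
        rw [Subgroup.coe_pow, hx₁]
        exact xc_pow_r hk r s (f t)
      rw [this, mul_one, mul_inv_cancel]
    have e4 : x' ^ r * z ^ r = 1 := by
      rw [← (Commute.mul_pow (show Commute x' z from (hzc x').symm) r), ← e2, e3]
    have h5 : (z : ↥(chevE8.group k)) ^ r ∈ L0 f := by
      have h6 := congrArg (fun g : ↥(LL k) => (g : ↥(chevE8.group k))) ((eq_inv_of_mul_eq_one_right (e4 :) :))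
      simp only [Subgroup.coe_pow, Subgroup.coe_inv] at h6
      rw [h6]
      exact inv_mem (pow_mem hx' r)
    have h6 := mem_of_pow hp8 hk r hzT h5
    have h7 := congrArg (fun g : ↥(LL k) => (g : ↥(chevE8.group k))) e2
    simp only [Subgroup.coe_mul, Subgroup.coe_inv] at h7
    rw [hx₁] at h7
    rw [h7]
    exact mul_mem hx' h6
  exact key hx

include hτT hτ hφ hF hk r in
/-- commuting modulo the center implies commuting -/
theorem comm_of {p : ℕ} (hpq : Nat.Coprime p (q - 1)) {y : ↥(LL k)} (hy : τ y = y) (hyp : y ^ p = 1)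
    {x : ↥(LL k)} (hx : (x : ↥(chevE8.group k)) ∈ L0 f) (hxy : piL y * piL x = piL x * piL y) : y * x = x * y := by
  obtain ⟨c, hc⟩ : ∃ c : ↥(LL k), c = y * x * y⁻¹ * x⁻¹ := ⟨_, rfl⟩
  have hc1 : piL c = 1 := by
    simp only [hc, map_mul, map_mul, map_mul, map_inv, map_inv, hxy]
    group
  have hcc := ker_comm hk r hc1
  have h1 : (c : ↥(chevE8.group k)) ∈ L0 f := by
    rw [hc]
    simp only [Subgroup.coe_mul, Subgroup.coe_inv]
    exact mul_mem (norm_L0 hτT hτ hφ hF hk r hy hx) (inv_mem hx)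
  have h2 : c ^ (q - 1) = 1 := by
    apply Subtype.ext
    rw [Subgroup.coe_pow, ← hF]
    exact pow_of_range hp8 hk r f ((ker_piL hk r).1 hc1).1 (L0_le_range f h1)
  have e : y * x * y⁻¹ = c * x := by rw [hc]; group
  have h3 : ∀ n : ℕ, y ^ n * x * (y ^ n)⁻¹ = c ^ n * x := by
    intro n
    induction n with
    | zero => simp only [_root_.pow_zero, _root_.one_mul, _root_.inv_one, _root_.mul_one]
    | succ n ih =>
      have : y ^ (n + 1) * x * (y ^ (n + 1))⁻¹ = y * (y ^ n * x * (y ^ n)⁻¹) * y⁻¹ := by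
        rw [pow_succ']; group
      rw [this, ih, pow_succ']
      have h4 : y * c ^ n = c ^ n * y := ((Commute.pow_left (show Commute c y from hcc y) n).eq).symm
      calc y * (c ^ n * x) * y⁻¹ = (y * c ^ n) * x * y⁻¹ := by group
        _ = c ^ n * (y * x * y⁻¹) := by rw [h4]; group
        _ = c * c ^ n * x := by rw [e, ← mul_assoc, ← pow_succ, pow_succ']
  have h4 : c ^ p = 1 := by
    have := h3 p
    rw [hyp, one_mul, inv_one, mul_one] at this
    exact (mul_eq_right.1 this.symm)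
  have h5 := pow_gcd_eq_one.2 ⟨h4, h2⟩
  rw [hpq.gcd_eq_one, pow_one] at h5
  rw [h5, one_mul, mul_inv_eq_iff_eq_mul] at e
  exact e

/-- **The core.** -/
theorem core (hk : LocFin k) (r : ℕ) [Fact r.Prime] [CharP k r] (hZ : Subgroup.center ↥(chevD4.group k) = ⊥)
    (hτT : ∀ x ∈ TT chevE8 k, τ x ∈ TT chevE8 k)
    (hτ : ∀ (s : Fin chevD4.nroots) (t : k), τ (xc hp8 (vec chevE8 8 (dE.σ s).val) t) =
      xc hp8 (vec chevE8 8 (dE.σ s).val) (t ^ q)) (hφ : ∀ t, φ t = t ^ q) (hF : Fintype.card F = q)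
    {p : ℕ} [hpp : Fact p.Prime] (hpq : Nat.Coprime p (q - 1)) (hqr : Nat.Coprime r (q - 1))
    (hG : H818.Gen.Gen p ↥(chevD4.group F)) {E : Subgroup ↥(chevE8.group k)} (hE : IsElementaryAbelian p E)
    (hEL : E ≤ LL k) (hEτ : ∀ y ∈ E, τ y = y)
    (hcard : p ^ 2 ≤ Nat.card ↥(((E.subgroupOf (LL k)).map piL : Subgroup ↥(chevD4.group k))))
    (N : Subgroup ↥(chevE8.group k))
    (hN : ∀ x ∈ L0 f, ∀ E' ≤ E, E'.relIndex E = p → (∀ y ∈ E', y * x = x * y) → x ∈ N)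
    (s : Fin chevD4.nroots) (t : F) : xc hp8 (vec chevE8 8 (dE.σ s).val) (f t) ∈ N := by
  -- the action on the rational points of the quotient
  obtain ⟨X, hX⟩ : ∃ X : Subgroup ↥(chevD4.group k), X = (E.subgroupOf (LL k)).map piL := ⟨_, rfl⟩
  have hXn : ∀ y : ↥X, ∀ a : ↥(chevD4.group F), ∃ b, emb hp4.inList f b = y * emb hp4.inList f a * (y : ↥(chevD4.group k))⁻¹ := by
    rintro ⟨y, hy⟩ a
    rw [hX] at hy
    obtain ⟨y', hy', rfl⟩ := hy
    exact norm_range hτT hτ hφ hF (hEτ _ hy') a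
  obtain ⟨A, hA⟩ : ∃ A : ↥X →* MulAut ↥(chevD4.group F), ∀ y a, emb hp4.inList f (A y a) =
      y * emb hp4.inList f a * (y : ↥(chevD4.group k))⁻¹ := by
    classical
    have hι := emb_injective hp4.inList f
    choose b hb using hXn
    have h1 : ∀ a, b 1 a = a := fun a => hι (by rw [hb]; simp only [_root_.OneMemClass.coe_one, _root_.one_mul, _root_.inv_one, _root_.mul_one])
    have h2 : ∀ y z a, b (y * z) a = b y (b z a) := fun y z a => hι (by
      rw [hb, hb, hb]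
      simp only [Subgroup.coe_mul, mul_inv_rev, mul_assoc])
    have h3 : ∀ y a a', b y (a * a') = b y a * b y a' := fun y a a' => hι (by
      rw [map_mul, hb, hb, hb, map_mul]
      group)
    refine ⟨MonoidHom.mk' (fun y => (⟨⟨b y, b y⁻¹, fun a => ?_, fun a => ?_⟩, h3 y⟩ :
      ↥(chevD4.group F) ≃* ↥(chevD4.group F))) ?_, ?_⟩
    · rw [← h2, inv_mul_cancel, h1]
    · rw [← h2, mul_inv_cancel, h1]
    · intro y z
      exact MulEquiv.ext fun a => h2 y z a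
    · intro y a
      exact hb y a
  have hAi : Function.Injective A := by
    rw [injective_iff_map_eq_one]
    intro y hy
    refine Subtype.ext (FamUntw.eq_one_of_comm hp4 hk r f hZ fun a => ?_)
    have h1 := hA y a
    rw [hy] at h1
    exact (eq_mul_inv_iff_mul_eq.1 h1).symm
  -- the homomorphism from `E`
  have hmemX : ∀ y : ↥E, piL ⟨y, hEL y.2⟩ ∈ X := fun y => by
    rw [hX]; exact ⟨⟨y, hEL y.2⟩, y.2, rfl⟩
  obtain ⟨B, hB⟩ : ∃ B : ↥E →* ↥X, ∀ y : ↥E, ((B y : ↥X) : ↥(chevD4.group k)) = piL ⟨y, hEL y.2⟩ :=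
    ⟨(piL.comp (Subgroup.inclusion hEL)).codRestrict X hmemX, fun y => rfl⟩
  have hBs : Function.Surjective B := by
    rintro ⟨y, hy⟩
    have hy' := hy
    rw [hX] at hy'
    obtain ⟨⟨z, hz⟩, hz', e⟩ := hy'
    exact ⟨⟨z, hz'⟩, Subtype.ext (by rw [hB]; exact e)⟩
  obtain ⟨Φ, hΦ⟩ : ∃ Φ : ↥E →* MulAut ↥(chevD4.group F), Φ = A.comp B := ⟨_, rfl⟩
  have hΦr : Φ.range = A.range := by
    rw [hΦ, MonoidHom.range_eq_map, ← Subgroup.map_map, ← MonoidHom.range_eq_map,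
      MonoidHom.range_eq_top.2 hBs, ← MonoidHom.range_eq_map]
  have hΦa : ∀ (y : ↥E) a, emb hp4.inList f (Φ y a) = piL ⟨y, hEL y.2⟩ * emb hp4.inList f a * (piL ⟨y, hEL y.2⟩)⁻¹ := by
    intro y a
    rw [hΦ, ← hB]
    exact hA _ a
  have hcomm : IsMulCommutative ↥E := hE.1
  have hel : IsElementaryAbelian p Φ.range := by
    refine ⟨⟨⟨?_⟩⟩, ?_⟩
    · rintro ⟨_, a, rfl⟩ ⟨_, b, rfl⟩
      refine Subtype.ext ?_
      show Φ a * Φ b = Φ b * Φ a
      rw [← map_mul, ← map_mul, hcomm.1.1 a b]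
    · rintro _ ⟨a, rfl⟩
      rw [← map_pow, show a ^ p = 1 from Subtype.ext (hE.2 a.1 a.2), map_one]
  have hcd : p ^ 2 ≤ Nat.card ↥Φ.range := by
    rw [hΦr, ← Nat.card_congr (MonoidHom.ofInjective hAi).toEquiv, hX]
    exact hcard
  have htop := hG Φ.range hel hcd
  -- all elements lift into `N`
  have hlift : ∀ a : ↥(chevD4.group F), ∃ x : ↥(LL k), (x : ↥(chevE8.group k)) ∈ L0 f ∧
      (x : ↥(chevE8.group k)) ∈ N ∧ piL x = emb hp4.inList f a := by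
    intro a
    have ha : a ∈ H818.Gen.Gam p Φ.range := by rw [htop]; exact Subgroup.mem_top a
    refine Subgroup.closure_induction (p := fun a _ => ∃ x : ↥(LL k), (x : ↥(chevE8.group k)) ∈ L0 f ∧
      (x : ↥(chevE8.group k)) ∈ N ∧ piL x = emb hp4.inList f a) ?_ ?_ ?_ ?_ ha
    · rintro a ⟨F', hF', hi, hfix⟩
      obtain ⟨x, hx, e⟩ := exists_L0 f a
      refine ⟨x, hx, ?_, e⟩
      refine hN _ hx ((F'.comap Φ).map E.subtype) (Subgroup.map_subtype_le _) ?_ ?_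
      · have h2 : ((F'.comap Φ).map E.subtype).subgroupOf E = F'.comap Φ := by
          rw [← Subgroup.comap_subtype]
          exact Subgroup.comap_map_eq_self_of_injective E.subtype_injective _
        rw [Subgroup.relIndex, h2, Subgroup.index_comap]
        exact hi
      · rintro _ ⟨y, hy, rfl⟩
        have h3 := hfix _ hy
        have h4 := hΦa y a
        rw [h3] at h4
        have h5 : piL ⟨y, hEL y.2⟩ * piL x = piL x * piL ⟨y, hEL y.2⟩ := by
          rw [e]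
          exact (eq_mul_inv_iff_mul_eq.1 h4).symm
        have h6 := comm_of hτT hτ hφ hF hk r hpq (y := ⟨y, hEL y.2⟩) (hEτ _ y.2) (Subtype.ext (hE.2 y.1 y.2)) hx h5
        exact congrArg (fun g : ↥(LL k) => (g : ↥(chevE8.group k))) h6
    · exact ⟨1, one_mem _, one_mem _, by rw [map_one, map_one]⟩
    · rintro a b - - ⟨x, hx, hxN, ex⟩ ⟨y, hy, hyN, ey⟩
      exact ⟨x * y, mul_mem hx hy, mul_mem hxN hyN, by rw [map_mul, map_mul, ex, ey]⟩
    · rintro a - ⟨x, hx, hxN, ex⟩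
      exact ⟨x⁻¹, inv_mem hx, inv_mem hxN, by rw [map_inv, map_inv, ex]⟩
  -- conclusion
  obtain ⟨x₁, hx₁⟩ : ∃ x₁ : ↥(LL k), x₁ = ⟨xc hp8 (vec chevE8 8 (dE.σ s).val) (f t), xc_mem_LL s (f t)⟩ := ⟨_, rfl⟩
  have e1 : piL x₁ = emb hp4.inList f (xc hp4 (vec chevD4 4 s.val) (((dE.ε s : ℤ) : F) * t)) := by
    rw [hx₁, piL_xc_f]
  obtain ⟨x, hx, hxN, ex⟩ := hlift (xc hp4 (vec chevD4 4 s.val) (((dE.ε s : ℤ) : F) * t))
  obtain ⟨z, hz⟩ : ∃ z : ↥(LL k), z = x⁻¹ * x₁ := ⟨_, rfl⟩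
  have hz1 : piL z = 1 := by rw [hz, map_mul, map_inv, ex, e1, inv_mul_cancel]
  have hzT := ((ker_piL hk r).1 hz1).1
  have hzc := ker_comm hk r hz1
  have hx0 : (x₁ : ↥(chevE8.group k)) ∈ L0 f := by rw [hx₁]; exact xc_mem_L0 f s t
  have h1 : (z : ↥(chevE8.group k)) ∈ L0 f := by
    rw [hz]
    exact mul_mem (inv_mem hx) hx0
  have h2 : z ^ (q - 1) = 1 := by
    apply Subtype.ext
    rw [Subgroup.coe_pow, ← hF]
    exact pow_of_range hp8 hk r f hzT (L0_le_range f h1)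
  have e2 : x₁ = x * z := by rw [hz]; group
  have h3 : x₁ ^ (q - 1) = x ^ (q - 1) := by
    rw [e2, (show Commute x z from (hzc x).symm).mul_pow, h2, mul_one]
  have h4 : (x₁ : ↥(chevE8.group k)) ^ (q - 1) ∈ N := by
    have h5 := congrArg (fun g : ↥(LL k) => (g : ↥(chevE8.group k))) h3
    simp only [Subgroup.coe_pow] at h5
    rw [h5]
    exact pow_mem hxN _
  have h5 : (x₁ : ↥(chevE8.group k)) ^ r = 1 := by
    rw [hx₁]; exact xc_pow_r hk r s (f t)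
  have h6 : (x₁ : ↥(chevE8.group k)) ∈ N := by
    obtain ⟨a, b, hab⟩ := Nat.isCoprime_iff_coprime.2 hqr
    have h7 : (x₁ : ↥(chevE8.group k)) = ((x₁ : ↥(chevE8.group k)) ^ (q - 1)) ^ b := by
      calc (x₁ : ↥(chevE8.group k)) = (x₁ : ↥(chevE8.group k)) ^ (a * (r : ℤ) + b * ((q - 1 : ℕ) : ℤ)) := by
            rw [hab, zpow_one]
        _ = ((x₁ : ↥(chevE8.group k)) ^ r) ^ a * ((x₁ : ↥(chevE8.group k)) ^ (q - 1)) ^ b := by
          rw [zpow_add, mul_comm a, mul_comm b, zpow_mul, zpow_mul, zpow_natCast, zpow_natCast]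
        _ = _ := by rw [h5, one_zpow, one_mul]
    rw [h7]
    exact N.zpow_mem h4 b
  rw [hx₁] at h6
  exact h6

end Frob

end Cfsg.Agent.H230.X3
end

-- part: H496/Gen/T2Model
section
/-!
# Toral subgroups in the models (helper496, hub S2187, piece T2 = X2)

`m : MData hp r q K₀`, `E ≤ Y^σ` elementary abelian of order `≥ p`, toral: `z y z⁻¹ ∈ TT` for `y ∈ E`.
* `toral_untw` (`D ≠ B₂, D₄`), `toral_D4` (`³D₄`) : there is `v ∈ Y^σ` such that `GamY` contains all `a ∈ K₀` with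
  `v * ι a * v⁻¹ ∈ ⟨XX θ, XX (-θ)⟩`, `θ` the highest root; or `D = E₈`, `p ∣ q ^ 2 + 1`, and `E` has a frame with
  `γ ^ 2 = -1`, regular (`ExcFrame`).
-/

set_option autoImplicit false
set_option linter.unusedSectionVars false

namespace Cfsg.Agent.H496.Gen.T2

open CoxeterSystem Cfsg Cfsg.Lie Cfsg.Lie.ChevalleyDatum
open Cfsg.Agent.ChevalleyStructure Cfsg.Agent.ChevalleyStructure.Elts Cfsg.Agent.ChevalleyStructure.CoxeterGeom
  Cfsg.Agent.ChevalleyStructure.CoxeterGeomTypes Cfsg.Agent.ChevalleyStructure.NPerm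
open Cfsg.Agent.Tits.Roots Cfsg.Agent.Tits.Core Cfsg.Agent.Nodes Cfsg.Agent.Nodes.Reps Cfsg.Agent.Nodes.BNOf
  Cfsg.Agent.Nodes.RGDChev Cfsg.Agent.Nodes.Bruhat Cfsg.Agent.Nodes.StabComb Cfsg.Agent.Nodes.Coroot
  Cfsg.Agent.Nodes.SubComb
open Cfsg.Agent.KFacts.RgdField Cfsg.Agent.KFacts.RgdChevCoord
open Cfsg.Agent.BpExc Cfsg.Agent.BpExc.TorCent Cfsg.Agent.BpExc.TorChev Cfsg.Agent.BpExc.Tow
open Cfsg.Agent.BpExc.TowChev Cfsg.Agent.BpExc.Fr Cfsg.Agent.BpExc.LangFr Cfsg.Agent.BpExc.HX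
open Cfsg.Agent.BpExc.NChev Cfsg.Agent.BpExc.NInst
open Cfsg.Agent.H123.ExcComb Cfsg.Agent.H696.GmnToral Cfsg.Agent.H496.Gen.PairSet
open Cfsg.Agent.H469.Exc Cfsg.Agent.H316.U6 Cfsg.Agent.H818.Gen

universe u v w

variable {D : ChevalleyDatum} {l : ℕ} {M : CoxeterMatrix (Fin l)} {hp : IsType D l M} {r q : ℕ}
  [hr : Fact r.Prime] {K₀ : Type v} [Group K₀]

theorem center_bot {G : Type*} [Group G] (h : IsSimpleGroup G ∧ ¬ IsMulCommutative G) : Subgroup.center G = ⊥ := by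
  obtain ⟨h1, h2⟩ := h
  rcases (inferInstance : (Subgroup.center G).Normal).eq_bot_or_eq_top with h3 | h3
  · exact h3
  · exfalso
    apply h2
    refine ⟨⟨fun a b => ?_⟩⟩
    have : b ∈ Subgroup.center G := by rw [h3]; trivial
    exact Subgroup.mem_center_iff.1 this a

/-- `D.group k` has trivial centre, `k` algebraically closed. -/
theorem center_group (hp : IsType D l M) (hB2 : D ≠ chevB2) (k : Type u) [Field k] [IsAlgClosed k] :
    Subgroup.center ↥(D.group k) = ⊥ := by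
  have : Infinite k := IsAlgClosed.instInfinite
  simp only [IsType, typeList, List.mem_cons, List.not_mem_nil, or_false, Prod.mk.injEq] at hp
  rcases hp with ⟨rfl, h⟩ | ⟨rfl, h⟩ | ⟨rfl, h⟩ | ⟨rfl, h⟩ | ⟨rfl, h⟩ | ⟨rfl, h⟩ | ⟨rfl, h⟩
  · refine center_bot (S1055.result ?_)
    classical
    obtain ⟨a, ha⟩ := Infinite.exists_notMem_finset ({0, 1} : Finset k)
    exact ⟨a, fun h => ha (by simp only [h, _root_.Finset.mem_insert, _root_.Finset.mem_singleton, _root_.zero_ne_one, _root_.or_false]), fun h => ha (by simp only [h, _root_.Finset.mem_insert, _root_.one_ne_zero, _root_.Finset.mem_singleton, _root_.or_true])⟩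
  · exact absurd rfl hB2
  · exact center_bot (S1054.result chevD4 (by simp))
  · exact center_bot (S1054.result chevF4 (by simp))
  · exact center_bot (S1054.result chevE6 (by simp))
  · exact center_bot (S1054.result chevE7 (by simp))
  · exact center_bot (S1054.result chevE8 (by simp))

/-- `E ≤ Y^σ` is finite -/
theorem finite_E (m : MData hp r q K₀) {E : Subgroup ↥(D.group (KK r))} (hE : ∀ y ∈ E, m.σ y = y) : Finite ↥E := by
  have := m.fin
  have hle : E ≤ fixedSubgroup m.σ := fun y hy => hE y hy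
  exact Finite.of_injective _ (Subgroup.inclusion_injective hle)

/-- **`LongComm` and the group generated by the centralisers of the hyperplanes.** -/
theorem mem_of_longComm (m : MData hp r q K₀) {p : ℕ} [Fact p.Prime] {E : Subgroup ↥(D.group (KK r))}
    (hE : IsElementaryAbelian p E) (hσ : ∀ y ∈ E, m.σ y = y) (hc : p ≤ Nat.card E) (h : LongComm l m.σ p E) :
    ∃ v, m.σ v = v ∧ ∀ a : K₀, v * m.ι a * v⁻¹ ∈ XX D l (KK r) (vec D l (D.nroots - 1)) ⊔
      XX D l (KK r) (-vec D l (D.nroots - 1)) → a ∈ GamY m.ι p E := by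
  have := finite_E m hσ
  obtain ⟨v, hv, F, hF, hFE, h1⟩ := h
  refine ⟨v, hv, fun a ha => ?_⟩
  have h2 : ∀ y ∈ F, y * m.ι a = m.ι a * y := by
    intro y hy
    have h3 := h1 y hy _ ha
    have h4 : v * (y * m.ι a) * v⁻¹ = v * (m.ι a * y) * v⁻¹ := by
      calc v * (y * m.ι a) * v⁻¹ = v * y * v⁻¹ * (v * m.ι a * v⁻¹) := by group
        _ = v * m.ι a * v⁻¹ * (v * y * v⁻¹) := h3
        _ = _ := by group
    exact mul_left_cancel (mul_right_cancel h4)
  rcases hFE with h3 | h3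
  · obtain ⟨F₁, hF₁, hi⟩ := exists_hyperplane hE hc
    exact mem_GamY hF₁ hi fun y hy => h2 y (by rw [h3]; exact hF₁ hy)
  · exact mem_GamY hF h3 h2

/-- the exceptional case: `p ∣ q ^ 2 + 1` -/
theorem dvd_of_excFrame (hB2 : D ≠ chevB2) (m : MData hp r q K₀) {p : ℕ} [hpp : Fact p.Prime]
    {E : Subgroup ↥(D.group (KK r))} (hE : ∀ y ∈ E, y ^ p = 1) (hσ : ∀ y ∈ E, m.σ y = y) (h1 : ∃ y ∈ E, y ≠ 1)
    (h : ExcFrame M.toCoxeterSystem hp m.σ m.g (locFin r) r E) : p ∣ q ^ 2 + 1 := by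
  obtain ⟨-, z, c, w, F, -, h8, -⟩ := h
  obtain ⟨y, hy, hy1⟩ := h1
  obtain ⟨γ, hγ⟩ : ∃ γ, γ = m.g.trans (repAut M.toCoxeterSystem hp.isCartan w) := ⟨_, rfl⟩
  rw [← hγ] at F h8
  have hk := locFin r
  have htT := F.tor ⟨y, hy⟩
  have hfix := F.fix (i := ⟨y, hy⟩) (hσ y hy)
  obtain ⟨t, ht⟩ : ∃ t, t = z⁻¹ * y * z := ⟨_, rfl⟩
  simp only [← ht] at htT hfix
  have ht1 : t ≠ 1 := by
    rintro rfl
    apply hy1
    have : y = z * (z⁻¹ * y * z) * z⁻¹ := by group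
    rw [this, ← ht, mul_one, mul_inv_cancel]
  have htp : t ^ p = 1 := by
    have : t = z⁻¹ * y * z⁻¹⁻¹ := by rw [inv_inv, ht]
    rw [this, conj_pow, hE y hy, mul_one, mul_inv_cancel]
  obtain ⟨a, ha, hat⟩ : ∃ a, IsRoot M.toCoxeterSystem hp.isCartan a ∧ ch hp a t ≠ 1 := by
    by_contra hcon
    push Not at hcon
    exact ht1 (eq_one_TT hp M.toCoxeterSystem hk r (center_group hp hB2 _) htT hcon)
  have h2 : ∀ b, IsRoot M.toCoxeterSystem hp.isCartan b → ch hp (γ b) t = ch hp b t ^ q := by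
    intro b hb
    have h3 := fr_ch hp M.toCoxeterSystem hk (m.frob.conj_mul c) F.fr hb htT
    rw [hfix, m.hq] at h3
    exact h3
  have h3 : ch hp a t ^ (q ^ 2 + 1) = 1 := by
    have h4 := h2 _ ((F.fr.root a).2 ha)
    rw [h8, h2 a ha, ch_neg hp M.toCoxeterSystem hk r ha htT, ← pow_mul, ← pow_two] at h4
    rw [pow_succ, ← h4, inv_mul_cancel₀ (ch_ne_zero hp M.toCoxeterSystem hk r ha htT)]
  have h4 : ch hp a t ^ p = 1 := by
    rw [← _root_.Cfsg.Agent.H696.GmnToral.ch_pow hp M.toCoxeterSystem hk r ha htT, htp]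
    exact ch_one hp M.toCoxeterSystem hk r ha
  rw [← orderOf_eq_prime h4 hat]
  exact orderOf_dvd_of_pow_eq_one h3

/-- **The main theorem for the models.** -/
theorem toral_of_cmb (hB2 : D ≠ chevB2) (m : MData hp r q K₀)
    (hcmb : ∀ w : M.Group, (∀ a, IsRoot M.toCoxeterSystem hp.isCartan
      ((m.g.trans (repAut M.toCoxeterSystem hp.isCartan w)) a) ↔ IsRoot M.toCoxeterSystem hp.isCartan a) →
      Cmb hp M.toCoxeterSystem (m.g.trans (repAut M.toCoxeterSystem hp.isCartan w))) {p : ℕ} [hpp : Fact p.Prime]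
    (hp2 : p ≠ 2) {E : Subgroup ↥(D.group (KK r))} (hE : IsElementaryAbelian p E) (hσ : ∀ y ∈ E, m.σ y = y)
    (hc : p ≤ Nat.card E) {z : ↥(D.group (KK r))} (hz : ∀ y ∈ E, z * y * z⁻¹ ∈ TT D (KK r)) :
    (∃ v, m.σ v = v ∧ ∀ a : K₀, v * m.ι a * v⁻¹ ∈ XX D l (KK r) (vec D l (D.nroots - 1)) ⊔
      XX D l (KK r) (-vec D l (D.nroots - 1)) → a ∈ GamY m.ι p E) ∨
    (p ∣ q ^ 2 + 1 ∧ ExcFrame M.toCoxeterSystem hp m.σ m.g (locFin r) r E) := by
  have := finite_E m hσ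
  rcases longComm_or (hp := hp) M.toCoxeterSystem (locFin r) (center_group hp hB2 _) hB2 m.he m.frob m.fr m.top hcmb
    hp2 hE.2 hσ (z := z⁻¹) (fun y hy => by rw [inv_inv]; exact hz y hy) with h | h
  · exact Or.inl (mem_of_longComm m hE hσ hc h)
  · refine Or.inr ⟨dvd_of_excFrame hB2 m hE.2 hσ ?_ h, h⟩
    by_contra hcon
    push Not at hcon
    have h1 : E = ⊥ := (Subgroup.eq_bot_iff_forall _).2 hcon
    rw [h1, Subgroup.card_bot] at hc
    have := hpp.out.one_lt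
    omega

/-- **`G₂, F₄, E₆, ²E₆, E₇, E₈`.** -/
theorem toral_untw (hB2 : D ≠ chevB2) (hD4 : D ≠ chevD4) (m : MData hp r q K₀) {p : ℕ} [Fact p.Prime]
    (hp2 : p ≠ 2) {E : Subgroup ↥(D.group (KK r))} (hE : IsElementaryAbelian p E) (hσ : ∀ y ∈ E, m.σ y = y)
    (hc : p ≤ Nat.card E) {z : ↥(D.group (KK r))} (hz : ∀ y ∈ E, z * y * z⁻¹ ∈ TT D (KK r)) :
    (∃ v, m.σ v = v ∧ ∀ a : K₀, v * m.ι a * v⁻¹ ∈ XX D l (KK r) (vec D l (D.nroots - 1)) ⊔
      XX D l (KK r) (-vec D l (D.nroots - 1)) → a ∈ GamY m.ι p E) ∨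
    (p ∣ q ^ 2 + 1 ∧ ExcFrame M.toCoxeterSystem hp m.σ m.g (locFin r) r E) :=
  toral_of_cmb hB2 m (fun _ hw => cmb_untw hp M.toCoxeterSystem hB2 hD4 hw) hp2 hE hσ hc hz

end Cfsg.Agent.H496.Gen.T2
end

-- part: H230/X3/Top
section
/-!
# From one long root subgroup to the whole group (S2187 X3, helper230)

`m : MData hp r q K₀`, `E` toral of exponent `p`, `M₀ ≤ K₀` contains the centralisers of the hyperplanes of `E`.

* `top_of_long` : if `M₀` contains the conjugates by a fixed point `y` of the fixed points of `X_{θ}, X_{-θ}` then `M₀ = K₀`;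
* `gamY_of_long` : the same with the hypothesis of `H496.Gen.T2.toral_untw`.
-/

set_option autoImplicit false
set_option linter.unusedSectionVars false
set_option linter.unusedVariables false

namespace Cfsg.Agent.H230.X3.Top

open CoxeterSystem Cfsg Cfsg.Lie Cfsg.Lie.ChevalleyDatum
open Cfsg.Agent.ChevalleyStructure Cfsg.Agent.ChevalleyStructure.Elts Cfsg.Agent.ChevalleyStructure.CoxeterGeom
  Cfsg.Agent.ChevalleyStructure.CoxeterGeomTypes Cfsg.Agent.ChevalleyStructure.NPerm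
  Cfsg.Agent.ChevalleyStructure.XColumns
open Cfsg.Agent.Tits.Roots Cfsg.Agent.Tits.Core Cfsg.Agent.Nodes Cfsg.Agent.Nodes.Reps Cfsg.Agent.Nodes.BNOf
  Cfsg.Agent.Nodes.RGDChev Cfsg.Agent.Nodes.Bruhat Cfsg.Agent.Nodes.NormalForm Cfsg.Agent.Nodes.StabComb
  Cfsg.Agent.Nodes.Coroot Cfsg.Agent.Nodes.SubComb
open Cfsg.Agent.KFacts.RgdField Cfsg.Agent.KFacts.RgdChevCoord
open Cfsg.Agent.BpExc Cfsg.Agent.BpExc.TorCent Cfsg.Agent.BpExc.TorChev Cfsg.Agent.BpExc.Tow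
  Cfsg.Agent.BpExc.TowChev Cfsg.Agent.BpExc.Fr Cfsg.Agent.BpExc.Pair Cfsg.Agent.BpExc.LangFr Cfsg.Agent.GpExc.Field
  Cfsg.Agent.BpExc.NInst Cfsg.Agent.BpExc.NChev Cfsg.Agent.BpExc.Asm Cfsg.Agent.BpExc.CommZ
open Cfsg.Agent.H818.StrP.UTab Cfsg.Agent.H818.StrP.UAct Cfsg.Agent.H123.ExcComb Cfsg.Agent.H696.GmnToral
open Cfsg.Agent.H469.Exc Cfsg.Agent.H469.Exc.SigFr Cfsg.Agent.H316.U3 Cfsg.Agent.H316.U6 Cfsg.Agent.H225.Gen
  Cfsg.Agent.H818.Gen
open scoped commutatorElement Matrix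

universe u v

variable {D : ChevalleyDatum} {l : ℕ} {M : CoxeterMatrix (Fin l)} (h : HiList D) {hp : IsType D l M}
  {r q : ℕ} [hr : Fact r.Prime] {K₀ : Type v} [Group K₀]

include h in
/-- **From one long root subgroup to the whole group.** -/
theorem top_of_long (m : MData hp r q K₀) [Finite K₀] [IsSimpleGroup K₀] (hq : 3 ≤ q) (hG2 : D = chevG2 → 4 ≤ q)
    {p : ℕ} (hpp : p.Prime) {E : Subgroup ↥(D.group (KK r))} [Finite ↥E] (hEp : ∀ a ∈ E, a ^ p = 1)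
    (hyp : ∃ F ≤ E, (F.subgroupOf E).index = p) (hEσ : ∀ a ∈ E, m.σ a = a)
    {z : ↥(D.group (KK r))} (hz : ∀ a ∈ E, z * a * z⁻¹ ∈ TT D (KK r))
    {M₀ : Subgroup K₀} (hM : ∀ F ≤ E, (F.subgroupOf E).index = p → ∀ a : K₀, (∀ x ∈ F, m.ι a * x = x * m.ι a) →
      a ∈ M₀) {y : ↥(D.group (KK r))} (hy : m.σ y = y)
    (hlong : ∀ u, m.σ u = u → (u ∈ XX D l (KK r) (th D l) ∨ u ∈ XX D l (KK r) (-th D l)) →
      y * u * y⁻¹ ∈ M₀.map m.ι) : M₀ = ⊤ :=
  gen_of_long h m hq hG2 hpp hEp hyp hEσ hz (fun F hF hi a _ ha => hM F hF hi a ha) hy hlong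

include h in
/-- the same for `GamY` -/
theorem gamY_of_long (m : MData hp r q K₀) [IsSimpleGroup K₀] (hq : 3 ≤ q) (hG2 : D = chevG2 → 4 ≤ q)
    {p : ℕ} [hpp : Fact p.Prime] {E : Subgroup ↥(D.group (KK r))} (hE : IsElementaryAbelian p E)
    (hEσ : ∀ y ∈ E, m.σ y = y) (hE2 : p ≤ Nat.card ↥E)
    {z : ↥(D.group (KK r))} (hz : ∀ a ∈ E, z * a * z⁻¹ ∈ TT D (KK r)) {y : ↥(D.group (KK r))} (hy : m.σ y = y)
    (hlong : ∀ u, m.σ u = u → (u ∈ XX D l (KK r) (th D l) ∨ u ∈ XX D l (KK r) (-th D l)) →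
      y * u * y⁻¹ ∈ (GamY m.ι p E).map m.ι) : GamY m.ι p E = ⊤ := by
  have := m.finite
  have := finite_of_fix m hEσ
  obtain ⟨F, hF, hFi⟩ := exists_hyperplane hE hE2
  exact top_of_long h m hq hG2 hpp.out (fun a ha => hE.2 a ha) ⟨F, hF, hFi⟩ hEσ hz
    (fun F hF hFi a ha => mem_GamY hF hFi fun y hy => (ha y hy).symm) hy hlong

include h in
/-- the same with the hypothesis of `toral_untw` -/
theorem gamY_of_sl (m : MData hp r q K₀) [IsSimpleGroup K₀] (hq : 3 ≤ q) (hG2 : D = chevG2 → 4 ≤ q)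
    {p : ℕ} [hpp : Fact p.Prime] {E : Subgroup ↥(D.group (KK r))} (hE : IsElementaryAbelian p E)
    (hEσ : ∀ y ∈ E, m.σ y = y) (hE2 : p ≤ Nat.card ↥E)
    {z : ↥(D.group (KK r))} (hz : ∀ a ∈ E, z * a * z⁻¹ ∈ TT D (KK r))
    (hlong : ∃ v, m.σ v = v ∧ ∀ a : K₀, v * m.ι a * v⁻¹ ∈ XX D l (KK r) (vec D l (D.nroots - 1)) ⊔
      XX D l (KK r) (-vec D l (D.nroots - 1)) → a ∈ GamY m.ι p E) : GamY m.ι p E = ⊤ := by
  obtain ⟨v, hv, hv'⟩ := hlong
  have hvi : m.σ v⁻¹ = v⁻¹ := by rw [map_inv, hv]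
  refine gamY_of_long h m hq hG2 hE hEσ hE2 hz hvi fun u hu hux => ?_
  have hθ : IsRoot M.toCoxeterSystem hp.isCartan (th D l) := th_root h hp M.toCoxeterSystem
  obtain ⟨j, hj⟩ : ∃ j, u ^ r ^ j = 1 := by
    rcases hux with h1 | h1
    · exact pow_of_rootD hp M.toCoxeterSystem (locFin r) r hθ h1
    · exact pow_of_rootD hp M.toCoxeterSystem (locFin r) r hθ.neg h1
  obtain ⟨a, ha⟩ := m.exists_eq (u := v⁻¹ * u * v⁻¹⁻¹) (by rw [map_mul, map_mul, hu, map_inv m.σ v⁻¹, hvi])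
    ⟨j, by rw [conj_pow, hj, mul_one, mul_inv_cancel]⟩
  refine ⟨a, hv' a ?_, ha⟩
  have e : v * m.ι a * v⁻¹ = u := by rw [ha]; group
  rw [e]
  rcases hux with h1 | h1
  · exact Subgroup.mem_sup_left h1
  · exact Subgroup.mem_sup_right h1

end Cfsg.Agent.H230.X3.Top
end

-- part: H230/X3/Exc
section
/-!
# The frame adapted to the subsystem of type `D4` (S2187 X3, helper230)
-/

set_option autoImplicit false
set_option linter.unusedSectionVars false
set_option linter.unusedVariables false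

namespace Cfsg.Agent.H230.X3

open CoxeterSystem Cfsg Cfsg.Lie Cfsg.Lie.ChevalleyDatum
open Cfsg.Agent.ChevalleyStructure Cfsg.Agent.ChevalleyStructure.Elts Cfsg.Agent.ChevalleyStructure.CoxeterGeom
  Cfsg.Agent.ChevalleyStructure.CoxeterGeomTypes Cfsg.Agent.ChevalleyStructure.NPerm
open Cfsg.Agent.Tits.Roots Cfsg.Agent.Tits.Core Cfsg.Agent.Nodes Cfsg.Agent.Nodes.Reps Cfsg.Agent.Nodes.BNOf
  Cfsg.Agent.Nodes.RGDChev Cfsg.Agent.Nodes.Bruhat Cfsg.Agent.Nodes.StabComb Cfsg.Agent.Nodes.SubComb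
  Cfsg.Agent.Nodes.Sub Cfsg.Agent.Nodes.LeviStd Cfsg.Agent.Nodes.ClsSub
open Cfsg.Agent.KFacts.RgdField Cfsg.Agent.KFacts.RgdChevCoord
open Cfsg.Agent.BpExc Cfsg.Agent.BpExc.TorCent Cfsg.Agent.BpExc.TorChev Cfsg.Agent.BpExc.Tow
open Cfsg.Agent.BpExc.TowChev Cfsg.Agent.BpExc.Fr Cfsg.Agent.BpExc.LangFr Cfsg.Agent.GpExc.Field
open Cfsg.Agent.BpExc.NChev Cfsg.Agent.BpExc.NInst Cfsg.Agent.BpExc.Pair
open Cfsg.Agent.H696.GmnToral
open Cfsg.Agent.BpExc.HX Cfsg.Agent.Nodes.Coroot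

universe u v

section Gen

variable {D : ChevalleyDatum} {l : ℕ} {M : CoxeterMatrix (Fin l)} (hp : IsType D l M) {k : Type u} [Field k]
  [IsAlgClosed k] {W : Type v} [Group W] (cs : CoxeterSystem M W) (hk : LocFin k) (r : ℕ) [Fact r.Prime] [CharP k r]

include hk in
/-- frame automorphisms map representatives to representatives -/
theorem rp_sigma {σ : MulAut ↥(D.group k)} {g : (Fin l → ℤ) ≃+ (Fin l → ℤ)}
    (F : Fr cs hp.isCartan (TT D k) (XX D l k) σ g) {w : W}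
    (hw : ∀ a, IsRoot cs hp.isCartan a → rep cs hp.isCartan w (g a) = g (rep cs hp.isCartan w a))
    {n : ↥(D.group k)} (hn : Rp cs (tow hp cs hk r (k := k)).nsys w n) :
    Rp cs (tow hp cs hk r (k := k)).nsys w (σ n) := by
  have := finite_W hp cs
  have hTL := TL_eq hp hk
  have hXL := XL_eq hp hk
  have H := tow hp cs hk r (k := k)
  have F' : Fr cs hp.isCartan (TL (Tj hp (k := k))) (XL (Xj hp (k := k))) σ g := by rw [hTL, hXL]; exact F
  obtain ⟨w', hw'⟩ := rp_fr H (GG_eq_top hp cs hk) (fun a ha => by rw [hTL, hXL]; exact sep hp cs hk r ha) F' hn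
  have F1 := Fr.conj H hn
  have F2 := Fr.conj H hw'
  rw [hTL, hXL] at F1 F2
  have e1 : w' = w := by
    refine rep_faithful hp cs fun b hb => ?_
    obtain ⟨a, rfl⟩ := g.surjective b
    have ha := (F.root a).1 hb
    obtain ⟨u, hu, hu1⟩ := XX_ne hp cs (k := k) ha
    have h1 := (F.map _ (ha.act w) _).2 ((F1.map _ ha u).2 hu)
    have h2 := (F2.map _ hb _).2 ((F.map _ ha u).2 hu)
    have e2 : MulAut.conj (σ n) (σ u) = σ (MulAut.conj n u) := by
      rw [MulAut.conj_apply, MulAut.conj_apply, map_mul, map_mul, map_inv]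
    rw [e2] at h2
    rw [hw a ha]
    refine XX_injective hp cs hk r (hb.act w') ((F.root _).2 (ha.act w)) (u := σ (MulAut.conj n u)) ?_ h2 h1
    intro h3
    apply hu1
    apply (MulAut.conj n).injective
    apply σ.injective
    rw [h3, map_one, map_one]
  rw [← e1]
  exact hw'

/-- conjugation by the representatives of the simple reflections -/
theorem nact' {i : Fin l} {x : Fin l → ℤ} (hx : IsRoot cs hp.isCartan x) : ∃ η : ℤ, (η = 1 ∨ η = -1) ∧ ∀ a : k,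
    nc hp k i * xc hp x a * (nc hp k i)⁻¹ = xc hp (rep cs hp.isCartan (cs.simple i) x) ((η : k) * a) := by
  obtain ⟨s, hs, rfl⟩ := (isRoot_iff hp cs x).1 hx
  obtain ⟨η, hη, h⟩ := Cfsg.Agent.S1031.result (F := k) D hp.inList i s (lt_rank hp i) hs
  refine ⟨η, ?_, fun a => Subtype.ext ?_⟩
  · rcases hη with rfl | rfl <;> simp
  · rw [rep_vec hp cs i hs, Subgroup.coe_mul, Subgroup.coe_mul, Subgroup.coe_inv, coe_xc hp hs,
      coe_xc hp (reflectRoot_lt hp.inList (lt_rank hp i) hs)]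
    show nG hp.inList (D.simple i) 1 * _ * (nG hp.inList (D.simple i) 1)⁻¹ = _
    rw [mul_inv_eq_iff_eq_mul]
    apply Units.ext
    rw [Units.val_mul, Units.val_mul, coe_nG, coe_xG, coe_xG]
    exact h a

theorem xc_add' {x : Fin l → ℤ} (hx : IsRoot cs hp.isCartan x) (a b : k) : xc hp x a * xc hp x b = xc hp x (a + b) := by
  obtain ⟨s, hs, rfl⟩ := (isRoot_iff hp cs x).1 hx
  apply Subtype.ext
  rw [Subgroup.coe_mul, coe_xc hp hs, coe_xc hp hs, coe_xc hp hs, xG_add]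

theorem xc_zero' {x : Fin l → ℤ} (hx : IsRoot cs hp.isCartan x) : xc hp x (0 : k) = 1 := by
  obtain ⟨s, hs, rfl⟩ := (isRoot_iff hp cs x).1 hx
  exact xc_z hp hs

theorem xc_inj' {x : Fin l → ℤ} (hx : IsRoot cs hp.isCartan x) : Function.Injective (xc (K := k) hp x) := by
  obtain ⟨s, hs, rfl⟩ := (isRoot_iff hp cs x).1 hx
  exact xc_inj hp hs

theorem xc_pow' {x : Fin l → ℤ} (hx : IsRoot cs hp.isCartan x) (a : k) : (xc hp x a : ↥(D.group k)) ^ r = 1 := by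
  have h1 : ∀ n : ℕ, (xc hp x a : ↥(D.group k)) ^ n = xc hp x ((n : k) * a) := by
    intro n
    induction n with
    | zero => rw [pow_zero, Nat.cast_zero, zero_mul, xc_zero' hp cs hx]
    | succ n ih =>
      rw [pow_succ, ih, xc_add' hp cs hx]
      congr 1
      push_cast
      ring
  rw [h1, CharP.cast_eq_zero, zero_mul, xc_zero' hp cs hx]

theorem nc_eq' (i : Fin l) : nc hp k i = xc hp (sr i) 1 * xc hp (-sr i) (-1) * xc hp (sr i) 1 := by
  have h1 := simple_lt hp.inList (lt_rank hp i)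
  rw [nc_eq hp, vec_simple hp i, vec_neg hp h1, vec_simple hp i]

include hk r in
/-- the representatives of the simple reflections are fixed -/
theorem tau_nc {τ : MulAut ↥(D.group k)} {g : (Fin l → ℤ) ≃+ (Fin l → ℤ)} {e : ℕ} (hτ : IsFrob r e τ)
    (F : Fr cs hp.isCartan (TT D k) (XX D l k) τ g) {i : Fin l} (hgi : g (sr i) = sr i)
    (hx : ∀ t, τ (xc hp (sr i) t) = xc hp (sr i) (t ^ r ^ e)) : τ (nc hp k i) = nc hp k i ∧
      ∀ t, τ (xc hp (-sr i) t) = xc hp (-sr i) (t ^ r ^ e) := by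
  have := finite_W hp cs
  have hi := isRoot_sr cs hp.isCartan i
  obtain ⟨c, hc, h⟩ := fr_xc hp cs hτ F hi.neg
  rw [map_neg, hgi] at h
  have h1 : ((-1 : k)) ^ r ^ e = -1 := by
    have h2 := map_neg (iterateFrobenius k r e) 1
    rwa [map_one, iterateFrobenius_def] at h2
  have h2 : τ (nc hp k i) * (nc hp k i)⁻¹ = xc hp (sr i) 1 * xc hp (-sr i) (1 - c) * (xc hp (sr i) 1)⁻¹ := by
    have h3 : xc hp (-sr i) (1 - c) = xc hp (-sr i) (c * (-1) ^ r ^ e) * (xc hp (-sr i) (-1 : k))⁻¹ := by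
      rw [eq_mul_inv_iff_mul_eq, xc_add' hp cs hi.neg, h1]
      congr 1
      ring
    rw [nc_eq' hp, map_mul, map_mul, hx, h, one_pow, h3]
    group
  have h3 : Rp cs (tow hp cs hk r (k := k)).nsys (cs.simple i) (τ (nc hp k i)) := by
    refine rp_sigma hp cs hk r F (fun a ha => ?_) (rp_simple cs (tow hp cs hk r (k := k)).nsys i)
    rw [rep_simple_eq, rep_simple_eq, ← cpr_sr cs hp.isCartan, ← cpr_sr cs hp.isCartan, map_sub, map_zsmul, hgi]
    (with_reducible congr 2)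
    conv_lhs => rw [← hgi]
    exact H123.ExcComb.cpr_g (fun a => F.root a) ha hi
  have h4 : τ (nc hp k i) * (nc hp k i)⁻¹ ∈ TT D k := by
    have h5 := h3.mul (rp_simple cs (tow hp cs hk r (k := k)).nsys i).inv
    rw [mul_inv_cancel] at h5
    have h6 := h5.mem_of_one
    rwa [TL_eq hp hk] at h6
  have h5 : (τ (nc hp k i) * (nc hp k i)⁻¹) ^ r ^ 1 = 1 := by
    rw [h2, pow_one, conj_pow, xc_pow' hp cs r hi.neg, mul_one, mul_inv_cancel]
  have h6 : τ (nc hp k i) * (nc hp k i)⁻¹ = 1 := by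
    apply Subtype.ext
    refine RowsN.eq_one_of_pow hp.inList (r := r) (Subgroup.mem_subgroupOf.1 h4) (j := 1) ?_
    exact congrArg (fun g : ↥(D.group k) => (g : GL D.Idx k)) h5
  refine ⟨mul_inv_eq_one.1 h6, fun t => ?_⟩
  have h7 : c = 1 := by
    rw [h2] at h6
    have h8 : xc hp (-sr i) (1 - c) = 1 := by
      have := conj_eq_one_iff.1 h6
      exact this
    have h9 := xc_inj' hp cs hi.neg (h8.trans (xc_zero' hp cs hi.neg).symm)
    exact (sub_eq_zero.1 h9).symm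
  rw [h, h7, one_mul]

include hk r in
/-- the root groups of a parabolic subsystem -/
theorem tau_RJ {τ : MulAut ↥(D.group k)} {g : (Fin l → ℤ) ≃+ (Fin l → ℤ)} {e : ℕ} (hτ : IsFrob r e τ)
    (F : Fr cs hp.isCartan (TT D k) (XX D l k) τ g) {J : Set (Fin l)} (hgi : ∀ i ∈ J, g (sr i) = sr i)
    (hx : ∀ i ∈ J, ∀ t, τ (xc hp (sr i) t) = xc hp (sr i) (t ^ r ^ e)) {a : Fin l → ℤ}
    (ha : a ∈ RootsJ cs hp.isCartan J) (t : k) : τ (xc hp a t) = xc hp a (t ^ r ^ e) := by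
  have := finite_W hp cs
  obtain ⟨w, hw, j, hj, rfl⟩ := exists_of_mem_RootsJ ha
  have key : ∃ n : ↥(D.group k), τ n = n ∧ ∀ x, IsRoot cs hp.isCartan x → ∃ η : ℤ, (η = 1 ∨ η = -1) ∧ ∀ a : k,
      n * xc hp x a * n⁻¹ = xc hp (rep cs hp.isCartan w x) ((η : k) * a) := by
    clear ha
    refine Subgroup.closure_induction (p := fun w _ => ∃ n : ↥(D.group k), τ n = n ∧ ∀ x, IsRoot cs hp.isCartan x →
      ∃ η : ℤ, (η = 1 ∨ η = -1) ∧ ∀ a : k,
      n * xc hp x a * n⁻¹ = xc hp (rep cs hp.isCartan w x) ((η : k) * a)) ?_ ?_ ?_ ?_ hw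
    · rintro _ ⟨i, hi, rfl⟩
      exact ⟨nc hp k i, (tau_nc hp cs hk r hτ F (hgi i hi) (hx i hi)).1, fun x hx => nact' hp cs hx⟩
    · refine ⟨1, map_one τ, fun x hx => ⟨1, Or.inl rfl, fun a => ?_⟩⟩
      rw [map_one, Module.End.one_apply, one_mul, inv_one, mul_one, Int.cast_one, one_mul]
    · rintro v w - - ⟨m, hm, hm'⟩ ⟨n, hn, hn'⟩
      refine ⟨m * n, by rw [map_mul, hm, hn], fun x hx => ?_⟩
      obtain ⟨η, hη, h1⟩ := hn' x hx
      obtain ⟨η', hη', h2⟩ := hm' _ (hx.act w)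
      refine ⟨η' * η, ?_, fun a => ?_⟩
      · rcases hη with rfl | rfl <;> rcases hη' with rfl | rfl <;> simp
      · rw [rep_mul_apply, Int.cast_mul, mul_assoc (η' : k), ← h2, ← h1]
        group
    · rintro w - ⟨n, hn, hn'⟩
      refine ⟨n⁻¹, by rw [map_inv, hn], fun x hx => ?_⟩
      obtain ⟨η, hη, h1⟩ := hn' _ (hx.act w⁻¹)
      have hηη : (η : k) * η = 1 := by rcases hη with rfl | rfl <;> simp
      refine ⟨η, hη, fun a => ?_⟩
      have h2 := h1 ((η : k) * a)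
      rw [rep_apply_inv, ← mul_assoc, hηη, one_mul] at h2
      rw [← h2]
      group
  obtain ⟨n, hn, h1⟩ := key
  obtain ⟨η, hη, h2⟩ := h1 _ (isRoot_sr cs hp.isCartan j)
  have hηη : (η : k) * η = 1 := by rcases hη with rfl | rfl <;> simp
  have h3 : xc hp (rep cs hp.isCartan w (sr j)) t = n * xc hp (sr j) ((η : k) * t) * n⁻¹ := by
    rw [h2, ← mul_assoc, hηη, one_mul]
  have h4 : ((η : k)) ^ r ^ e = η := by
    have := map_intCast (iterateFrobenius k r e) η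
    rwa [iterateFrobenius_def] at this
  rw [h3, map_mul, map_mul, map_inv, hn, hx j hj, h2, mul_pow, h4, ← mul_assoc, hηη, one_mul]

end Gen

/-! ### the frame -/

section E8

variable {k : Type u} [Field k] [IsAlgClosed k] (hk : LocFin k) (r : ℕ) [Fact r.Prime] [CharP k r]

theorem mem_range_fj : ∀ i : Fin 8, i ∈ Set.range fj ↔ (i = 1 ∨ i = 2 ∨ i = 3 ∨ i = 4) := by
  intro i
  constructor
  · rintro ⟨j, rfl⟩
    rw [fj_apply]
    revert j
    decide
  · rintro (rfl | rfl | rfl | rfl)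
    · exact ⟨0, rfl⟩
    · exact ⟨2, rfl⟩
    · exact ⟨1, rfl⟩
    · exact ⟨3, rfl⟩

theorem sr_mem_DL {i : Fin 8} (hi : i = 1 ∨ i = 2 ∨ i = 3 ∨ i = 4) : (sr i : Fin 8 → ℤ) ∈ DL :=
  PosJ_subset _ (sr_mem_PosJ ((mem_range_fj i).2 hi))

theorem neg_mem_DL {a : Fin 8 → ℤ} (ha : a ∈ DL) : -a ∈ DL := RootsJ.neg ha

theorem xc_mem_Sup {a : Fin 8 → ℤ} (ha : a ∈ DL) (t : k) : xc hp8 a t ∈ RGD.Sup (XX chevE8 8 k) DL :=
  RGD.le_Sup (X := XX chevE8 8 k) ha ((mem_XX8 ha.1).2 ⟨t, rfl⟩)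

theorem nc_mem_Sup {i : Fin 8} (hi : i = 1 ∨ i = 2 ∨ i = 3 ∨ i = 4) : nc hp8 k i ∈ RGD.Sup (XX chevE8 8 k) DL := by
  rw [nc_eq' hp8 i]
  exact mul_mem (mul_mem (xc_mem_Sup (sr_mem_DL hi) 1) (xc_mem_Sup (neg_mem_DL (sr_mem_DL hi)) _))
    (xc_mem_Sup (sr_mem_DL hi) 1)

/-- the representative of `vW` -/
theorem exists_nP : ∃ m ∈ RGD.Sup (XX chevE8 8 k) DL, Rp cs8 (tow hp8 cs8 hk r (k := k)).nsys (Comb.vW cs8) m := by
  have h1 : ∀ i, Rp cs8 (tow hp8 cs8 hk r (k := k)).nsys (cs8.simple i) (nc hp8 k i) := fun i =>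
    rp_simple cs8 (tow hp8 cs8 hk r (k := k)).nsys i
  exact ⟨nc hp8 k 3 * nc hp8 k 2 * nc hp8 k 1 * nc hp8 k 3 * nc hp8 k 4 * nc hp8 k 2,
    mul_mem (mul_mem (mul_mem (mul_mem (mul_mem (nc_mem_Sup (by simp)) (nc_mem_Sup (by simp))) (nc_mem_Sup (by simp)))
      (nc_mem_Sup (by simp))) (nc_mem_Sup (by simp))) (nc_mem_Sup (by simp)),
    ((((((h1 3).mul (h1 2)).mul (h1 1)).mul (h1 3)).mul (h1 4)).mul (h1 2))⟩

theorem vW_mem : Comb.vW cs8 ∈ WJ cs8 (Set.range fj) := by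
  have h1 : ∀ i : Fin 8, (i = 1 ∨ i = 2 ∨ i = 3 ∨ i = 4) → cs8.simple i ∈ WJ cs8 (Set.range fj) := fun i hi =>
    Subgroup.subset_closure ⟨i, (mem_range_fj i).2 hi, rfl⟩
  exact mul_mem (mul_mem (mul_mem (mul_mem (mul_mem (h1 3 (by simp)) (h1 2 (by simp))) (h1 1 (by simp)))
    (h1 3 (by simp))) (h1 4 (by simp))) (h1 2 (by simp))

/-- an additive map fixing the nodes of `D4` fixes `DL` -/
theorem fix_DL {g : (Fin 8 → ℤ) ≃+ (Fin 8 → ℤ)} (hg : ∀ i : Fin 8, (i = 1 ∨ i = 2 ∨ i = 3 ∨ i = 4) → g (sr i) = sr i)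
    {a : Fin 8 → ℤ} (ha : a ∈ DL) : g a = a := by
  have e := SimplyLaced.eq_sum_sr a
  rw [e, map_sum]
  refine Finset.sum_congr rfl fun i _ => ?_
  rw [map_zsmul]
  by_cases hi : i = 1 ∨ i = 2 ∨ i = 3 ∨ i = 4
  · rw [hg i hi]
  · rw [ha.2 i (fun h => hi ((mem_range_fj i).1 h)), zero_smul, zero_smul]

include hk in
/-- **The adapted frame.** -/
theorem exists_frame {e : ℕ} (he : 0 < e) (hZ : Subgroup.center ↥(chevE8.group k) = ⊥) {σ : MulAut ↥(chevE8.group k)}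
    (hσ : IsFrob r e σ) {z₀ k₀ : ↥(chevE8.group k)} (hk₀ : z₀⁻¹ * σ z₀ = k₀) {g₀ : (Fin 8 → ℤ) ≃+ (Fin 8 → ℤ)}
    (F0 : Fr cs8 hp8.isCartan (TT chevE8 k) (XX chevE8 8 k) (MulAut.conj k₀ * σ) g₀) (hsq : ∀ x, g₀ (g₀ x) = -x) :
    ∃ (w : CoxeterMatrix.E₈.Group) (n l k₃ : ↥(chevE8.group k)) (g₃ : (Fin 8 → ℤ) ≃+ (Fin 8 → ℤ)),
      Rp cs8 (tow hp8 cs8 hk r (k := k)).nsys w n ∧ l ∈ LL k ∧ (z₀ * n * l)⁻¹ * σ (z₀ * n * l) = k₃ ∧
      Fr cs8 hp8.isCartan (TT chevE8 k) (XX chevE8 8 k) (MulAut.conj k₃ * σ) g₃ ∧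
      (∀ i : Fin 8, (i = 1 ∨ i = 2 ∨ i = 3 ∨ i = 4) → g₃ (sr i) = sr i) ∧
      (∀ a ∈ DL, ∀ t, (MulAut.conj k₃ * σ) (xc hp8 a t) = xc hp8 a (t ^ r ^ e)) ∧
      g₀ (rep cs8 hp8.isCartan w (sr 1)) = rep cs8 hp8.isCartan w (sr 2) := by
  have hTL := TL_eq (k := k) hp8 hk
  have hXL := XL_eq (k := k) hp8 hk
  have H := tow (k := k) hp8 cs8 hk r
  obtain ⟨w, h0, h1, h2, h3⟩ := Comb.exists_base hp8 cs8 F0.root hsq
  have hw : ∀ j : Fin 8, j = 1 ∨ j = 2 ∨ j = 3 ∨ j = 4 →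
      g₀ (rep cs8 hp8.isCartan w (sr j)) = rep cs8 hp8.isCartan w (rep cs8 hp8.isCartan (Comb.vW cs8) (sr j)) := by
    rintro j (rfl | rfl | rfl | rfl)
    · rw [Comb.rep_vW hp8 cs8, Comb.rf1, h1]
    · rw [Comb.rep_vW hp8 cs8, Comb.rf2, h2]
    · rw [Comb.rep_vW hp8 cs8, Comb.rf0, h0]
    · rw [Comb.rep_vW hp8 cs8, Comb.rf3, h3]
  obtain ⟨n, -, hn⟩ := H.exists_rp w
  obtain ⟨nP, hnP, hnPr⟩ := exists_nP hk r (k := k)
  -- the frame `z₀ n`
  obtain ⟨k₁, hk₁⟩ : ∃ k₁, k₁ = n⁻¹ * k₀ * σ n := ⟨_, rfl⟩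
  have e1 : (z₀ * n)⁻¹ * σ (z₀ * n) = k₁ := by rw [hk₁, ← hk₀, map_mul]; group
  have F1 : Fr cs8 hp8.isCartan (TT chevE8 k) (XX chevE8 8 k) (MulAut.conj k₁ * σ)
      (((repAut cs8 hp8.isCartan w).trans g₀).trans (repAut cs8 hp8.isCartan w⁻¹)) := by
    have a1 := Fr.conj H hn
    have a2 := Fr.conj H hn.inv
    rw [hTL, hXL] at a1 a2
    have a3 := a2.mul (F0.mul a1)
    have e2 : MulAut.conj n⁻¹ * (MulAut.conj k₀ * σ * MulAut.conj n) = MulAut.conj k₁ * σ := by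
      apply MulEquiv.ext
      intro x
      show n⁻¹ * (k₀ * σ (n * x * n⁻¹) * k₀⁻¹) * n⁻¹⁻¹ = k₁ * σ x * k₁⁻¹
      rw [hk₁, map_mul, map_mul, map_inv]
      group
    rw [e2] at a3
    exact a3
  obtain ⟨g₁, hg₁⟩ : ∃ g₁, g₁ = ((repAut cs8 hp8.isCartan w).trans g₀).trans (repAut cs8 hp8.isCartan w⁻¹) := ⟨_, rfl⟩
  rw [← hg₁] at F1
  have hg₁a : ∀ j : Fin 8, j = 1 ∨ j = 2 ∨ j = 3 ∨ j = 4 →
      g₁ (sr j) = rep cs8 hp8.isCartan (Comb.vW cs8) (sr j) := by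
    intro j hj
    rw [hg₁]
    show rep cs8 hp8.isCartan w⁻¹ (g₀ (rep cs8 hp8.isCartan w (sr j))) = _
    rw [hw j hj, rep_inv_apply]
  -- Lang
  have F2 : Fr cs8 hp8.isCartan (TT chevE8 k) (XX chevE8 8 k) (MulAut.conj (nP⁻¹ * k₁) * σ)
      (g₁.trans (repAut cs8 hp8.isCartan (Comb.vW cs8)⁻¹)) := by
    have a2 := Fr.conj H hnPr.inv
    rw [hTL, hXL] at a2
    have a3 := a2.mul F1
    rwa [← mul_assoc, ← map_mul] at a3
  obtain ⟨g₂, hg₂⟩ : ∃ g₂, g₂ = g₁.trans (repAut cs8 hp8.isCartan (Comb.vW cs8)⁻¹) := ⟨_, rfl⟩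
  rw [← hg₂] at F2
  have hg₂a : ∀ j : Fin 8, j = 1 ∨ j = 2 ∨ j = 3 ∨ j = 4 → g₂ (sr j) = sr j := by
    intro j hj
    rw [hg₂]
    show rep cs8 hp8.isCartan (Comb.vW cs8)⁻¹ (g₁ (sr j)) = _
    rw [hg₁a j hj, rep_inv_apply]
  have hg₁D : ∀ a ∈ DL, g₁ a ∈ DL := by
    intro a ha
    have e2 : g₁ a = rep cs8 hp8.isCartan (Comb.vW cs8) (g₂ a) := by
      rw [hg₂]
      show g₁ a = rep cs8 hp8.isCartan (Comb.vW cs8) (rep cs8 hp8.isCartan (Comb.vW cs8)⁻¹ (g₁ a))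
      rw [rep_apply_inv]
    rw [e2, fix_DL hg₂a ha]
    exact RootsJ.act vW_mem ha
  obtain ⟨l₁, hl₁, hl₁'⟩ := lang_fr hp8 cs8 he (hσ.conj_mul k₁) F1 (S := DL) (fun a ha => ha.1) hg₁D
    (m := nP⁻¹) (inv_mem hnP)
  have e3 : (z₀ * n * l₁)⁻¹ * σ (z₀ * n * l₁) = nP⁻¹ * k₁ := by
    have a1 : (MulAut.conj k₁ * σ) l₁ = k₁ * σ l₁ * k₁⁻¹ := rfl
    have a2 : (z₀ * n * l₁)⁻¹ * σ (z₀ * n * l₁) = l₁⁻¹ * ((z₀ * n)⁻¹ * σ (z₀ * n)) * σ l₁ := by
      rw [map_mul σ (z₀ * n) l₁]; group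
    rw [a2, e1, hl₁', a1]
    group
  -- the torus
  choose c hc hcx using fun j : Fin 8 => fr_xc hp8 cs8 (hσ.conj_mul (nP⁻¹ * k₁)) F2 (isRoot_sr cs8 hp8.isCartan j)
  obtain ⟨u, hu, huc⟩ := H696.GmnTor.exists_tt hp8 cs8 (k := k) H129.TorusChar.invC_E8 (by norm_num)
    (fun j => (c j)⁻¹) (fun j => inv_ne_zero (hc j))
  have huj : ∀ j : Fin 8, ch hp8 (sr j) u = (c j)⁻¹ := by
    intro j
    rw [huc _ (isRoot_sr cs8 hp8.isCartan j), Finset.prod_eq_single j]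
    · rw [sr_self, zpow_one]
    · intro i _ hi
      rw [sr_ne hi, zpow_zero]
    · exact fun h => absurd (Finset.mem_univ j) h
  obtain ⟨s, hs, hus⟩ := torus_lang hp8 cs8 hk hZ he (hσ.conj_mul (nP⁻¹ * k₁)) F2 hu
  have e4 : (z₀ * n * (l₁ * s))⁻¹ * σ (z₀ * n * (l₁ * s)) = u * (nP⁻¹ * k₁) := by
    have a1 : (MulAut.conj (nP⁻¹ * k₁) * σ) s = (nP⁻¹ * k₁) * σ s * (nP⁻¹ * k₁)⁻¹ := rfl
    have a2 : (z₀ * n * (l₁ * s))⁻¹ * σ (z₀ * n * (l₁ * s)) = s⁻¹ * ((z₀ * n * l₁)⁻¹ * σ (z₀ * n * l₁)) * σ s := by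
      rw [← mul_assoc, map_mul σ (z₀ * n * l₁) s]; group
    rw [a2, e3, hus, a1]
    group
  have F3 : Fr cs8 hp8.isCartan (TT chevE8 k) (XX chevE8 8 k) (MulAut.conj (u * (nP⁻¹ * k₁)) * σ)
      (g₂.trans (repAut cs8 hp8.isCartan 1)) := by
    have a2 := Fr.conj H (rp_of_mem (cs := cs8) (hN := H.nsys) (t := u) (by rw [hTL]; exact hu))
    rw [hTL, hXL] at a2
    have a3 := a2.mul F2
    rwa [← mul_assoc, ← map_mul] at a3
  have hg₃a : ∀ j : Fin 8, j = 1 ∨ j = 2 ∨ j = 3 ∨ j = 4 → (g₂.trans (repAut cs8 hp8.isCartan 1)) (sr j) = sr j := by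
    intro j hj
    show rep cs8 hp8.isCartan 1 (g₂ (sr j)) = _
    rw [map_one, Module.End.one_apply, hg₂a j hj]
  have hx : ∀ j : Fin 8, (j = 1 ∨ j = 2 ∨ j = 3 ∨ j = 4) → ∀ t,
      (MulAut.conj (u * (nP⁻¹ * k₁)) * σ) (xc hp8 (sr j) t) = xc hp8 (sr j) (t ^ r ^ e) := by
    intro j hj t
    have a1 : (MulAut.conj (u * (nP⁻¹ * k₁)) * σ) (xc hp8 (sr j) t) =
        u * (MulAut.conj (nP⁻¹ * k₁) * σ) (xc hp8 (sr j) t) * u⁻¹ := by
      rw [map_mul MulAut.conj, mul_assoc]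
      rfl
    rw [a1, hcx j, hg₂a j hj, ch_comm hp8 cs8 hk r (isRoot_sr cs8 hp8.isCartan j) hu, huj, ← mul_assoc,
      inv_mul_cancel₀ (hc j), one_mul]
  refine ⟨w, n, l₁ * s, u * (nP⁻¹ * k₁), _, hn, mul_mem (Sup_le_LL hl₁) (TT_le_LL hs), e4, F3, hg₃a, ?_, h1⟩
  intro a ha t
  exact tau_RJ hp8 cs8 hk r (hσ.conj_mul _) F3 (J := Set.range fj) (fun i hi => hg₃a i ((mem_range_fj i).1 hi))
    (fun i hi => hx i ((mem_range_fj i).1 hi)) ha t

end E8

end Cfsg.Agent.H230.X3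

/-!
# The exceptional toral case of `E8` (S2187 X3, helper230)

`m : MData hp r q K₀` of type `E8`, `p` odd, `p ∣ q ^ 2 + 1`, `E` toral.

* `x3` : `GamY m.ι p E = ⊤` from `Gen p (chevD4.group F)`, `|F| = q`.
-/

set_option autoImplicit false
set_option linter.unusedSectionVars false
set_option linter.unusedVariables false

namespace Cfsg.Agent.H230.X3

open CoxeterSystem Cfsg Cfsg.Lie Cfsg.Lie.ChevalleyDatum
open Cfsg.Agent.ChevalleyStructure Cfsg.Agent.ChevalleyStructure.Elts Cfsg.Agent.ChevalleyStructure.CoxeterGeom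
  Cfsg.Agent.ChevalleyStructure.CoxeterGeomTypes Cfsg.Agent.ChevalleyStructure.NPerm
open Cfsg.Agent.Tits.Roots Cfsg.Agent.Tits.Core Cfsg.Agent.Nodes Cfsg.Agent.Nodes.Reps Cfsg.Agent.Nodes.BNOf
  Cfsg.Agent.Nodes.RGDChev Cfsg.Agent.Nodes.Bruhat Cfsg.Agent.Nodes.StabComb Cfsg.Agent.Nodes.SubComb
  Cfsg.Agent.Nodes.Sub Cfsg.Agent.Nodes.LeviStd Cfsg.Agent.Nodes.ClsSub
open Cfsg.Agent.KFacts.RgdField Cfsg.Agent.KFacts.RgdChevCoord
open Cfsg.Agent.BpExc Cfsg.Agent.BpExc.TorCent Cfsg.Agent.BpExc.TorChev Cfsg.Agent.BpExc.Tow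
open Cfsg.Agent.BpExc.TowChev Cfsg.Agent.BpExc.Fr Cfsg.Agent.BpExc.LangFr Cfsg.Agent.GpExc.Field
open Cfsg.Agent.BpExc.NChev Cfsg.Agent.BpExc.NInst Cfsg.Agent.BpExc.Pair
open Cfsg.Agent.H696.GmnToral Cfsg.Agent.BpExc.HX Cfsg.Agent.Nodes.Coroot
open Cfsg.Agent.H225.Gen Cfsg.Agent.H818.Gen
open Cfsg.Agent.H818.StrP.UTab Cfsg.Agent.H818.StrP.UAct Cfsg.Agent.H123.ExcComb
open Cfsg.Agent.H469.Exc Cfsg.Agent.H469.Exc.SigFr Cfsg.Agent.H316.U3 Cfsg.Agent.H316.U6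

universe u v

/-! ### orders -/

theorem card_ge {A G' : Type*} [Group A] [Group G'] (X : Subgroup A) [Finite ↥X] {p : ℕ} (κ : G' →* A) (t₀ t₁ : G')
    (hcomm : t₀ * t₁ = t₁ * t₀) (hX : ∀ i j : ℕ, κ (t₀ ^ i * t₁ ^ j) ∈ X)
    (hinj : ∀ i j : ℤ, κ (t₀ ^ i * t₁ ^ j) = 1 → (p : ℤ) ∣ i ∧ (p : ℤ) ∣ j) : p ^ 2 ≤ Nat.card ↥X := by
  have h0 : Nat.card (Fin p × Fin p) = p ^ 2 := by rw [Nat.card_prod, Nat.card_fin, sq]
  rw [← h0]
  refine Nat.card_le_card_of_injective (fun x : Fin p × Fin p => (⟨κ (t₀ ^ (x.1 : ℕ) * t₁ ^ (x.2 : ℕ)), hX _ _⟩ : ↥X)) ?_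
  rintro ⟨i, j⟩ ⟨i', j'⟩ h
  have h1 : κ (t₀ ^ (i : ℕ) * t₁ ^ (j : ℕ)) = κ (t₀ ^ (i' : ℕ) * t₁ ^ (j' : ℕ)) := congrArg Subtype.val h
  have hc : Commute t₀ t₁ := hcomm
  have h2 : κ (t₀ ^ ((i : ℤ) - i') * t₁ ^ ((j : ℤ) - j')) = 1 := by
    have e : t₀ ^ ((i : ℤ) - i') * t₁ ^ ((j : ℤ) - j') =
        (t₀ ^ (i : ℕ) * t₁ ^ (j : ℕ)) * (t₀ ^ (i' : ℕ) * t₁ ^ (j' : ℕ))⁻¹ := by
      rw [zpow_sub, zpow_sub, zpow_natCast, zpow_natCast, zpow_natCast, zpow_natCast, mul_inv_rev]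
      have h3 : (t₀ ^ (i' : ℕ))⁻¹ * (t₁ ^ (j : ℕ) * (t₁ ^ (j' : ℕ))⁻¹) =
          (t₁ ^ (j : ℕ) * (t₁ ^ (j' : ℕ))⁻¹) * (t₀ ^ (i' : ℕ))⁻¹ := by
        have h4 : Commute (t₀ ^ (i' : ℕ))⁻¹ (t₁ ^ (j : ℕ) * (t₁ ^ (j' : ℕ))⁻¹) :=
          ((hc.pow_pow _ _).inv_left).mul_right ((hc.pow_pow _ _).inv_inv)
        exact h4.eq
      rw [mul_assoc, h3]
      group
    rw [e, map_mul, map_inv, h1, mul_inv_cancel]
  obtain ⟨h3, h4⟩ := hinj _ _ h2
  have h5 : (i : ℤ) - i' = 0 := by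
    obtain ⟨c, hc⟩ := h3
    have a1 := i.2
    have a2 := i'.2
    have a3 : (p : ℤ) * c < p := by omega
    have a4 : -(p : ℤ) < p * c := by omega
    have hp0 : (0 : ℤ) < p := by omega
    have a5 : c < 1 := by
      by_contra hcon
      push Not at hcon
      nlinarith only [hc, a1, hcon]
    have a6 : -1 < c := by
      by_contra hcon
      push Not at hcon
      nlinarith only [hc, a2, hcon]
    have : c = 0 := by omega
    rw [hc, this, mul_zero]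
  have h6 : (j : ℤ) - j' = 0 := by
    obtain ⟨c, hc⟩ := h4
    have a1 := j.2
    have a2 := j'.2
    have a3 : (p : ℤ) * c < p := by omega
    have a4 : -(p : ℤ) < p * c := by omega
    have hp0 : (0 : ℤ) < p := by omega
    have a5 : c < 1 := by
      by_contra hcon
      push Not at hcon
      nlinarith only [hc, a1, hcon]
    have a6 : -1 < c := by
      by_contra hcon
      push Not at hcon
      nlinarith only [hc, a2, hcon]
    have : c = 0 := by omega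
    rw [hc, this, mul_zero]
  have e1 : i = i' := Fin.ext (by omega)
  have e2 : j = j' := Fin.ext (by omega)
  rw [e1, e2]

section E8

variable {k : Type u} [Field k] [IsAlgClosed k] (hk : LocFin k) (r : ℕ) [Fact r.Prime] [CharP k r] {e : ℕ}
  {τ : MulAut ↥(chevE8.group k)} (hτ : IsFrob r e τ) {g₀ : (Fin 8 → ℤ) ≃+ (Fin 8 → ℤ)}
  (F0 : Fr cs8 hp8.isCartan (TT chevE8 k) (XX chevE8 8 k) τ g₀) (hsq : ∀ x, g₀ (g₀ x) = -x)
  (hZ : Subgroup.center ↥(chevE8.group k) = ⊥)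

include hk hτ F0 hsq hZ in
/-- fixed torus elements of order `p` -/
theorem exists_td {p : ℕ} (hdvd : p ∣ (r ^ e) ^ 2 + 1) {ζ : k} (hζ : ζ ^ p = 1) (hζ0 : ζ ≠ 0) {d : Fin 8 → ℤ}
    (hd : IsRoot cs8 hp8.isCartan d) : ∃ t ∈ TT chevE8 k, t ^ p = 1 ∧ τ t = t ∧
      ∀ a, IsRoot cs8 hp8.isCartan a → ch hp8 a t =
        ζ ^ (cpr cs8 hp8.isCartan a d + ((r ^ e : ℕ) : ℤ) * cpr cs8 hp8.isCartan a (g₀ d)) := by
  have := finite_W hp8 cs8
  have hgd := (F0.root d).2 hd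
  obtain ⟨χ, hχ⟩ : ∃ χ : (Fin 8 → ℤ) → k, ∀ x, χ x =
      ζ ^ (cpr cs8 hp8.isCartan x d + ((r ^ e : ℕ) : ℤ) * cpr cs8 hp8.isCartan x (g₀ d)) := ⟨_, fun x => rfl⟩
  have hadd : ∀ x y, χ (x + y) = χ x * χ y := by
    intro x y
    rw [hχ, hχ, hχ, ← zpow_add₀ hζ0, cpr_add cs8 _ _ _ hd, cpr_add cs8 _ _ _ hgd]
    congr 1
    ring
  have hmc : H129.TorusChar.IsMC χ := by
    refine ⟨?_, hadd⟩
    have h1 := hadd 0 0
    rw [add_zero] at h1
    have h2 : χ 0 ≠ 0 := by rw [hχ]; exact zpow_ne_zero _ hζ0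
    exact (mul_eq_left₀ h2).1 h1.symm
  obtain ⟨t, ht, hc⟩ := H129.TorusChar.exists_cX hp8 (k := k) H129.TorusChar.invC_E8 (by norm_num)
    hmc (fun i => IsAlgClosed.exists_pow_nat_eq _ (by norm_num))
  have hch : ∀ a, IsRoot cs8 hp8.isCartan a → ch hp8 a t =
        ζ ^ (cpr cs8 hp8.isCartan a d + ((r ^ e : ℕ) : ℤ) * cpr cs8 hp8.isCartan a (g₀ d)) := by
    intro a ha
    rw [← H129.TorusChar.cX_root hp8 cs8 ht ha, hc, hχ]
  refine ⟨t, ht, ?_, ?_, hch⟩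
  · refine ext_TT hp8 cs8 hk r hZ (pow_mem ht p) (one_mem _) fun a ha => ?_
    rw [_root_.Cfsg.Agent.H696.GmnToral.ch_pow hp8 cs8 hk r ha ht, ch_one hp8 cs8 hk r ha, hch a ha, ← zpow_natCast, ← zpow_mul, mul_comm, zpow_mul,
      zpow_natCast, hζ, one_zpow]
  · refine ext_TT hp8 cs8 hk r hZ ((F0.tor t).2 ht) ht fun b hb => ?_
    obtain ⟨a, rfl⟩ := g₀.surjective b
    have ha := (F0.root a).1 hb
    rw [fr_ch hp8 cs8 hk hτ F0 ha ht, hch a ha, hch _ hb]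
    have h1 : cpr cs8 hp8.isCartan (g₀ a) (g₀ d) = cpr cs8 hp8.isCartan a d := cpr_g (fun a => F0.root a) ha hd
    have h2 : cpr cs8 hp8.isCartan (g₀ a) d = -cpr cs8 hp8.isCartan a (g₀ d) := by
      have h3 := cpr_g (h := hp8.isCartan) (cs := cs8) (fun a => F0.root a) hb hd
      rw [hsq, cpr_neg cs8 _ _ hgd] at h3
      exact h3.symm
    rw [h1, h2, ← zpow_natCast, ← zpow_mul]
    obtain ⟨c, hc⟩ := hdvd
    have hc' : (((r ^ e : ℕ) : ℤ)) ^ 2 + 1 = p * c := by exact_mod_cast hc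
    have h4 : (cpr cs8 hp8.isCartan a d + ((r ^ e : ℕ) : ℤ) * cpr cs8 hp8.isCartan a (g₀ d)) * ((r ^ e : ℕ) : ℤ) =
        (-cpr cs8 hp8.isCartan a (g₀ d) + ((r ^ e : ℕ) : ℤ) * cpr cs8 hp8.isCartan a d) +
          (p : ℤ) * (c * cpr cs8 hp8.isCartan a (g₀ d)) := by
      rw [← mul_assoc, ← hc']
      ring
    rw [h4, zpow_add₀ hζ0, zpow_mul ζ (p : ℤ), zpow_natCast, hζ, one_zpow, mul_one]

include hk hτ F0 hsq hZ in
/-- the image of the `p`-torsion of the torus in the quotient of the Levi subgroup -/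
theorem card_image {p : ℕ} [hpp : Fact p.Prime] (hp2 : p ≠ 2) (hpr : p ≠ r) (hdvd : p ∣ (r ^ e) ^ 2 + 1)
    {w : CoxeterMatrix.E₈.Group} {n : ↥(chevE8.group k)} (hn : Rp cs8 (tow hp8 cs8 hk r (k := k)).nsys w n)
    (hw : g₀ (rep cs8 hp8.isCartan w (sr 1)) = rep cs8 hp8.isCartan w (sr 2)) {l : ↥(chevE8.group k)} (hl : l ∈ LL k)
    (X : Subgroup ↥(chevD4.group k)) [Finite ↥X]
    (hX : ∀ t ∈ TT chevE8 k, t ^ p = 1 → τ t = t → ∀ h : l⁻¹ * n⁻¹ * t * (l⁻¹ * n⁻¹)⁻¹ ∈ LL k, piL ⟨_, h⟩ ∈ X) :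
    p ^ 2 ≤ Nat.card ↥X := by
  have := finite_W hp8 cs8
  have hpp' := hpp.out
  have hrr : r.Prime := Fact.out
  have hTL := TL_eq (k := k) hp8 hk
  have hXL := XL_eq (k := k) hp8 hk
  have H := tow (k := k) hp8 cs8 hk r
  have C := coordsL (k := k) hp8 cs8 hk r
  have C' : Coords cs8 hp8.isCartan (TL (Tj hp8 (k := k))) (nc hp8 k) (XL (Xj hp8 (k := k))) (xc hp8) (ch hp8) := by
    rw [hTL, hXL]; exact C
  -- a primitive root of unity
  have hne : NeZero ((p : ℕ) : k) := ⟨fun h => by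
    have h1 := (CharP.cast_eq_zero_iff k r p).1 h
    exact hpr ((Nat.prime_dvd_prime_iff_eq hrr hpp').1 h1).symm⟩
  obtain ⟨ζ, hζ⟩ := HasEnoughRootsOfUnity.exists_primitiveRoot k p
  have hζ1 := hζ.pow_eq_one
  have hζ0 : ζ ≠ 0 := hζ.ne_zero hpp'.ne_zero
  -- the homomorphism
  have hnT : ∀ t ∈ TT chevE8 k, n⁻¹ * t * n ∈ TT chevE8 k := by
    intro t ht
    have h1 := hn.inv.mem_normalizer
    rw [TL_eq hp8 hk] at h1
    have h2 := (Subgroup.mem_normalizer_iff.1 h1 t).1 ht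
    rwa [inv_inv] at h2
  have hm : ∀ t ∈ TT chevE8 k, l⁻¹ * n⁻¹ * t * (l⁻¹ * n⁻¹)⁻¹ ∈ LL k := by
    intro t ht
    have e1 : l⁻¹ * n⁻¹ * t * (l⁻¹ * n⁻¹)⁻¹ = l⁻¹ * (n⁻¹ * t * n) * l := by group
    rw [e1]
    exact mul_mem (mul_mem (inv_mem hl) (TT_le_LL (hnT t ht))) hl
  obtain ⟨κ, hκ⟩ : ∃ κ : ↥(TT chevE8 k) →* ↥(chevD4.group k), ∀ t (h : l⁻¹ * n⁻¹ * t.1 * (l⁻¹ * n⁻¹)⁻¹ ∈ LL k),
      κ t = piL ⟨_, h⟩ :=
    ⟨piL.comp (((MulAut.conj (l⁻¹ * n⁻¹)).toMonoidHom.comp (TT chevE8 k).subtype).codRestrict (LL k)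
      (fun t => hm t.1 t.2)), fun t h => rfl⟩
  have hker : ∀ t : ↥(TT chevE8 k), κ t = 1 → ∀ j : Fin 8, (j = 1 ∨ j = 2 ∨ j = 3 ∨ j = 4) →
      ch hp8 (rep cs8 hp8.isCartan w (sr j)) t.1 = 1 := by
    intro t ht j hj
    have h0 := hnT t.1 t.2
    obtain ⟨t', ht'⟩ : ∃ t', t' = n⁻¹ * t.1 * n := ⟨_, rfl⟩
    rw [← ht'] at h0
    have h1 : piL ⟨t', TT_le_LL h0⟩ = 1 := by
      have h2 := hκ t (hm t.1 t.2)
      have e1 : (⟨l⁻¹ * n⁻¹ * t.1 * (l⁻¹ * n⁻¹)⁻¹, hm t.1 t.2⟩ : ↥(LL k)) =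
          (⟨l, hl⟩ : ↥(LL k))⁻¹ * ⟨t', TT_le_LL h0⟩ * ⟨l, hl⟩ := by
        apply Subtype.ext
        show l⁻¹ * n⁻¹ * t.1 * (l⁻¹ * n⁻¹)⁻¹ = l⁻¹ * t' * l
        rw [ht']
        group
      simp only [e1, map_mul, map_mul, map_inv, ht] at h2
      have h3 : piL ⟨t', TT_le_LL h0⟩ = piL ⟨l, hl⟩ * ((piL ⟨l, hl⟩)⁻¹ * piL ⟨t', TT_le_LL h0⟩ * piL ⟨l, hl⟩) *
          (piL ⟨l, hl⟩)⁻¹ := by group
      rw [h3, ← h2]
      group
    obtain ⟨-, h2⟩ := (ker_piL hk r).1 h1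
    have hjr := isRoot_sr cs8 hp8.isCartan j
    have h3 : ch hp8 (sr j) t' = 1 := by
      obtain ⟨s, hs⟩ := mem_DL.1 (sr_mem_DL hj)
      rw [hs]
      exact h2 s
    have h4 := C'.chi_rp H.nsys hn hjr (t := t') (by rw [hTL]; exact h0)
    have e2 : n * t' * n⁻¹ = t.1 := by rw [ht']; group
    rw [e2] at h4
    rw [h4, h3]
  -- the elements
  have h3r := (isRoot_sr cs8 hp8.isCartan 3).act w
  have h1r := (isRoot_sr cs8 hp8.isCartan 1).act w
  have h2r := (isRoot_sr cs8 hp8.isCartan 2).act w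
  obtain ⟨t₀, ht₀, ht₀p, ht₀τ, hc₀⟩ := exists_td hk r hτ F0 hsq hZ hdvd hζ1 hζ0 h3r
  obtain ⟨t₁, ht₁, ht₁p, ht₁τ, hc₁⟩ := exists_td hk r hτ F0 hsq hZ hdvd hζ1 hζ0 h1r
  have hs : ∀ i j : Fin 8, cpr cs8 hp8.isCartan (rep cs8 hp8.isCartan w (sr i)) (rep cs8 hp8.isCartan w (sr j)) =
      cartanOf chevE8 8 j i := fun i j => by
    rw [cpr_rep cs8 _ _ _ (isRoot_sr cs8 hp8.isCartan j), cpr_sr, pairing_sr']
  have c33 : cartanOf chevE8 8 3 3 = 2 := by decide +kernel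
  have c31 : cartanOf chevE8 8 3 1 = -1 := by decide +kernel
  have c13 : cartanOf chevE8 8 1 3 = -1 := by decide +kernel
  have c23 : cartanOf chevE8 8 2 3 = -1 := by decide +kernel
  have c32 : cartanOf chevE8 8 3 2 = -1 := by decide +kernel
  have c11 : cartanOf chevE8 8 1 1 = 2 := by decide +kernel
  have c21 : cartanOf chevE8 8 2 1 = 0 := by decide +kernel
  have orth : cpr cs8 hp8.isCartan (rep cs8 hp8.isCartan w (sr 3)) (g₀ (rep cs8 hp8.isCartan w (sr 3))) = 0 := by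
    have hg3 := (F0.root _).2 h3r
    have h1 := cpr_g (h := hp8.isCartan) (cs := cs8) (fun a => F0.root a) h3r hg3
    rw [hsq, cpr_neg_right cs8 _ _ h3r, SimplyLaced.cpr_symm cs8 _ Comb.no4 Comb.no6 hg3 h3r] at h1
    omega
  have k1 : cpr cs8 hp8.isCartan (rep cs8 hp8.isCartan w (sr 1)) (g₀ (rep cs8 hp8.isCartan w (sr 3))) = 1 := by
    have hg3 := (F0.root _).2 h3r
    have h1 := cpr_g (h := hp8.isCartan) (cs := cs8) (fun a => F0.root a) h1r hg3
    rw [hsq, cpr_neg_right cs8 _ _ h3r, hw, hs, c32] at h1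
    rw [← h1, neg_neg]
  -- the characters
  have v00 := hc₀ _ h3r
  have v01 := hc₀ _ h1r
  have v10 := hc₁ _ h3r
  have v11 := hc₁ _ h1r
  rw [hs, c33, orth, mul_zero, add_zero] at v00
  rw [hs, c31, k1, mul_one] at v01
  rw [hs, c13, hw, hs, c23] at v10
  rw [hs, c11, hw, hs, c21, mul_zero, add_zero] at v11
  have hcomm : t₀ * t₁ = t₁ * t₀ := TT_comm ht₀ ht₁
  refine card_ge X κ ⟨t₀, ht₀⟩ ⟨t₁, ht₁⟩ (Subtype.ext hcomm) ?_ ?_
  · intro i j
    have hmem := mul_mem (pow_mem ht₀ i) (pow_mem ht₁ j)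
    rw [hκ _ (hm _ (by exact hmem))]
    refine hX _ hmem ?_ ?_ (hm _ hmem)
    · have hc : Commute (t₀ ^ i) (t₁ ^ j) := (show Commute t₀ t₁ from hcomm).pow_pow i j
      rw [hc.mul_pow, ← pow_mul, ← pow_mul, mul_comm i, mul_comm j, pow_mul, pow_mul, ht₀p, ht₁p, one_pow, one_pow, one_mul]
    · rw [map_mul, map_pow, map_pow, ht₀τ, ht₁τ]
  · intro i j hij
    have hz0 := zpow_mem ht₀ i
    have hz1 := zpow_mem ht₁ j
    have a3 := hker _ hij 3 (by simp)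
    have a1 := hker _ hij 1 (by simp)
    have b3 : ch hp8 (rep cs8 hp8.isCartan w (sr 3)) (t₀ ^ i * t₁ ^ j) = 1 := a3
    have b1 : ch hp8 (rep cs8 hp8.isCartan w (sr 1)) (t₀ ^ i * t₁ ^ j) = 1 := a1
    rw [ch_mul hp8 cs8 hk r h3r hz0 hz1, ch_zpow hp8 cs8 hk r h3r ht₀, ch_zpow hp8 cs8 hk r h3r ht₁, v00, v10,
      ← zpow_mul, ← zpow_mul, ← zpow_add₀ hζ0, hζ.zpow_eq_one_iff_dvd] at b3
    rw [ch_mul hp8 cs8 hk r h1r hz0 hz1, ch_zpow hp8 cs8 hk r h1r ht₀, ch_zpow hp8 cs8 hk r h1r ht₁, v01, v11,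
      ← zpow_mul, ← zpow_mul, ← zpow_add₀ hζ0, hζ.zpow_eq_one_iff_dvd] at b1
    have hdvd' : (p : ℤ) ∣ ((r ^ e : ℕ) : ℤ) ^ 2 + 1 := by exact_mod_cast hdvd
    obtain ⟨Q, hQ⟩ : ∃ Q : ℤ, Q = ((r ^ e : ℕ) : ℤ) := ⟨_, rfl⟩
    rw [← hQ] at b3 b1 hdvd'
    have hpZ : Prime (p : ℤ) := Nat.prime_iff_prime_int.1 hpp'
    have h2 : ¬ (p : ℤ) ∣ 2 := by
      intro h
      have h' : p ∣ 2 := by exact_mod_cast h
      exact hp2 ((Nat.prime_dvd_prime_iff_eq hpp' Nat.prime_two).1 h')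
    have e1 : (p : ℤ) ∣ 2 * i := by
      have h3 := dvd_sub (dvd_add (Dvd.dvd.mul_left b3 2) (Dvd.dvd.mul_left b1 (1 + Q))) (Dvd.dvd.mul_left hdvd' i)
      have e : 2 * (2 * i + (-1 + Q * -1) * j) + (1 + Q) * ((-1 + Q) * i + 2 * j) - i * (Q ^ 2 + 1) = 2 * i := by ring
      rwa [e] at h3
    have e2 : (p : ℤ) ∣ 2 * j := by
      have h3 := dvd_sub (dvd_sub (Dvd.dvd.mul_left b1 2) (Dvd.dvd.mul_left b3 (Q - 1))) (Dvd.dvd.mul_left hdvd' j)
      have e : 2 * ((-1 + Q) * i + 2 * j) - (Q - 1) * (2 * i + (-1 + Q * -1) * j) - j * (Q ^ 2 + 1) = 2 * j := by ring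
      rwa [e] at h3
    exact ⟨(hpZ.dvd_or_dvd e1).resolve_left h2, (hpZ.dvd_or_dvd e2).resolve_left h2⟩

end E8

section Main

variable {r q : ℕ} [hr : Fact r.Prime] {K₀ : Type v} [Group K₀]

theorem center_D4 (k : Type u) [Field k] [IsAlgClosed k] : Subgroup.center ↥(chevD4.group k) = ⊥ :=
  H496.Gen.T2.center_group hp4 (ne_of_apply_ne ChevalleyDatum.nroots (by decide +kernel)) k

/-- **The exceptional case.** -/
theorem exc (m : MData hp8 r q K₀) [IsSimpleGroup K₀] (hq : 3 ≤ q) {p : ℕ} [hpp : Fact p.Prime] (hp2 : p ≠ 2)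
    (hpq : p ∣ q ^ 2 + 1) (hG : ∀ (F : Type) [Field F] [Fintype F], Fintype.card F = q → Gen p ↥(chevD4.group F))
    {E : Subgroup ↥(chevE8.group (KK r))} (hE : IsElementaryAbelian p E) (hσ : ∀ y ∈ E, m.σ y = y)
    (hc : p ≤ Nat.card ↥E)
    (hex : H496.Gen.T2.ExcFrame cs8 hp8 m.σ m.g (locFin r) r E) : GamY m.ι p E = ⊤ := by
  have hpp' := hpp.out
  have hrr : r.Prime := hr.out
  have hk := locFin r
  have hmq := m.hq
  have hme := m.he
  have hpr : p ≠ r := by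
    rintro rfl
    have h1 : p ∣ q := by rw [← hmq]; exact dvd_pow_self p hme.ne'
    have h2 : p ∣ q ^ 2 := dvd_pow h1 two_ne_zero
    have h3 := (Nat.dvd_add_right h2).1 hpq
    exact hpp'.one_lt.ne' (Nat.dvd_one.1 h3)
  have hpq1 : Nat.Coprime p (q - 1) := by
    rw [Nat.Prime.coprime_iff_not_dvd hpp']
    intro h1
    have h2 : q ^ 2 + 1 = (q - 1) * (q + 1) + 2 := by
      obtain ⟨a, rfl⟩ : ∃ a, q = a + 1 := ⟨q - 1, by omega⟩
      rw [Nat.add_sub_cancel]; ring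
    rw [h2] at hpq
    have h3 := (Nat.dvd_add_right (Dvd.dvd.mul_right h1 (q + 1))).1 hpq
    exact hp2 ((Nat.prime_dvd_prime_iff_eq hpp' Nat.prime_two).1 h3)
  have hqr : Nat.Coprime r (q - 1) := by
    rw [Nat.Prime.coprime_iff_not_dvd hrr]
    intro h1
    have h2 : r ∣ q := by rw [← hmq]; exact dvd_pow_self r hme.ne'
    have h3 : r ∣ 1 := by
      have h4 := Nat.dvd_sub h2 h1
      rwa [Nat.sub_sub_self (by omega)] at h4
    exact hrr.one_lt.ne' (Nat.dvd_one.1 h3)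
  -- the field
  obtain ⟨F, iF, iFt, hF, ⟨f⟩⟩ : ∃ (F : Type) (_ : Field F) (_ : Fintype F), Fintype.card F = q ∧
      Nonempty (F →+* KK r) := by
    let iFF : Fintype (GaloisField r m.e) := Fintype.ofFinite _
    refine ⟨GaloisField r m.e, inferInstance, iFF, ?_, ?_⟩
    · rw [← Nat.card_eq_fintype_card, GaloisField.card r m.e hme.ne', hmq]
    · exact RowsUntw.exists_emb r (GaloisField r m.e)
  -- the frame
  obtain ⟨-, z, c, w₀, hfrm, -, hsq, -⟩ := hex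
  have hZ : Subgroup.center ↥(chevE8.group (KK r)) = ⊥ := center_KK hi_E8 r
  obtain ⟨g₀, hg₀⟩ : ∃ g₀, g₀ = m.g.trans (repAut cs8 hp8.isCartan w₀) := ⟨_, rfl⟩
  have F0 : Fr cs8 hp8.isCartan (TT chevE8 (KK r)) (XX chevE8 8 (KK r)) (MulAut.conj c * m.σ) g₀ := by
    rw [hg₀]; exact hfrm.fr
  rw [← hg₀] at hsq
  have hc0 : z⁻¹ * m.σ z = c := hfrm.eq
  -- the group `E₄`
  obtain ⟨E₄, hE₄⟩ : ∃ E₄ : Subgroup ↥(chevE8.group (KK r)), ∀ y, y ∈ E₄ ↔
      m.σ y = y ∧ z⁻¹ * y * z ∈ TT chevE8 (KK r) ∧ y ^ p = 1 := by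
    have hcom : ∀ a b, z⁻¹ * a * z ∈ TT chevE8 (KK r) → z⁻¹ * b * z ∈ TT chevE8 (KK r) → Commute a b := by
      intro a b ha hb
      have h1 := TT_comm ha hb
      have e1 : a * b = z * (z⁻¹ * a * z * (z⁻¹ * b * z)) * z⁻¹ := by group
      have e2 : b * a = z * (z⁻¹ * b * z * (z⁻¹ * a * z)) * z⁻¹ := by group
      show a * b = b * a
      rw [e1, e2, h1]
    refine ⟨⟨⟨⟨{y | m.σ y = y ∧ z⁻¹ * y * z ∈ TT chevE8 (KK r) ∧ y ^ p = 1}, ?_⟩, ?_⟩, ?_⟩, fun y => Iff.rfl⟩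
    · rintro a b ⟨ha, ha', ha''⟩ ⟨hb, hb', hb''⟩
      refine ⟨by rw [map_mul, ha, hb], ?_, ?_⟩
      · have e : z⁻¹ * (a * b) * z = (z⁻¹ * a * z) * (z⁻¹ * b * z) := by group
        rw [e]; exact mul_mem ha' hb'
      · rw [(hcom a b ha' hb').mul_pow, ha'', hb'', one_mul]
    · exact ⟨map_one _, by rw [mul_one, inv_mul_cancel]; exact one_mem _, one_pow p⟩
    · rintro a ⟨ha, ha', ha''⟩
      refine ⟨by rw [map_inv, ha], ?_, by rw [inv_pow, ha'', inv_one]⟩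
      have e : z⁻¹ * a⁻¹ * z = (z⁻¹ * a * z)⁻¹ := by group
      rw [e]; exact inv_mem ha'
  have hEE₄ : E ≤ E₄ := fun y hy => (hE₄ y).2 ⟨hσ y hy, hfrm.tor ⟨y, hy⟩, hE.2 y hy⟩
  have hσ₄ : ∀ y ∈ E₄, m.σ y = y := fun y hy => ((hE₄ y).1 hy).1
  have hfin₄ : Finite ↥E₄ := finite_of_fix m hσ₄
  have hcomm₄ : ∀ a ∈ E₄, ∀ b ∈ E₄, a * b = b * a := by
    intro a ha b hb
    have h1 := TT_comm ((hE₄ a).1 ha).2.1 ((hE₄ b).1 hb).2.1
    have e1 : a * b = z * (z⁻¹ * a * z * (z⁻¹ * b * z)) * z⁻¹ := by group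
    have e2 : b * a = z * (z⁻¹ * b * z * (z⁻¹ * a * z)) * z⁻¹ := by group
    rw [e1, e2, h1]
  have hel₄ : IsElementaryAbelian p E₄ :=
    ⟨⟨⟨fun a b => Subtype.ext (hcomm₄ a a.2 b b.2)⟩⟩, fun a ha => ((hE₄ a).1 ha).2.2⟩
  have hc₄ : p ≤ Nat.card ↥E₄ := hc.trans (Subgroup.card_le_of_le hEE₄)
  -- the adapted frame
  obtain ⟨w, n, l, k₃, g₃, hn, hl, hk₃, F3, hg₃, hxc, hw⟩ := exists_frame hk r hme hZ m.frob hc0 F0 hsq
  obtain ⟨z₃, hz₃⟩ : ∃ z₃, z₃ = z * n * l := ⟨_, rfl⟩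
  rw [← hz₃] at hk₃
  obtain ⟨τ, hτ⟩ : ∃ τ, τ = MulAut.conj k₃ * m.σ := ⟨_, rfl⟩
  rw [← hτ] at F3 hxc
  have hτz : ∀ x, z₃ * τ x * z₃⁻¹ = m.σ (z₃ * x * z₃⁻¹) := by
    intro x
    have e1 : τ x = k₃ * m.σ x * k₃⁻¹ := by rw [hτ]; rfl
    rw [e1, ← hk₃, map_mul, map_mul, map_inv]
    group
  have hτz' : ∀ x, m.σ (z₃ * x * z₃⁻¹) = z₃ * x * z₃⁻¹ ↔ τ x = x := by
    intro x
    rw [← hτz]
    constructor
    · intro h
      exact mul_left_cancel (mul_right_cancel h)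
    · intro h; rw [h]
  obtain ⟨E₂, hE₂⟩ : ∃ E₂ : Subgroup ↥(chevE8.group (KK r)), E₂ = E₄.map (MulAut.conj z₃⁻¹).toMonoidHom := ⟨_, rfl⟩
  have hmem₂ : ∀ x, x ∈ E₂ ↔ z₃ * x * z₃⁻¹ ∈ E₄ := by
    intro x
    rw [hE₂]
    constructor
    · rintro ⟨v, hv, rfl⟩
      have : z₃ * ((MulAut.conj z₃⁻¹).toMonoidHom v) * z₃⁻¹ = v := by
        show z₃ * (z₃⁻¹ * v * z₃⁻¹⁻¹) * z₃⁻¹ = v
        group
      rw [this]; exact hv
    · intro hu
      refine ⟨_, hu, ?_⟩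
      show z₃⁻¹ * (z₃ * x * z₃⁻¹) * z₃⁻¹⁻¹ = x
      group
  have hel₂ : IsElementaryAbelian p E₂ := by
    refine ⟨⟨⟨fun a b => Subtype.ext ?_⟩⟩, fun a ha => ?_⟩
    · have h1 := hcomm₄ _ ((hmem₂ a).1 a.2) _ ((hmem₂ b).1 b.2)
      have e1 : z₃ * a.1 * z₃⁻¹ * (z₃ * b.1 * z₃⁻¹) = z₃ * (a.1 * b.1) * z₃⁻¹ := by group
      have e2 : z₃ * b.1 * z₃⁻¹ * (z₃ * a.1 * z₃⁻¹) = z₃ * (b.1 * a.1) * z₃⁻¹ := by group
      rw [e1, e2] at h1
      exact mul_left_cancel (mul_right_cancel h1)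
    · have h1 := ((hE₄ _).1 ((hmem₂ a).1 ha)).2.2
      rw [conj_pow] at h1
      exact conj_eq_one_iff.1 h1
  have hnT : ∀ t ∈ TT chevE8 (KK r), n⁻¹ * t * n ∈ TT chevE8 (KK r) := by
    intro t ht
    have h1 := hn.inv.mem_normalizer
    rw [TL_eq hp8 hk] at h1
    have h2 := (Subgroup.mem_normalizer_iff.1 h1 t).1 ht
    rwa [inv_inv] at h2
  have hE₂L : E₂ ≤ LL (KK r) := by
    intro x hx
    have h1 := ((hE₄ _).1 ((hmem₂ x).1 hx)).2.1
    have h2 := hnT _ h1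
    have e1 : x = l⁻¹ * (n⁻¹ * (z⁻¹ * (z₃ * x * z₃⁻¹) * z) * n) * l := by rw [hz₃]; group
    rw [e1]
    exact mul_mem (mul_mem (inv_mem hl) (TT_le_LL h2)) hl
  have hE₂τ : ∀ y ∈ E₂, τ y = y := fun y hy => (hτz' y).1 (hσ₄ _ ((hmem₂ y).1 hy))
  have hfin₂ : Finite ↥E₂ :=
    Finite.of_injective (fun x : ↥E₂ => (⟨z₃ * x.1 * z₃⁻¹, (hmem₂ _).1 x.2⟩ : ↥E₄)) fun a b h =>
      Subtype.ext (mul_left_cancel (mul_right_cancel (congrArg (fun z : ↥E₄ => z.1) h)))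
  -- the image
  have hcard : p ^ 2 ≤ Nat.card ↥(((E₂.subgroupOf (LL (KK r))).map piL : Subgroup ↥(chevD4.group (KK r)))) := by
    have hf1 : Finite ↥(E₂.subgroupOf (LL (KK r))) :=
      Finite.of_injective (fun x => (⟨x.1.1, x.2⟩ : ↥E₂)) fun a b h =>
        Subtype.ext (Subtype.ext (congrArg (fun z : ↥E₂ => z.1) h))
    have hf2 : Finite ↥(((E₂.subgroupOf (LL (KK r))).map piL : Subgroup ↥(chevD4.group (KK r)))) :=
      Finite.of_surjective _ (piL.subgroupMap_surjective (E₂.subgroupOf (LL (KK r))))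
    refine card_image hk r (m.frob.conj_mul c) F0 hsq hZ hp2 hpr (by rw [hmq]; exact hpq) hn hw hl _
      fun t ht htp htτ h => ?_
    refine ⟨⟨_, h⟩, ?_, rfl⟩
    show l⁻¹ * n⁻¹ * t * (l⁻¹ * n⁻¹)⁻¹ ∈ E₂
    rw [hmem₂, hE₄]
    have e1 : z₃ * (l⁻¹ * n⁻¹ * t * (l⁻¹ * n⁻¹)⁻¹) * z₃⁻¹ = z * t * z⁻¹ := by rw [hz₃]; group
    rw [e1]
    refine ⟨?_, ?_, ?_⟩
    · have e2 : c * m.σ t * c⁻¹ = t := htτ
      rw [map_mul, map_mul, map_inv]
      have e3 : m.σ z = z * c := by rw [← hc0]; group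
      rw [e3]
      have e4 : z * c * m.σ t * (z * c)⁻¹ = z * (c * m.σ t * c⁻¹) * z⁻¹ := by group
      rw [e4, e2]
    · have e2 : z⁻¹ * (z * t * z⁻¹) * z = t := by group
      rw [e2]; exact ht
    · rw [conj_pow, htp, mul_one, mul_inv_cancel]
  -- the subgroup `N`
  obtain ⟨N, hN⟩ : ∃ N : Subgroup ↥(chevE8.group (KK r)), ∀ x, x ∈ N ↔ z₃ * x * z₃⁻¹ ∈ (GamY m.ι p E₄).map m.ι :=
    ⟨((GamY m.ι p E₄).map m.ι).comap (MulAut.conj z₃).toMonoidHom, fun x => Iff.rfl⟩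
  have hφ : ∀ t : KK r, iterateFrobenius (KK r) r m.e t = t ^ q := fun t => by
    rw [iterateFrobenius_def, hmq]
  have hτ' : ∀ (s : Fin chevD4.nroots) (t : KK r), τ (xc hp8 (vec chevE8 8 (dE.σ s).val) t) =
      xc hp8 (vec chevE8 8 (dE.σ s).val) (t ^ q) := by
    intro s t
    rw [hxc _ (mem_DL.2 ⟨s, rfl⟩), hmq]
  have hL0 : ∀ x ∈ L0 f, z₃ * x * z₃⁻¹ ∈ m.ι.range := by
    intro x hx
    have key : L0 f ≤ m.ι.range.comap (MulAut.conj z₃).toMonoidHom := by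
      refine (Subgroup.closure_le _).2 ?_
      rintro _ ⟨s, t, rfl⟩
      have h1 : τ (xc hp8 (vec chevE8 8 (dE.σ s).val) (f t)) = xc hp8 (vec chevE8 8 (dE.σ s).val) (f t) :=
        tau_fix hτ' hF (xc_mem_L0 f s t)
      have h2 := (hτz' _).2 h1
      obtain ⟨a, ha⟩ := m.exists_eq h2 ⟨1, by
        rw [conj_pow, pow_one, xc_pow_r hk r s (f t), mul_one, mul_inv_cancel]⟩
      exact ⟨a, ha⟩
    exact key hx
  have hcore : ∀ (s : Fin chevD4.nroots) (t : F), xc hp8 (vec chevE8 8 (dE.σ s).val) (f t) ∈ N := by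
    refine core (τ := τ) (q := q) (φ := iterateFrobenius (KK r) r m.e) hk r (center_D4 (KK r))
      (fun x hx => (F3.tor x).2 hx) hτ' hφ hF hpq1 hqr (hG F hF) hel₂ hE₂L hE₂τ hcard N ?_
    intro x hx E' hE' hi hcom
    rw [hN]
    obtain ⟨a, ha⟩ := hL0 x hx
    refine ⟨a, mem_GamY (F := E'.map (MulAut.conj z₃).toMonoidHom) ?_ ?_ ?_, ha⟩
    · rintro _ ⟨v, hv, rfl⟩
      exact (hmem₂ v).1 (hE' hv)
    · have e1 : E₂.map (MulAut.conj z₃).toMonoidHom = E₄ := by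
        ext y
        constructor
        · rintro ⟨v, hv, rfl⟩
          exact (hmem₂ v).1 hv
        · intro hy
          refine ⟨z₃⁻¹ * y * z₃, (hmem₂ _).2 ?_, ?_⟩
          · have e : z₃ * (z₃⁻¹ * y * z₃) * z₃⁻¹ = y := by group
            rw [e]; exact hy
          · show z₃ * (z₃⁻¹ * y * z₃) * z₃⁻¹ = y
            group
      rw [← e1, Subgroup.relIndex_map_map_of_injective _ _ (MulAut.conj z₃).injective, hi]
    · rintro _ ⟨v, hv, rfl⟩
      rw [ha]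
      show z₃ * v * z₃⁻¹ * (z₃ * x * z₃⁻¹) = z₃ * x * z₃⁻¹ * (z₃ * v * z₃⁻¹)
      have h1 := hcom v hv
      calc z₃ * v * z₃⁻¹ * (z₃ * x * z₃⁻¹) = z₃ * (v * x) * z₃⁻¹ := by group
        _ = z₃ * (x * v) * z₃⁻¹ := by rw [h1]
        _ = _ := by group
  -- the root groups
  have hroot : ∀ a ∈ DL, ∀ x, x ∈ XX chevE8 8 (KK r) a → τ x = x → x ∈ N := by
    intro a ha x hx hτx
    obtain ⟨s, rfl⟩ := mem_DL.1 ha
    obtain ⟨t, rfl⟩ := (mem_XX8 ha.1).1 hx
    rw [hτ'] at hτx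
    have h1 : t ^ q = t := xc_inj hp8 (dE.σ s).2 hτx
    obtain ⟨t', rfl⟩ := (Emb.fix_iff_range (f := f) (φ := iterateFrobenius (KK r) r m.e)
      (fun t => by rw [hφ, hF]) t).1 (by rw [hφ, h1])
    exact hcore s t'
  obtain ⟨y, hy, hy1, hy2⟩ := conj_th hi_E8 hp8 cs8 hk hme hZ m.frob m.fr m.top hk₃ (by rw [← hτ]; exact F3)
    (a := sr 3) (Comb.root_mem_LL hp8 cs8 (isRoot_sr cs8 hp8.isCartan 3)) (hg₃ 3 (by simp))
  have htop : GamY m.ι p E₄ = ⊤ := by
    refine Top.gamY_of_long hi_E8 m hq (fun h => absurd h (ne_of_apply_ne ChevalleyDatum.nroots (by decide +kernel)))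
      hel₄ hσ₄ hc₄ (z := z⁻¹) (fun a ha => by rw [inv_inv]; exact ((hE₄ a).1 ha).2.1) hy fun u hu hux => ?_
    have h3 : (sr 3 : Fin 8 → ℤ) ∈ DL := sr_mem_DL (by simp)
    have hfx : τ (z₃⁻¹ * (y * u * y⁻¹) * z₃) = z₃⁻¹ * (y * u * y⁻¹) * z₃ := by
      rw [← hτz']
      have e : z₃ * (z₃⁻¹ * (y * u * y⁻¹) * z₃) * z₃⁻¹ = y * u * y⁻¹ := by group
      rw [e, map_mul, map_mul, map_inv, hy, hu]
    have h4 : z₃⁻¹ * (y * u * y⁻¹) * z₃ ∈ N := by
      rcases hux with h5 | h5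
      · exact hroot _ h3 _ (hy1 u h5) hfx
      · exact hroot _ (neg_mem_DL h3) _ (hy2 u h5) hfx
    have h5 := (hN _).1 h4
    have e : z₃ * (z₃⁻¹ * (y * u * y⁻¹) * z₃) * z₃⁻¹ = y * u * y⁻¹ := by group
    rwa [e] at h5
  rw [eq_top_iff, ← htop]
  exact GamY_mono hEE₄ hel₄ hc

/-- **X3** (and X1, X2 for `E8`): toral `E`. -/
theorem x3 (m : MData hp8 r q K₀) [IsSimpleGroup K₀] (hq : 3 ≤ q) {p : ℕ} [hpp : Fact p.Prime] (hp2 : p ≠ 2)
    (hG : p ∣ q ^ 2 + 1 → ∀ (F : Type) [Field F] [Fintype F], Fintype.card F = q → Gen p ↥(chevD4.group F))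
    {E : Subgroup ↥(chevE8.group (KK r))} (hE : IsElementaryAbelian p E) (hσ : ∀ y ∈ E, m.σ y = y)
    (hc : p ≤ Nat.card ↥E) {z : ↥(chevE8.group (KK r))} (hz : ∀ a ∈ E, z * a * z⁻¹ ∈ TT chevE8 (KK r)) :
    GamY m.ι p E = ⊤ := by
  rcases H496.Gen.T2.toral_untw (ne_of_apply_ne ChevalleyDatum.nroots (by decide +kernel))
    (ne_of_apply_ne ChevalleyDatum.nroots (by decide +kernel)) m hp2 hE hσ hc hz with h | ⟨h1, h2⟩
  · exact Top.gamY_of_sl hi_E8 m hq (fun h => absurd h (ne_of_apply_ne ChevalleyDatum.nroots (by decide +kernel)))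
      hE hσ hc hz h
  · exact exc m hq hp2 h1 (hG h1) hE hσ hc h2

end Main

end Cfsg.Agent.H230.X3
end

private theorem dce_a99d8e4f3f24 : _root_.True := by
  try have : _root_.True := by simp only [_root_.Cfsg.Agent.H230.X3.piL.congr_simp]
  exact _root_.True.intro
end
end
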